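import Cfsg.Agent.Lib.Gold1169.Big
import Cfsg.Agent.Lib.Walter4.Assembly

/-!
S1169 from its parts: the induction and the choice of a minimal strongly closed subgroup.
-/

set_option autoImplicit false
set_option linter.style.haveILetI false
set_option linter.unusedSectionVars false

namespace Cfsg.Agent.Gold1169

open Subgroup
open Cfsg.Agent.Walter4 (cen cenS ocen cor XB pre CA)

universe u

/-- The parts of the theorem. -/
structure Parts : Prop where
  kind : KindStmt.{u}
  loc : LocalStmt.{u}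
  comb : CombStmt.{u}
  fam : FamStmt.{u}
  three : ThreeStmt.{u}
  two : TwoStmt.{u}
  unitary : UnitaryStmt.{u}
  gate : GateCons.Gate.{u}
  walter : Walter4.GoodStmt.{u}

/-- No minimal counterexample. -/
theorem Parts.false_of_setup (hP : Parts.{u}) {G : Type u} [Group G] [Finite G] {S : Sylow 2 G}
    {A : Subgroup G} (hS : Setup S A) : False := by
  haveI : Fact (Nat.Prime 2) := ⟨Nat.prime_two⟩
  have hL := hP.loc G S A hS
  have h4 := hS.four
  obtain ⟨k, hk⟩ := IsPGroup.iff_card.1 hS.isPGroup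
  have hno : Nat.card A = 4 → False := fun h => by
    by_cases hx : ∃ x ∈ (S : Subgroup G), x * x = 1 ∧ x ∉ A
    · exact hP.two G S A hS hL h hx
    · push Not at hx
      exact hP.unitary G S A hS hL h hx
  rcases lt_trichotomy k 3 with hlt | rfl | hgt
  · have : k = 2 := by
      interval_cases k <;> omega
    exact hno (by rw [hk, this]; norm_num)
  · by_cases hex : ∃ a ∈ A, a ≠ 1 ∧ ∃ L, Moved A (zpowers a) L
    · exact hP.three G S A hS hL (by rw [hk]; norm_num) hex
    refine hS.false_of_big hL hP.fam (by rw [hk]; norm_num) fun W W' hW _ _ => absurd ?_ hex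
    obtain ⟨L, hM, -⟩ := hW.1.2.2
    obtain ⟨w, hw, hw1⟩ := W.bot_or_exists_ne_one.resolve_left hW.1.2.1
    obtain ⟨L₀, hM₀, -⟩ := hL.pump (zpowers w) W (hS.loc_zpowers (hW.1.1 hw) hw1)
      (hS.loc hW.1.1 hW.1.2.1) (zpowers_le.2 hw)
      (hW.1.1.trans (hS.le_cenS (zpowers_le.2 (hW.1.1 hw)))) L hM
    exact ⟨w, hW.1.1 hw, hw1, L₀, hM₀⟩
  · have h16 : 16 ≤ Nat.card A := by
      rw [hk]
      exact (Nat.pow_le_pow_right (by norm_num) (by omega : 4 ≤ k)).trans' (by norm_num)
    exact hS.false_of_big hL hP.fam (by omega) fun W W' hW hW' hne => hP.comb G S A hS hL h16 W W' hW hW' hne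

/-- The theorem. -/
theorem Parts.stmt (hP : Parts.{u}) {G : Type u} [Group G] [Finite G] [IsSimpleGroup G] (S : Sylow 2 G)
    (A : Subgroup G) (hA : A ≠ ⊥) (hAcomm : IsMulCommutative A)
    (hsc : Cfsg.IsStronglyClosed A (S : Subgroup G)) :
    IsMulCommutative (S : Subgroup G) ∨ ∃ H : Subgroup G, Cfsg.IsStronglyEmbedded H := by
  haveI : Fact (Nat.Prime 2) := ⟨Nat.prime_two⟩
  induction hn : Nat.card G using Nat.strong_induction_on generalizing G with
  | _ n ih =>
    subst hn
    by_contra hcon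
    push Not at hcon
    have hind : Ind G := fun X _ _ hlt hX hnc T B hB hBea hBsc => by
      haveI := hX
      rcases ih _ hlt T B hB hBea.1 hBsc rfl with h | h
      · refine Or.inl (hP.walter X hX hnc fun P => ⟨⟨fun a b => Subtype.ext ?_⟩⟩)
        obtain ⟨g, rfl⟩ := MulAction.exists_smul_eq X T P
        obtain ⟨a', ha', hae⟩ := a.2
        obtain ⟨b', hb', hbe⟩ := b.2
        show (a : X) * b = b * a
        rw [← hae, ← hbe]
        have e : a' * b' = b' * a' := congrArg Subtype.val (h.is_comm.comm ⟨a', ha'⟩ ⟨b', hb'⟩)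
        exact (map_mul (MulAut.conj g) a' b').symm.trans ((congrArg _ e).trans (map_mul (MulAut.conj g) b' a'))
      · exact Or.inr h
    -- the elements of order at most two of `A`
    haveI := hAcomm
    have hcA : ∀ x ∈ A, ∀ y ∈ A, x * y = y * x := fun x hx y hy =>
      congrArg Subtype.val (mul_comm' (⟨x, hx⟩ : ↥A) ⟨y, hy⟩)
    let Ω : Subgroup G :=
      { carrier := {x | x ∈ A ∧ x * x = 1}
        one_mem' := ⟨one_mem _, one_mul 1⟩
        mul_mem' := fun {a b} ha hb => ⟨mul_mem ha.1 hb.1, by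
          rw [show a * b * (a * b) = a * (b * a) * b by group, hcA b hb.1 a ha.1,
            show a * (a * b) * b = (a * a) * (b * b) by group, ha.2, hb.2, one_mul]⟩
        inv_mem' := fun {a} ha => ⟨inv_mem ha.1, by rw [← mul_inv_rev, ha.2, inv_one]⟩ }
    have hΩ : Ω ≠ ⊥ := fun h => by
      obtain ⟨x, hx, hx1⟩ := A.bot_or_exists_ne_one.resolve_left hA
      obtain ⟨k, hk⟩ := S.2 ⟨x, hsc.1 hx⟩
      obtain ⟨j, hj⟩ : ∃ j, orderOf x = 2 ^ (j + 1) := by
        have hxk : x ^ 2 ^ k = 1 := congrArg Subtype.val hk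
        obtain ⟨i, -, hi⟩ := (Nat.dvd_prime_pow Nat.prime_two).1 (orderOf_dvd_of_pow_eq_one hxk)
        cases i with
        | zero => exact absurd (orderOf_eq_one_iff.1 (by rw [hi, pow_zero])) hx1
        | succ j => exact ⟨j, hi⟩
      have hy : x ^ 2 ^ j ∈ Ω := ⟨pow_mem hx _, by
        rw [← pow_add, ← two_mul, ← pow_succ', ← hj, pow_orderOf_eq_one]⟩
      rw [h, mem_bot] at hy
      have := Nat.le_of_dvd (pow_pos (by norm_num) j) (orderOf_dvd_of_pow_eq_one hy)
      rw [hj, pow_succ] at this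
      have := Nat.two_pow_pos j
      omega
    obtain ⟨B, ⟨hB0, hBea, hBsc⟩, hmin⟩ := Set.exists_min_image
      {B : Subgroup G | B ≠ ⊥ ∧ Cfsg.IsElementaryAbelian 2 B ∧ Cfsg.IsStronglyClosed B (S : Subgroup G)}
      (fun B => Nat.card B) (Set.toFinite _)
      ⟨Ω, hΩ, ⟨⟨⟨fun a b => Subtype.ext (hcA _ a.2.1 _ b.2.1)⟩⟩, fun x hx => by rw [pow_two]; exact hx.2⟩,
        fun x hx => hsc.1 hx.1, fun x hx g hg => ⟨hsc.2 x hx.1 g hg, by
          rw [conj_mul, hx.2, mul_one, mul_inv_cancel]⟩⟩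
    refine hP.false_of_setup (S := S) (A := B)
      ⟨inferInstance, hcon.1, fun ⟨H, hH⟩ => hcon.2 H hH, hBea, hB0, hBsc, ?_, hind, hP.kind, hP.gate⟩
    intro C hC hC0 hN
    refine eq_of_le_of_card_ge hC (hmin C ⟨hC0, Signalizer.ea_mono hBea hC,
      hC.trans hBsc.1, fun x hx g hg => ?_⟩)
    · haveI := hBea.1
      obtain ⟨m, hm, he⟩ := LEAbelianClosed.controls S hBsc {x} (Set.singleton_subset_iff.2 (hBsc.1 (hC hx))) g
        (fun y hy => by obtain rfl := hy; exact hg)
      rw [he x rfl]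
      exact (mem_normalizer_iff.1 (hN hm) x).1 hx

end Cfsg.Agent.Gold1169
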