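import Cfsg.Agent.Lib.Walter4.Ctx
import Cfsg.Agent.Lib.GateCons.Statement
import Cfsg.Prelude.Def_TwoFusion
import Cfsg.Prelude.Def_Involutions

/-!
Strongly closed elementary abelian 2-subgroups `A` of a simple group `G` (S1169): the interface.

`G` is a minimal counterexample and `A` a minimal strongly closed subgroup, so `N(A)` is irreducible on
`A`. A component of `C(B) ⧸ O(C(B))` is *moved* if `A` does not centralise it; only those are used. The
system of a moved component `L` is `CA A B L`; the minimal systems give a decomposition of `A` into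
blocks. See `tools/goldschmidt/GOLD1169_helper13.md`.
-/

set_option autoImplicit false
set_option linter.style.haveILetI false
set_option linter.unusedSectionVars false

namespace Cfsg.Agent.Gold1169

open Subgroup
open Cfsg.Agent.Walter4 (cen cenS ocen cor XB pre CA Good)
open Cfsg.Agent.OddDown.CoreSep (q im)

universe u

/-! ### The known simple groups -/

/-- What is used about a simple group `K` with Sylow 2-subgroup `T` and a strongly closed elementary
abelian subgroup: `P` is the set of the involutions of `T` with 1. -/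
structure Facts (K : Type u) [Group K] (T : Sylow 2 K) (P : Subgroup K) : Prop where
  le : P ≤ (T : Subgroup K)
  mem_iff : ∀ x ∈ (T : Subgroup K), x * x = 1 ↔ x ∈ P
  comm : ∀ x ∈ P, ∀ y ∈ P, x * y = y * x
  four : 4 ≤ Nat.card P
  /-- A cyclic group of odd order regular on `P#`, normalised by the action of `N(P)`, which is odd. -/
  reg : ∃ h ∈ normalizer ((T : Subgroup K) : Set K), Odd (orderOf h) ∧
    (∀ x ∈ P, x ≠ 1 → ∀ y ∈ P, y ≠ 1 → ∃ i : ℕ, h ^ i * x * (h ^ i)⁻¹ = y) ∧
    (∀ i : ℕ, ∀ x ∈ P, x ≠ 1 → h ^ i * x * (h ^ i)⁻¹ = x → ∀ y ∈ P, h ^ i * y * (h ^ i)⁻¹ = y) ∧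
    ∀ g ∈ normalizer (P : Set K), (∃ n : ℕ, Odd n ∧ ∀ x ∈ P, g ^ n * x * (g ^ n)⁻¹ = x) ∧
      ∃ j : ℕ, ∀ x ∈ P, g * h * g⁻¹ * x * (g * h * g⁻¹)⁻¹ = h ^ j * x * (h ^ j)⁻¹
  /-- An involutory automorphism fixing `P` and trivial on `T ⧸ P` is inner by an element of `P`. -/
  inner : ∀ φ : MulAut K, φ * φ = 1 → (∀ x ∈ P, φ x = x) → (∀ x ∈ (T : Subgroup K), φ x * x⁻¹ ∈ P) →
    ∃ p ∈ P, φ = MulAut.conj p
  sol : Group.IsSolvable ↥(centralizer (P : Set K))
  /-- `T` is `P`, or some element centralising `P` is fixed-point-free on `T ⧸ P`, or squaring is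
  injective on `T ⧸ P`. -/
  vee : (T : Subgroup K) = P ∨
    (∃ d ∈ normalizer ((T : Subgroup K) : Set K), (∀ x ∈ P, d * x = x * d) ∧
      ∀ x ∈ (T : Subgroup K), d * x * d⁻¹ * x⁻¹ ∈ P → x ∈ P) ∨
    ∀ x ∈ (T : Subgroup K), ∀ y ∈ (T : Subgroup K), x * x = y * y → x * y⁻¹ ∈ P

/-- The facts hold in a simple group with abelian Sylow 2-subgroups or a strongly embedded subgroup. -/
def KindStmt : Prop :=
  ∀ (K : Type u) [Group K] [Finite K], IsSimpleGroup K → ¬ IsMulCommutative K →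
    (Good K ∨ ∃ H : Subgroup K, Cfsg.IsStronglyEmbedded H) →
    ∀ T : Sylow 2 K, ∃ P : Subgroup K, Facts K T P

/-- The induction hypothesis. -/
def Ind (G : Type u) [Group G] : Prop :=
  ∀ (X : Type u) [Group X] [Finite X], Nat.card X < Nat.card G → IsSimpleGroup X → ¬ IsMulCommutative X →
    ∀ (T : Sylow 2 X) (A : Subgroup X), A ≠ ⊥ → Cfsg.IsElementaryAbelian 2 A →
      Cfsg.IsStronglyClosed A (T : Subgroup X) → Good X ∨ ∃ H : Subgroup X, Cfsg.IsStronglyEmbedded H

/-! ### The configuration -/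

variable {G : Type u} [Group G]

/-- A minimal counterexample. -/
structure Setup [Finite G] (S : Sylow 2 G) (A : Subgroup G) : Prop where
  simple : IsSimpleGroup G
  nonabS : ¬ IsMulCommutative (S : Subgroup G)
  noSE : ¬ ∃ H : Subgroup G, Cfsg.IsStronglyEmbedded H
  ea : Cfsg.IsElementaryAbelian 2 A
  ne : A ≠ ⊥
  closed : Cfsg.IsStronglyClosed A (S : Subgroup G)
  irred : ∀ B ≤ A, B ≠ ⊥ → normalizer (A : Set G) ≤ normalizer (B : Set G) → B = A
  ind : Ind G
  kind : KindStmt.{u}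
  gate : GateCons.Gate.{u}

variable (A : Subgroup G)

/-- A component which is not centralised by `A`. -/
def Moved (B : Subgroup G) (L : Subgroup (XB B)) : Prop :=
  Cfsg.IsComponent L ∧ ¬ L ≤ centralizer (im (cenS B) A : Set (XB B))

/-- The preimage of the moved components. -/
def layA (B : Subgroup G) : Subgroup G :=
  ⨆ L : {L : Subgroup (XB B) // Moved A B L}, pre B (L : Subgroup (XB B))

/-- `h` is a torus of the moved component `L` and `U` its part of `A`, complementing `CA`. -/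
structure Torus (B : Subgroup G) (L : Subgroup (XB B)) (U : Subgroup G) (h : G) : Prop where
  mem : h ∈ pre B L
  norm : h ∈ normalizer (A : Set G)
  odd : Odd (orderOf h)
  le : U ≤ A
  /-- `U = [A, h]`. -/
  eq : U = ⁅A, zpowers h⁆
  inU : U ≤ pre B L
  inf : U ⊓ CA A B L = ⊥
  sup : U ⊔ CA A B L = A
  four : 4 ≤ Nat.card U
  fix : ∀ w ∈ CA A B L, h * w = w * h
  normU : h ∈ normalizer (U : Set G)
  trans : ∀ x ∈ U, x ≠ 1 → ∀ y ∈ U, y ≠ 1 → ∃ i : ℕ, h ^ i * x * (h ^ i)⁻¹ = y
  free : ∀ i : ℕ, ∀ x ∈ U, x ≠ 1 → h ^ i * x * (h ^ i)⁻¹ = x → ∀ y ∈ U, h ^ i * y * (h ^ i)⁻¹ = y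

/-- The 2-subgroups at which the structure is known. -/
def Loc (B : Subgroup G) : Prop := IsPGroup 2 B ∧ B ≠ ⊥ ∧ B ≤ cenS A

/-- What is used about `C(B) ⧸ O(C(B))`. -/
structure Local : Prop where
  normal : ∀ B, Loc A B → ∀ L : Subgroup (XB B), Cfsg.IsComponent L →
    im (cenS B) A ≤ normalizer (L : Set (XB B))
  torus : ∀ B, Loc A B → ∀ L, Moved A B L → ∃ U h, Torus A B L U h
  gen : ∀ B, Loc A B → cenS B ≤ cor B ⊔ layA A B ⊔ (normalizer (A : Set G) ⊓ cenS B)
  /-- Distinct moved components are orthogonal. -/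
  orth : ∀ B, Loc A B → ∀ L M : Subgroup (XB B), Moved A B L → Cfsg.IsComponent M → L ≠ M →
    ∀ U h, Torus A B L U h → U ≤ CA A B M
  /-- A moved component is a component of the centraliser of a larger subgroup centralising it. -/
  lift : ∀ B B' : Subgroup G, Loc A B → Loc A B' → B ≤ B' → ∀ L, Moved A B L →
    B' ≤ pre B (centralizer (L : Set (XB B))) →
      ∃ L' : Subgroup (XB B'), Moved A B' L' ∧ CA A B' L' = CA A B L ∧
        pre B L ≤ cor B ⊔ pre B' L' ∧ pre B' L' ≤ cor B' ⊔ pre B L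
  /-- L-balance: a moved component is covered by a single moved component. -/
  pump : ∀ B B' : Subgroup G, Loc A B → Loc A B' → B ≤ B' → B' ≤ cenS B → ∀ L', Moved A B' L' →
    ∃ L : Subgroup (XB B), Moved A B L ∧ CA A B L ≤ CA A B' L' ∧
      pre B' L' ≤ cor B' ⊔ pre B L

/-- The structure of the centralisers. -/
def LocalStmt : Prop :=
  ∀ (G : Type u) [Group G] [Finite G] (S : Sylow 2 G) (A : Subgroup G), Setup S A → Local A

/-- A system: `W = C_A(L)` for a moved component `L` of `C(W)`. -/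
def IsSys (W : Subgroup G) : Prop :=
  W ≤ A ∧ W ≠ ⊥ ∧ ∃ L : Subgroup (XB W), Moved A W L ∧ CA A W L = W

/-- A minimal system. -/
def IsMinSys (W : Subgroup G) : Prop := IsSys A W ∧ ∀ W', IsSys A W' → W' ≤ W → W' = W

/-- Two minimal systems meet. -/
def CombStmt : Prop :=
  ∀ (G : Type u) [Group G] [Finite G] (S : Sylow 2 G) (A : Subgroup G), Setup S A → Local A →
    16 ≤ Nat.card A → ∀ W W' : Subgroup G, IsMinSys A W → IsMinSys A W' → W ≠ W' → W ⊓ W' ≠ ⊥

/-! ### The functor of a family of subgroups -/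

/-- The functor of a family `Ps` of subgroups. -/
def theta (Ps : Set (Subgroup G)) (a : G) : Subgroup G :=
  ocen a ⊓ ⨅ P : Ps, Walter4.Blocks.factor (P : Subgroup G) a

/-- `L` is centralised by the image of `X`. -/
def Fixes {B : Subgroup G} (X : Subgroup G) (L : Subgroup (XB B)) : Prop :=
  L ≤ centralizer (im (cenS B) X : Set (XB B))

/-- The hypotheses on a family `Ps` of subgroups of the elementary abelian group `E`. -/
structure Fam (E : Subgroup G) (Ps : Set (Subgroup G)) : Prop where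
  ea : Cfsg.IsElementaryAbelian 2 E
  big : 8 ≤ Nat.card E
  le : ∀ P ∈ Ps, P ≤ E
  four : ∀ P ∈ Ps, 4 ≤ Nat.card P
  pair : ∀ P ∈ Ps, ∀ e ∈ P, e ≠ 1 → ∀ L : Subgroup (XB (zpowers e)), Cfsg.IsComponent L →
    Fixes P L ∨ ∃ P' ≤ E, (∀ x ∈ E, ∃ y ∈ P, ∃ z ∈ P', x = y * z) ∧ Fixes P' L
  cov : ∀ x ∈ E, x ≠ 1 → ∀ L : Subgroup (XB (zpowers x)), Cfsg.IsComponent L →
    (∃ P ∈ Ps, Fixes P L) ∨ ∀ b ∈ E, b ≠ 1 → Fixes (ocen b) L

/-- The closure of the functor of a family. -/
structure FamClosure (E : Subgroup G) (Ps : Set (Subgroup G)) (W : Subgroup G) : Prop where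
  odd : Odd (Nat.card W)
  norm : E ≤ normalizer (W : Set G)
  meet : ∀ a ∈ E, a ≠ 1 → W ⊓ cen a = theta Ps a
  /-- An element of `C(H)` normalises the closure if `H` meets each member it does not centralise. -/
  key : ∀ H ≤ E, 4 ≤ Nat.card H → ∀ k ∈ cenS H,
    (∀ P ∈ Ps, k ∈ cenS P ∨ H ⊓ P ≠ ⊥) → k ∈ normalizer (W : Set G)
  core_le : ∀ a ∈ E, a ≠ 1 → ocen a ≤ normalizer (W : Set G)

/-- Every family has a closure. -/
def FamStmt : Prop :=
  ∀ (G : Type u) [Group G] [Finite G] (E : Subgroup G) (Ps : Set (Subgroup G)),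
    Fam E Ps → ∃ W : Subgroup G, FamClosure E Ps W

/-! ### The small cases -/

/-- No configuration of rank three. -/
def ThreeStmt : Prop :=
  ∀ (G : Type u) [Group G] [Finite G] (S : Sylow 2 G) (A : Subgroup G), Setup S A → Local A →
    Nat.card A = 8 → (∃ a ∈ A, a ≠ 1 ∧ ∃ L, Moved A (zpowers a) L) → False

/-- No configuration of rank two with all involutions of `S` in `A`. -/
def UnitaryStmt : Prop :=
  ∀ (G : Type u) [Group G] [Finite G] (S : Sylow 2 G) (A : Subgroup G), Setup S A → Local A →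
    Nat.card A = 4 → (∀ x ∈ (S : Subgroup G), x * x = 1 → x ∈ A) → False

/-- No configuration of rank two with an involution of `S` outside `A`. -/
def TwoStmt : Prop :=
  ∀ (G : Type u) [Group G] [Finite G] (S : Sylow 2 G) (A : Subgroup G), Setup S A → Local A →
    Nat.card A = 4 → (∃ x ∈ (S : Subgroup G), x * x = 1 ∧ x ∉ A) → False

end Cfsg.Agent.Gold1169
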