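import Cfsg.Agent.Lib.Gold1169.Blocks

/-!
Rank at least four, or no moved component: the family of `A` and the minimal systems has a closure whose
normaliser, or the normaliser of the join of the layers of the minimal systems, ends the case.
-/

set_option autoImplicit false
set_option linter.style.haveILetI false
set_option linter.unusedSectionVars false

namespace Cfsg.Agent.Gold1169

open Subgroup
open Cfsg.Agent.Walter4 (cen cenS ocen cor XB pre CA mem_pre cor_zpowers cenS_zpowers)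
open Cfsg.Agent.OddDown.CoreSep (q im mem_im)
open scoped commutatorElement

universe u

attribute [local instance] FittingCores.pPrimeCore_normal

variable {G : Type u} [Group G] [Finite G] {S : Sylow 2 G} {A : Subgroup G}

/-- The family of `A` and the minimal systems. -/
def Ps (A : Subgroup G) : Set (Subgroup G) := {P | P = A ∨ IsMinSys A P}

/-- The involutions among the preimages of the moved components of `C(W)`. -/
def layI (A W : Subgroup G) : Subgroup G := closure {x | x ∈ layA A W ∧ x * x = 1}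

/-- Two involutions whose commutator commutes with both and has odd order commute. -/
theorem commute_of_commutator {x y : G} (hx : x * x = 1) (hy : y * y = 1) (h1 : Commute x ⁅x, y⁆)
    (ho : Odd (orderOf ⁅x, y⁆)) : x * y = y * x := by
  have hxi : x⁻¹ = x := inv_eq_of_mul_eq_one_right hx
  have hyi : y⁻¹ = y := inv_eq_of_mul_eq_one_right hy
  set c := ⁅x, y⁆ with hc
  have e : x * c * x = c⁻¹ := by
    rw [hc, commutatorElement_inv, commutatorElement_def, commutatorElement_def, hxi, hyi]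
    simp only [← mul_assoc, hx, one_mul]
  have h2 : c ^ 2 = 1 := by
    rw [h1.eq, mul_assoc, hx, mul_one] at e
    rw [pow_two]
    nth_rewrite 2 [e]
    exact mul_inv_cancel c
  have hd := orderOf_dvd_of_pow_eq_one h2
  rcases (Nat.dvd_prime Nat.prime_two).1 hd with e1 | e1
  · exact commutatorElement_eq_one_iff_mul_comm.1 (orderOf_eq_one_iff.1 e1)
  · rw [e1] at ho
    exact absurd ho (by decide)

namespace Setup

variable (hS : Setup S A)
include hS

/-- An element inverted outside the hyperplane `H` and centralised by it, from a commutator. -/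
theorem inverted_of_commutator {H X : Subgroup G} (hH : H ≤ A) (hc : Nat.card H * 2 = Nat.card A)
    (hX : A ≤ normalizer (X : Set G)) {z : G} (hz : z ∈ X) (hzH : z ∈ cenS H) {s : G} (hs : s ∈ A)
    (hsH : s ∉ H) :
    ⁅z, s⁆ ∈ X ∧ ⁅z, s⁆ ∈ cenS H ∧ ∀ t ∈ A, t ∉ H → t * ⁅z, s⁆ * t⁻¹ = ⁅z, s⁆⁻¹ := by
  have hsi := hS.inv_eq hs
  have hzc : ⁅z, s⁆ ∈ cenS H := by
    rw [commutatorElement_def]
    have hsC : s ∈ cenS H := hS.le_cenS hH hs
    exact mul_mem (mul_mem (mul_mem hzH hsC) (inv_mem hzH)) (inv_mem hsC)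
  refine ⟨CoprimeAct.commutator_le_left hX (commutator_mem_commutator hz hs), hzc, fun t ht htH => ?_⟩
  have hts := Walter4.mul_mem_hyperplane hH hc ht htH hs hsH
  have h1 : s * ⁅z, s⁆ * s⁻¹ = ⁅z, s⁆⁻¹ := by
    rw [commutatorElement_inv, commutatorElement_def, commutatorElement_def, hsi]
    simp only [mul_assoc, hS.sq hs, mul_one]
  calc t * ⁅z, s⁆ * t⁻¹ = (t * s) * (s * ⁅z, s⁆ * s⁻¹) * (t * s)⁻¹ := by
        simp only [hsi, mul_inv_rev, mul_assoc]
        simp only [← mul_assoc, hS.sq hs, one_mul]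
    _ = ⁅z, s⁆⁻¹ := by
      rw [h1, mem_centralizer_iff.1 ((cenS H).inv_mem hzc) _ hts, mul_inv_cancel_right]

/-- With a trivial functor an odd core is in any subgroup containing `C(A)` and the `C(P)`. -/
theorem ocen_le_of_theta {Q : Set (Subgroup G)} (hQ : ∀ P ∈ Q, P ≤ A)
    (hθ : ∀ a ∈ A, a ≠ 1 → theta Q a = ⊥) {M : Subgroup G} (hAM : cenS A ≤ M)
    (hQM : ∀ P ∈ Q, P ≠ A → cenS P ≤ M) {a : G} (ha : a ∈ A) (ha1 : a ≠ 1) : ocen a ≤ M := by
  haveI : Fact (Nat.Prime 2) := ⟨Nat.prime_two⟩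
  refine Signalizer.le_of_hyperplane_le hS.ea (by have := hS.four; omega)
    (Walter4.le_normalizer_ocen hS.ea ha)
    (fun h2 => Nat.prime_two.not_dvd_one ((Walter4.ocen_coprime a) ▸ Nat.dvd_gcd h2 dvd_rfl))
    fun H hH hc z hz => ?_
  have hAH : ¬ A ≤ H := fun h => by
    have := Subgroup.card_le_of_le h
    have : 0 < Nat.card H := Nat.card_pos
    omega
  by_cases hP : ∃ P ∈ Q, P ≤ H
  · obtain ⟨P, hP, hPH⟩ := hP
    exact hQM P hP (fun e => hAH (e ▸ hPH)) (centralizer_le hPH hz.2)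
  push Not at hP
  refine hAM (mem_centralizer_iff.2 fun s hs => ?_)
  by_cases hsH : s ∈ H
  · exact mem_centralizer_iff.1 hz.2 s hsH
  obtain ⟨hy, -, hinv⟩ := hS.inverted_of_commutator hH hc (Walter4.le_normalizer_ocen hS.ea ha) hz.1 hz.2 hs hsH
  have ho : Odd (orderOf ⁅z, s⁆) :=
    (Nat.coprime_two_left.1 (Walter4.ocen_coprime a).symm).of_dvd_nat (orderOf_dvd_natCard _ hy)
  have hmem : ⁅z, s⁆ ∈ theta Q a := by
    refine mem_inf.2 ⟨hy, Subgroup.mem_iInf.2 fun P => ?_⟩
    obtain ⟨t, htP, htH⟩ := SetLike.not_le_iff_exists.1 (hP P P.2)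
    exact mem_sup_left (Walter4.mem_commutator_of_inverted hy htP (hinv t (hQ P P.2 htP) htH) ho)
  rw [hθ a ha ha1, mem_bot, commutatorElement_eq_one_iff_mul_comm] at hmem
  exact hmem.symm

variable (hL : Local A)
include hL

theorem fam (h8 : 8 ≤ Nat.card A) (hmeet : ∀ W W', IsMinSys A W → IsMinSys A W' → W ≠ W' → W ⊓ W' ≠ ⊥) :
    Fam A (Ps A) where
  ea := hS.ea
  big := h8
  le P hP := hP.elim (fun e => e.le) fun h => h.1.1
  four P hP := hP.elim (fun e => e ▸ hS.four) fun h => hS.minSys_four hL hmeet h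
  pair P hP e he he1 L hLc := by
    have hPA : P ≤ A := hP.elim (fun h => h.le) fun h => h.1.1
    by_cases hM : Moved A (zpowers e) L
    · obtain ⟨-, W, hW, hWle⟩ := hS.exists_minSys hL (zpowers_le.2 (hPA he))
        (fun h => he1 (zpowers_eq_bot.1 h)) hM
      rcases hP with rfl | hP
      · exact Or.inr ⟨W, hW.1.1, fun x hx => ⟨x, hx, 1, one_mem _, (mul_one x).symm⟩, fixes_of_le_CA hWle⟩
      rcases eq_or_ne P W with rfl | hne
      · exact Or.inl (fixes_of_le_CA hWle)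
      refine Or.inr ⟨W, hW.1.1, fun x hx => ?_, fixes_of_le_CA hWle⟩
      rw [← hS.minSys_sup hL hP hW hne (hmeet P W hP hW hne)] at hx
      obtain ⟨y, hy, z, hz, he'⟩ := (SolvBasic.mem_sup_iff_of_le_normalizer
        (hW.1.1.trans ((hS.le_cenS hPA).trans (centralizer_le_normalizer _)))).1 hx
      exact ⟨y, hy, z, hz, he'⟩
    · exact Or.inl (fixes_of_not_moved hLc hM hPA)
  cov x hx hx1 L hLc := by
    left
    by_cases hM : Moved A (zpowers x) L
    · obtain ⟨-, W, hW, hWle⟩ := hS.exists_minSys hL (zpowers_le.2 hx)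
        (fun h => hx1 (zpowers_eq_bot.1 h)) hM
      exact ⟨W, Or.inr hW, fixes_of_le_CA hWle⟩
    · exact ⟨A, Or.inl rfl, fixes_of_not_moved hLc hM le_rfl⟩

/-- A moved component of `C(a)` is covered by its core and the centraliser of a larger subgroup. -/
theorem layA_le {M : Subgroup G} {a : G} (ha : a ∈ A) (ha1 : a ≠ 1) (hcore : ocen a ≤ M)
    (hcen : ∀ W, IsMinSys A W → ∀ Z ≤ A, W ≤ Z → cenS Z ≤ M) : layA A (zpowers a) ≤ M := by
  have hz : zpowers a ≤ A := zpowers_le.2 ha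
  have hz0 : zpowers a ≠ ⊥ := fun h => ha1 (zpowers_eq_bot.1 h)
  refine iSup_le fun L => ?_
  obtain ⟨-, W, hW, hWle⟩ := hS.exists_minSys hL hz hz0 L.2
  obtain ⟨L', -, -, hpre, -⟩ := hL.lift (zpowers a) (CA A (zpowers a) L.1) (hS.loc hz hz0)
    (hS.loc inf_le_left (hS.CA_ne_bot hz hz0 L.1)) (hS.le_CA hz L.1) L L.2 inf_le_right
  refine hpre.trans (sup_le ?_ (loc_pre_le.trans (hcen W hW _ inf_le_left hWle)))
  rwa [cor_zpowers]

/-- With a trivial functor, `A` centralises the core of `C(B)` for suitable `B`. -/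
theorem cor_le_cenA (hθ : ∀ a ∈ A, a ≠ 1 → theta (Ps A) a = ⊥) {B : Subgroup G} (hB : B ≤ A)
    (hB0 : B ≠ ⊥) (hcond : ∀ W, IsMinSys A W → B ≤ W ∨ B ⊔ W = A) : cor B ≤ cenS A := by
  haveI : Fact (Nat.Prime 2) := ⟨Nat.prime_two⟩
  refine Signalizer.le_of_hyperplane_le hS.ea (by have := hS.four; omega)
    ((hS.le_cenS hB).trans (Walter4.cor_normalized B))
    (fun h2 => Nat.prime_two.not_dvd_one ((Walter4.cor_coprime B) ▸ Nat.dvd_gcd h2 dvd_rfl))
    fun H hH hc z hz => mem_centralizer_iff.2 fun s hs => ?_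
  have hAH : ¬ A ≤ H := fun h => by
    have := Subgroup.card_le_of_le h
    have : 0 < Nat.card H := Nat.card_pos
    omega
  by_cases hsH : s ∈ H
  · exact mem_centralizer_iff.1 hz.2 s hsH
  by_cases hBH : B ≤ H
  swap
  · obtain ⟨b, hb, hbH⟩ := SetLike.not_le_iff_exists.1 hBH
    have hsb := mem_centralizer_iff.1 hz.2 _ (Walter4.mul_mem_hyperplane hH hc hs hsH (hB hb) hbH)
    have hzb := mem_centralizer_iff.1 (Walter4.cor_le B hz.1) b hb
    calc s * z = s * b * (b * z) := by rw [mul_assoc, ← mul_assoc b, hS.sq (hB hb), one_mul]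
      _ = s * b * z * b := by rw [hzb, ← mul_assoc]
      _ = z * (s * b) * b := by rw [hsb]
      _ = z * s := by rw [mul_assoc, mul_assoc, hS.sq (hB hb), mul_one]
  obtain ⟨hy, hyH, hinv⟩ := hS.inverted_of_commutator hH hc
    ((hS.le_cenS hB).trans (Walter4.cor_normalized B)) hz.1 hz.2 hs hsH
  set y := ⁅z, s⁆ with hydef
  have ho : Odd (orderOf y) := Walter4.orderOf_odd_of_cor hy
  obtain ⟨b, hb, hb1⟩ := B.bot_or_exists_ne_one.resolve_left hB0
  have hzb : zpowers b ≤ A := zpowers_le.2 (hB hb)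
  have hBb : B ≤ cenS (zpowers b) := hB.trans (hS.le_cenS hzb)
  have hyb : y ∈ cenS (zpowers b) := centralizer_le (zpowers_le.2 hb : zpowers b ≤ B) (Walter4.cor_le B hy)
  have hB2 : IsPGroup 2 B := hS.isPGroup.to_le hB
  have hy1 : y ∈ ocen b := by
    rw [← cor_zpowers]
    refine ⟨⟨y, hyb⟩, Walter4.mem_cor hBb hB2 hy hyb fun L hLc => ?_, rfl⟩
    rw [← Subgroup.centralizer_closure, ← zpowers_eq_closure, le_centralizer_iff, zpowers_le]
    by_cases hfix : L ≤ centralizer (im (cenS (zpowers b)) B : Set (XB (zpowers b)))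
    · exact Walter4.cor_centralizes hBb hB2 hLc hfix (mem_im hy hyb)
    have hM : Moved A (zpowers b) L := ⟨hLc, fun h => hfix (h.trans (centralizer_le (Walter4.im_mono hB)))⟩
    obtain ⟨-, W, hW, hWle⟩ := hS.exists_minSys hL hzb (fun h => hb1 (zpowers_eq_bot.1 h)) hM
    have hBW : B ⊔ W = A := (hcond W hW).resolve_left fun h => hfix (fixes_of_le_CA (A := A) (h.trans hWle))
    obtain ⟨t, htW, htH⟩ := SetLike.not_le_iff_exists.1 fun h => hAH (hBW.ge.trans (sup_le hBH h))
    have htC : t ∈ cenS (zpowers b) := hS.le_cenS hzb (hW.1.1 htW)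
    obtain ⟨_, htL⟩ := mem_pre.1 (hWle htW).2
    refine Walter4.centralizes_of_inverted (s := q (cenS (zpowers b)) ⟨t, htC⟩) htL
      (Walter4.cor_le_normalizer_component hBb hB2 hLc (mem_im hy hyb)) ?_ ?_
    · rw [← map_inv, ← map_inv, ← map_mul, ← map_mul]
      exact congrArg _ (Subtype.ext (hinv t (hW.1.1 htW) htH))
    · exact ho.of_dvd_nat ((orderOf_map_dvd _ _).trans (dvd_of_eq (orderOf_mk _ _)))
  have hmem : y ∈ theta (Ps A) b := by
    refine mem_inf.2 ⟨hy1, Subgroup.mem_iInf.2 fun P => ?_⟩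
    have hPA : (P : Subgroup G) ≤ A := P.2.elim (fun e => e.le) fun h => h.1.1
    by_cases hPH : (P : Subgroup G) ≤ H
    · have hW : IsMinSys A (P : Subgroup G) := P.2.resolve_left fun e => hAH (e ▸ hPH)
      have hBP : B ≤ (P : Subgroup G) :=
        (hcond _ hW).resolve_right fun e => hAH (e.ge.trans (sup_le hBH hPH))
      have hyP : y ∈ cenS (P : Subgroup G) := centralizer_le hPH hyH
      refine mem_sup_right (mem_inf.2 ⟨hy1, ⟨⟨y, hyP⟩, ?_, rfl⟩⟩)
      have hN : ((cor B).subgroupOf (cenS (P : Subgroup G))).Normal := ⟨fun v hv g =>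
        (mem_normalizer_iff.1 (Walter4.cor_normalized B (centralizer_le hBP g.2)) (v : G)).1 hv⟩
      refine PBasic.le_pPrimeCore hN ?_ (show _ ∈ (cor B).subgroupOf (cenS (P : Subgroup G)) from hy)
      refine Nat.Coprime.coprime_dvd_left (dvd_trans (dvd_of_eq ?_)
        (card_dvd_of_le (inf_le_left : cor B ⊓ cenS (P : Subgroup G) ≤ _))) (Walter4.cor_coprime B)
      rw [← inf_subgroupOf_right, Nat.card_congr (subgroupOfEquivOfLe inf_le_right).toEquiv]
    · obtain ⟨t, htP, htH⟩ := SetLike.not_le_iff_exists.1 hPH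
      exact mem_sup_left (Walter4.mem_commutator_of_inverted hy1 htP (hinv t (hPA htP) htH) ho)
  rw [hθ b (hB hb) hb1, mem_bot, hydef, commutatorElement_eq_one_iff_mul_comm] at hmem
  exact hmem.symm

/-- The layers of two minimal systems commute if `A` centralises the core of their intersection. -/
theorem layI_commute {W W' : Subgroup G} (hW : IsMinSys A W) (hW' : IsMinSys A W') (hne : W ≠ W')
    (hmeet : W ⊓ W' ≠ ⊥) (hcor : cor (W ⊓ W') ≤ cenS A) : layI A W ≤ cenS (layI A W') := by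
  haveI : Fact (Nat.Prime 2) := ⟨Nat.prime_two⟩
  set B := W ⊓ W' with hB
  have hBA : B ≤ A := inf_le_left.trans hW.1.1
  have hAB : A ≤ cenS B := hS.le_cenS hBA
  set D := cenS B ⊓ cenS (cor B) with hD
  have hAD : A ≤ D := _root_.le_inf hAB fun a ha => mem_centralizer_iff.2 fun c hc =>
    (mem_centralizer_iff.1 (hcor hc) a ha).symm
  have hBD : cenS B ≤ normalizer (D : Set G) :=
    (_root_.le_inf le_normalizer ((Walter4.cor_normalized B).trans
      (LELarge.normalizer_le_normalizer_centralizer _))).trans inf_normalizer_le_normalizer_inf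
  have key : ∀ V, IsMinSys A V → B ≤ V →
      ∃ L₀ : Subgroup (XB B), Moved A B L₀ ∧ CA A B L₀ = V ∧
        ∀ x ∈ layA A V, x * x = 1 → x ∈ D ∧ x ∈ pre B L₀ := by
    intro V hV hBV
    obtain ⟨LV, hMV, hCAV⟩ := hV.1.2.2
    obtain ⟨L₀, hM₀, hCA₀, hpre⟩ := hS.pump_eq hL hV hBV hmeet hMV hCAV
    refine ⟨L₀, hM₀, hCA₀, fun x hx hx2 => ?_⟩
    have hxp : x ∈ pre V LV := by
      refine (iSup_le fun L => ?_ : layA A V ≤ pre V LV) hx
      rw [hS.moved_unique hL hV hMV hCAV L.2]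
    have hxs : x ∈ cor V ⊔ pre B L₀ := hpre hxp
    have hVB : V ≤ cenS B := hV.1.1.trans hAB
    have hV2 : IsPGroup 2 V := hS.isPGroup.to_le hV.1.1
    have hcW : cor V ≤ normalizer (pre B L₀ : Set G) := fun c hc => by
      have hcB : c ∈ cenS B := centralizer_le hBV (Walter4.cor_le V hc)
      have hn := Walter4.cor_le_normalizer_component hVB hV2 hM₀.1 (mem_im hc hcB)
      refine mem_normalizer_iff.2 fun y => ⟨fun hy => ?_, fun hy => ?_⟩
      · obtain ⟨hyB, hyL⟩ := mem_pre.1 hy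
        refine mem_pre.2 ⟨mul_mem (mul_mem hcB hyB) (inv_mem hcB), ?_⟩
        show q (cenS B) (⟨c, hcB⟩ * ⟨y, hyB⟩ * ⟨c, hcB⟩⁻¹) ∈ L₀
        rw [map_mul, map_mul, map_inv]
        exact (mem_normalizer_iff.1 hn _).1 hyL
      · obtain ⟨hyB, hyL⟩ := mem_pre.1 hy
        have hyB' : y ∈ cenS B := by
          have := mul_mem (mul_mem (inv_mem hcB) hyB) hcB
          rwa [show c⁻¹ * (c * y * c⁻¹) * c = y by group] at this
        refine mem_pre.2 ⟨hyB', (mem_normalizer_iff.1 hn _).2 ?_⟩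
        rw [← map_inv, ← map_mul, ← map_mul]
        exact hyL
    rw [sup_comm] at hxs
    obtain ⟨l, hl, c, hc, hxe⟩ := (SolvBasic.mem_sup_iff_of_le_normalizer hcW).1 hxs
    subst hxe
    have hco : Odd (orderOf c) := Walter4.orderOf_odd_of_cor hc
    have hlc : l * c ∈ pre B L₀ := mem_of_sq hl (hcW hc) hco (pow_orderOf_eq_one c) hx2
    refine ⟨?_, hlc⟩
    obtain ⟨hxB, hxL⟩ := mem_pre.1 hlc
    -- the image of `D` contains the component
    have hLD : L₀ ≤ im (cenS B) D := by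
      rcases Components.component_le_or_commute hM₀.1 (H := im (cenS B) D)
        (((normal_subgroupOf_iff_le_normalizer inf_le_left).2 hBD).map _
          (QuotientGroup.mk'_surjective _)).isSubnormal with h | h
      · exact h
      · exact absurd (le_trans (commutator_eq_bot_iff_le_centralizer.1 h)
          (centralizer_le (Walter4.im_mono hAD))) hM₀.2
    obtain ⟨⟨d, hdB⟩, hd, hdq⟩ := hLD hxL
    have hd' : d⁻¹ * (l * c) ∈ cor B := ⟨⟨d, hdB⟩⁻¹ * ⟨l * c, hxB⟩, (QuotientGroup.eq_one_iff _).1 (by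
      show q (cenS B) (⟨d, hdB⟩⁻¹ * ⟨l * c, hxB⟩) = 1
      rw [map_mul, map_inv, hdq, inv_mul_cancel]), rfl⟩
    rw [← mul_inv_cancel_left d (l * c)]
    exact mem_of_sq hd (hBD (Walter4.cor_le B hd')) (Walter4.orderOf_odd_of_cor hd') (pow_orderOf_eq_one _)
      (by rw [mul_inv_cancel_left]; exact hx2)
  obtain ⟨La, hMa, hCAa, ha⟩ := key W hW inf_le_left
  obtain ⟨Lb, hMb, hCAb, hb⟩ := key W' hW' inf_le_right
  have hab : La ≠ Lb := fun e => hne (by rw [← hCAa, e, hCAb])
  refine (closure_le _).2 fun x hx => ?_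
  show x ∈ cenS (layI A W')
  rw [layI, cenS, centralizer_closure, mem_centralizer_iff]
  intro y hy
  obtain ⟨hxD, hxL⟩ := ha x hx.1 hx.2
  obtain ⟨hyD, hyL⟩ := hb y hy.1 hy.2
  obtain ⟨hxB, hxL⟩ := mem_pre.1 hxL
  obtain ⟨hyB, hyL⟩ := mem_pre.1 hyL
  have hcc : ⁅x, y⁆ ∈ cor B := by
    refine ⟨⁅(⟨x, hxB⟩ : ↥(cenS B)), ⟨y, hyB⟩⁆, (QuotientGroup.eq_one_iff _).1 ?_, rfl⟩
    show q (cenS B) ⁅(⟨x, hxB⟩ : ↥(cenS B)), ⟨y, hyB⟩⁆ = 1
    rw [map_commutatorElement, commutatorElement_eq_one_iff_mul_comm]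
    exact mem_centralizer_iff.1 (commutator_eq_bot_iff_le_centralizer.1
      (Components.components_commute hMb.1 hMa.1 (Ne.symm hab)) hyL) _ hxL
  exact (commute_of_commutator hx.2 hy.2 (mem_centralizer_iff.1 hxD.2 _ hcc).symm
    (Walter4.orderOf_odd_of_cor hcc)).symm

/-- A preimage of a moved component is its involutions and its core. -/
theorem layA_eq {W : Subgroup G} (hW : IsMinSys A W) :
    layA A W ≤ cor W ⊔ layI A W ∧ layI A W ≤ cenS W ∧ layI A W ≠ ⊥ := by
  obtain ⟨L, hM, hCA⟩ := hW.1.2.2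
  obtain ⟨U, h, hT⟩ := hL.torus W (hS.loc hW.1.1 hW.1.2.1) L hM
  have hlay : layA A W = pre W L := le_antisymm (iSup_le fun L' => by
    rw [hS.moved_unique hL hW hM hCA L'.2]) (le_iSup_of_le ⟨L, hM⟩ le_rfl)
  have hUI : ∀ u ∈ U, u ∈ layI A W := fun u hu =>
    subset_closure ⟨hlay.ge (hT.inU hu), hS.sq (hT.le hu)⟩
  have hIp : layI A W ≤ pre W L := (closure_le _).2 fun x hx => hlay.le hx.1
  refine ⟨?_, hIp.trans loc_pre_le, fun h0 => ?_⟩
  swap
  · have := hT.four
    rw [show U = ⊥ from (eq_bot_iff_forall _).2 fun u hu => mem_bot.1 (h0 ▸ hUI u hu), card_bot] at this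
    omega
  set K := im (cenS W) (layI A W) with hK
  have hKL : K ≤ L := by
    rintro _ ⟨⟨x, hxW⟩, hx, rfl⟩
    obtain ⟨_, hxL⟩ := mem_pre.1 (hIp hx)
    exact hxL
  haveI hn : (K.subgroupOf L).Normal := by
    refine (normal_subgroupOf_iff_le_normalizer hKL).2 fun l hl => ?_
    induction l using QuotientGroup.induction_on with
    | _ y =>
      have hy : (y : G) ∈ pre W L := mem_pre.2 ⟨y.2, hl⟩
      have hn : (y : G) ∈ normalizer (layI A W : Set G) := by
        rw [← LEBasic.map_conj_eq_iff_mem_normalizer]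
        refine eq_of_le_of_card_ge ?_ (LEBasic.card_map_conj _ _).ge
        rw [layI, MonoidHom.map_closure]
        refine closure_mono ?_
        rintro _ ⟨x, ⟨hx, hx2⟩, rfl⟩
        refine ⟨?_, ?_⟩
        · show (y : G) * x * (y : G)⁻¹ ∈ layA A W
          exact mul_mem (mul_mem (hlay.ge hy) hx) (inv_mem (hlay.ge hy))
        · show (y : G) * x * (y : G)⁻¹ * ((y : G) * x * (y : G)⁻¹) = 1
          rw [conj_mul, hx2, mul_one, mul_inv_cancel]
      refine le_normalizer_map (q (cenS W)) (mem_map_of_mem _ ?_)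
      rw [mem_normalizer_iff]
      exact fun v => mem_normalizer_iff.1 hn (v : G)
  have hKtop : L ≤ K := by
    rcases Components.quasisimple_normal hM.1.2 (K.subgroupOf L) with h | h
    · exact subgroupOf_eq_top.1 h
    · refine absurd hT.inf ?_
      intro hbot
      have hUC : U ≤ CA A W L := fun u hu => by
        obtain ⟨huW, huL⟩ := mem_pre.1 (hT.inU hu)
        refine ⟨hT.le hu, mem_pre.2 ⟨huW, mem_centralizer_iff.2 fun l hl => ?_⟩⟩
        exact congrArg Subtype.val (mem_center_iff.1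
          (h (show (⟨_, huL⟩ : ↥L) ∈ K.subgroupOf L from mem_im (hUI u hu) huW)) ⟨l, hl⟩)
      rw [inf_eq_left.2 hUC] at hbot
      have := hT.four
      rw [hbot, card_bot] at this
      omega
  rw [hlay]
  intro x hx
  obtain ⟨hxW, hxL⟩ := mem_pre.1 hx
  obtain ⟨⟨y, hyW⟩, hy, hyq⟩ := hKtop hxL
  have hd : x * y⁻¹ ∈ cor W := ⟨⟨x, hxW⟩ * ⟨y, hyW⟩⁻¹, (QuotientGroup.eq_one_iff _).1 (by
    show q (cenS W) (⟨x, hxW⟩ * ⟨y, hyW⟩⁻¹) = 1
    rw [map_mul, map_inv, hyq, mul_inv_cancel]), rfl⟩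
  rw [← inv_mul_cancel_right x y]
  exact mul_mem (mem_sup_left hd) (mem_sup_right hy)

/-- Rank at least four, or no moved component. -/
theorem false_of_big (hF : FamStmt.{u}) (h8 : 8 ≤ Nat.card A)
    (hmeet : ∀ W W', IsMinSys A W → IsMinSys A W' → W ≠ W' → W ⊓ W' ≠ ⊥) : False := by
  haveI : Fact (Nat.Prime 2) := ⟨Nat.prime_two⟩
  haveI := hS.simple
  obtain ⟨Wc, hWc⟩ := hF G A (Ps A) (hS.fam hL h8 hmeet)
  by_cases hb : Wc = ⊥
  swap
  · have hWtop : Wc ≠ ⊤ := fun h => by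
      have h2 := hWc.odd
      rw [h, card_top] at h2
      obtain ⟨a, ha, ha1⟩ := A.bot_or_exists_ne_one.resolve_left hS.ne
      have := orderOf_dvd_natCard a
      rw [hS.orderOf_eq ha ha1] at this
      exact (Nat.not_even_iff_odd.2 h2) (even_iff_two_dvd.2 this)
    refine hS.false_of_le hL (M := normalizer (Wc : Set G))
      (fun h => hb (hS.eq_bot_of_normal (normalizer_eq_top_iff.1 h) hWtop)) hWc.core_le
      fun a ha ha1 => hS.layA_le hL ha ha1 (hWc.core_le a ha ha1) fun W hW Z hZ hWZ k hk => ?_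
    refine hWc.key Z hZ ((hS.minSys_four hL hmeet hW).trans (Subgroup.card_le_of_le hWZ)) k hk fun P hP => ?_
    rcases hP with rfl | hP
    · right
      rw [inf_eq_left.2 hZ]
      exact fun h => hW.1.2.1 (le_bot_iff.1 (h ▸ hWZ))
    rcases eq_or_ne P W with rfl | hne
    · exact Or.inl (centralizer_le hWZ hk)
    · exact Or.inr fun h => hmeet W P hW hP hne.symm (le_bot_iff.1 (h ▸ inf_le_inf_right P hWZ))
  have hθ : ∀ a ∈ A, a ≠ 1 → theta (Ps A) a = ⊥ := fun a ha ha1 => by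
    rw [← hWc.meet a ha ha1, hb, bot_inf_eq]
  have hPsA : ∀ P ∈ Ps A, P ≤ A := fun P hP => hP.elim (fun e => e.le) fun h => h.1.1
  by_cases hex : ∃ W, IsMinSys A W
  swap
  · refine hS.false_of_le hL hS.normalizer_ne_top (fun a ha ha1 => ?_) fun a ha ha1 => iSup_le fun L => ?_
    · exact hS.ocen_le_of_theta hPsA hθ (centralizer_le_normalizer _)
        (fun P hP hne => absurd ⟨P, hP.resolve_left hne⟩ hex) ha ha1
    · exact absurd ⟨_, (hS.exists_minSys hL (zpowers_le.2 ha)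
        (fun h => ha1 (zpowers_eq_bot.1 h)) L.2).2.choose_spec.1⟩ hex
  obtain ⟨W₀, hW₀⟩ := hex
  set P := ⨆ W : {W : Subgroup G // IsMinSys A W}, layI A (W : Subgroup G) with hP
  have hcom : ∀ W W', IsMinSys A W → IsMinSys A W' → W ≠ W' → layI A W ≤ cenS (layI A W') := by
    intro W W' hW hW' hne
    refine hS.layI_commute hL hW hW' hne (hmeet W W' hW hW' hne) (hS.cor_le_cenA hL hθ
      (inf_le_left.trans hW.1.1) (hmeet W W' hW hW' hne) fun V hV => ?_)
    by_cases h1 : V = W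
    · exact Or.inl (h1 ▸ inf_le_left)
    by_cases h2 : V = W'
    · exact Or.inl (h2 ▸ inf_le_right)
    right
    obtain ⟨L, hM, hCA⟩ := hV.1.2.2
    obtain ⟨U, h, hT⟩ := hL.torus V (hS.loc hV.1.1 hV.1.2.1) L hM
    refine le_antisymm (sup_le (inf_le_left.trans hW.1.1) hV.1.1) (hT.sup.ge.trans (sup_le ?_
      (hCA.le.trans le_sup_right)))
    exact le_sup_of_le_left (_root_.le_inf
      (hS.block_le hL hV hW h1 (hmeet V W hV hW h1) hM hCA hT)
      (hS.block_le hL hV hW' h2 (hmeet V W' hV hW' h2) hM hCA hT))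
  set M := normalizer (P : Set G) with hM
  have hlayI : ∀ W, IsMinSys A W → layI A W ≤ P := fun W hW =>
    le_iSup (fun W : {W : Subgroup G // IsMinSys A W} => layI A (W : Subgroup G)) ⟨W, hW⟩
  have hAM : normalizer (A : Set G) ≤ M := fun n hn => by
    rw [hM, ← LEBasic.map_conj_eq_iff_mem_normalizer]
    refine eq_of_le_of_card_ge ?_ (LEBasic.card_map_conj P n).ge
    rw [hP, Subgroup.map_iSup]
    refine iSup_le fun W => le_trans ?_ (hlayI _ (hS.isMinSys_conj hn W.2))
    rw [layI, MonoidHom.map_closure]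
    refine closure_mono ?_
    rintro _ ⟨x, ⟨hx, hx2⟩, rfl⟩
    refine ⟨(hS.layA_conj hn _).1 ⟨x, hx, rfl⟩, ?_⟩
    show n * x * n⁻¹ * (n * x * n⁻¹) = 1
    rw [conj_mul, hx2, mul_one, mul_inv_cancel]
  have hWM : ∀ W, IsMinSys A W → cenS W ≤ M := fun W hW => by
    have hcor : cor W ≤ M := (hS.cor_le_cenA hL hθ hW.1.1 hW.1.2.1 fun V hV => by
      rcases eq_or_ne W V with rfl | hne
      · exact Or.inl le_rfl
      · exact Or.inr (hS.minSys_sup hL hW hV hne (hmeet W V hW hV hne))).trans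
      ((centralizer_le_normalizer _).trans hAM)
    exact (hL.gen W (hS.loc hW.1.1 hW.1.2.1)).trans (sup_le (sup_le hcor ((hS.layA_eq hL hW).1.trans
      (sup_le hcor ((hlayI W hW).trans le_normalizer)))) (inf_le_left.trans hAM))
  have hI0 := (hS.layA_eq hL hW₀).2.2
  have hMtop : M ≠ ⊤ := by
    intro h
    rcases (normalizer_eq_top_iff.1 h).eq_bot_or_eq_top with hb' | hb'
    · exact hI0 (le_bot_iff.1 (hb' ▸ hlayI W₀ hW₀))
    · have hn : normalizer (layI A W₀ : Set G) = ⊤ := top_le_iff.1 (hb' ▸ iSup_le fun W => by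
        by_cases hWW : (W : Subgroup G) = W₀
        · exact hWW ▸ le_normalizer
        · exact (hcom W W₀ W.2 hW₀ hWW).trans (centralizer_le_normalizer _))
      rcases (normalizer_eq_top_iff.1 hn).eq_bot_or_eq_top with hb'' | hb''
      · exact hI0 hb''
      · obtain ⟨b, hb1, hb2⟩ := W₀.bot_or_exists_ne_one.resolve_left hW₀.1.2.1
        refine hS.cen_ne_top hb2 (top_le_iff.1 ?_)
        exact hb'' ▸ (hS.layA_eq hL hW₀).2.1.trans (centralizer_le (Set.singleton_subset_iff.2 hb1))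
  have hocen : ∀ a ∈ A, a ≠ 1 → ocen a ≤ M := fun a ha ha1 =>
    hS.ocen_le_of_theta hPsA hθ ((centralizer_le_normalizer _).trans hAM)
      (fun Q hQ hne => hWM Q (hQ.resolve_left hne)) ha ha1
  exact hS.false_of_le hL hMtop hocen fun a ha ha1 =>
    hS.layA_le hL ha ha1 (hocen a ha ha1) fun W hW Z _ hWZ => (centralizer_le hWZ).trans (hWM W hW)

end Setup

end Cfsg.Agent.Gold1169
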