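import Cfsg.Agent.Lib.Gold1169.Setup
import Cfsg.Agent.Lib.Walter4.ApiProof

/-!
Systems of moved components: transport by `N(A)`, minimal systems, and the blocks `U` of `A`.
-/

set_option autoImplicit false
set_option linter.style.haveILetI false
set_option linter.unusedSectionVars false

namespace Cfsg.Agent.Gold1169

open Subgroup
open Cfsg.Agent.Walter4 (cen cenS ocen cor XB pre CA mem_pre cor_zpowers map_pre_conj)
open Cfsg.Agent.OddDown.CoreSep (q im mem_im)
open scoped commutatorElement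

universe u

attribute [local instance] FittingCores.pPrimeCore_normal

/-- An involution of `L⟨c⟩`, `c` of odd order normalising `L`, lies in `L`. -/
theorem mem_of_sq {X : Type*} [Group X] {L : Subgroup X} {l c : X} {n : ℕ}
    (hl : l ∈ L) (hc : c ∈ normalizer (L : Set X)) (hn : Odd n) (hcn : c ^ n = 1)
    (hx : (l * c) * (l * c) = 1) : l * c ∈ L := by
  have h : ∀ i : ℕ, (l * c) ^ i * (c ^ i)⁻¹ ∈ L := by
    intro i
    induction i with
    | zero => simp
    | succ i hi =>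
      rw [pow_succ', pow_succ',
        show l * c * (l * c) ^ i * (c * c ^ i)⁻¹ = l * (c * ((l * c) ^ i * (c ^ i)⁻¹) * c⁻¹) by group]
      exact mul_mem hl ((mem_normalizer_iff.1 hc _).1 hi)
  obtain ⟨k, hk⟩ := hn
  have := h n
  rw [hcn, inv_one, mul_one, hk, pow_succ, pow_mul, pow_two, hx, one_pow, one_mul] at this
  exact this

variable {G : Type u} [Group G] [Finite G] {S : Sylow 2 G} {A : Subgroup G}

theorem loc_pre_le {B : Subgroup G} {L : Subgroup (XB B)} : pre B L ≤ cenS B := Walter4.pre_le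

theorem fixes_of_le {B X : Subgroup G} {L : Subgroup (XB B)}
    (h : X ≤ pre B (centralizer (L : Set (XB B)))) : Fixes X L :=
  fixes_iff.2 (inf_le_left.trans h)

theorem fixes_of_le_CA {B X : Subgroup G} {L : Subgroup (XB B)} (h : X ≤ CA A B L) : Fixes X L :=
  fixes_of_le (h.trans inf_le_right)

theorem fixes_of_not_moved {B : Subgroup G} {L : Subgroup (XB B)} (hL : Cfsg.IsComponent L)
    (h : ¬ Moved A B L) {X : Subgroup G} (hX : X ≤ A) : Fixes X L :=
  (not_not.1 fun hn => h ⟨hL, hn⟩).trans (centralizer_le (Walter4.im_mono hX))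

theorem CA_ne {B : Subgroup G} {L : Subgroup (XB B)} (h : Moved A B L) : CA A B L ≠ A := fun e =>
  h.2 (fixes_of_le_CA (A := A) e.ge)

namespace Setup

variable (hS : Setup S A) (hL : Local A)
include hS

theorem le_CA {B : Subgroup G} (hB : B ≤ A) (L : Subgroup (XB B)) : B ≤ CA A B L := fun b hb => by
  refine ⟨hB hb, mem_pre.2 ⟨hS.le_cenS hB (hB hb), mem_centralizer_iff.2 fun k _ => ?_⟩⟩
  induction k using QuotientGroup.induction_on with
  | _ k =>
    show q (cenS B) k * q (cenS B) ⟨b, _⟩ = q (cenS B) ⟨b, _⟩ * q (cenS B) k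
    rw [← map_mul, ← map_mul]
    exact congrArg _ (Subtype.ext (mem_centralizer_iff.1 k.2 b hb).symm)

theorem CA_ne_bot {B : Subgroup G} (hB : B ≤ A) (hB0 : B ≠ ⊥) (L : Subgroup (XB B)) : CA A B L ≠ ⊥ :=
  fun h => hB0 (le_bot_iff.1 (h ▸ hS.le_CA hB L))

/-- Conjugation by `N(A)` carries moved components to moved components, and their systems along. -/
theorem moved_conj {n : G} (hn : n ∈ normalizer (A : Set G)) {B : Subgroup G} {L : Subgroup (XB B)}
    (h : Moved A B L) :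
    ∃ L' : Subgroup (XB (B.map (MulAut.conj n).toMonoidHom)), Moved A _ L' ∧
      CA A _ L' = (CA A B L).map (MulAut.conj n).toMonoidHom := by
  set B' := B.map (MulAut.conj n).toMonoidHom with hB'
  have hcen : ∀ x, x ∈ cenS B ↔ n * x * n⁻¹ ∈ cenS B' := fun x => by
    rw [hB']
    simp only [cenS, mem_centralizer_iff, SetLike.mem_coe, mem_map, MulEquiv.coe_toMonoidHom,
      MulAut.conj_apply]
    constructor
    · rintro h _ ⟨b, hb, rfl⟩
      rw [conj_mul, conj_mul, h b hb]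
    · intro h b hb
      have := h _ ⟨b, hb, rfl⟩
      rw [conj_mul, conj_mul] at this
      exact mul_left_cancel (mul_right_cancel this)
  obtain ⟨f, hf⟩ := map_pre_conj hcen
  refine ⟨L.map f.toMonoidHom, ⟨Components.component_map_equiv f h.1, fun h' => h.2 ?_⟩, ?_⟩
  · rw [fixes_iff] at h' ⊢
    rintro a ⟨ha, ha'⟩
    rw [← hf, Components.map_centralizer_equiv]
    exact h' ⟨(hS.conj_mem_iff hn).1 ha, (hcen a).1 ha'⟩
  · rw [CA, CA, ← Components.map_centralizer_equiv f L]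
    ext y
    simp only [mem_map, MulEquiv.coe_toMonoidHom, MulAut.conj_apply, mem_inf]
    constructor
    · rintro ⟨hy, hy'⟩
      refine ⟨n⁻¹ * y * n, ⟨(hS.conj_mem_iff hn).2 ?_, (hf _ _).1 ?_⟩, by group⟩ <;>
        rwa [show n * (n⁻¹ * y * n) * n⁻¹ = y by group]
    · rintro ⟨x, ⟨hx, hx'⟩, rfl⟩
      exact ⟨(hS.conj_mem_iff hn).1 hx, (hf _ x).2 hx'⟩

theorem isSys_conj {n : G} (hn : n ∈ normalizer (A : Set G)) {W : Subgroup G} (h : IsSys A W) :
    IsSys A (W.map (MulAut.conj n).toMonoidHom) := by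
  obtain ⟨hA, h0, L, hM, hW⟩ := h
  obtain ⟨L', hM', hW'⟩ := hS.moved_conj hn hM
  refine ⟨?_, fun e => h0 ((map_eq_bot_iff_of_injective _ (MulAut.conj n).injective).1 e), L', hM',
    by rw [hW', hW]⟩
  rintro _ ⟨x, hx, rfl⟩
  exact (hS.conj_mem_iff hn).1 (hA hx)

theorem isMinSys_conj {n : G} (hn : n ∈ normalizer (A : Set G)) {W : Subgroup G} (h : IsMinSys A W) :
    IsMinSys A (W.map (MulAut.conj n).toMonoidHom) := by
  refine ⟨hS.isSys_conj hn h.1, fun W' hW' hle => ?_⟩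
  have e : (W'.map (MulAut.conj n⁻¹).toMonoidHom).map (MulAut.conj n).toMonoidHom = W' := by
    rw [Subgroup.map_map]
    convert Subgroup.map_id W' using 2
    ext x
    simp [mul_assoc]
  have h2 := h.2 _ (hS.isSys_conj (inv_mem hn) hW') (by
    rintro _ ⟨y, hy, rfl⟩
    obtain ⟨x, hx, rfl⟩ := hle hy
    simpa [mul_assoc] using hx)
  rw [← e, h2]

include hL

/-- The system of a moved component contains a minimal one. -/
theorem exists_minSys {B : Subgroup G} (hB : B ≤ A) (hB0 : B ≠ ⊥) {L : Subgroup (XB B)}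
    (hM : Moved A B L) : IsSys A (CA A B L) ∧ ∃ W, IsMinSys A W ∧ W ≤ CA A B L := by
  have h0 := hS.CA_ne_bot hB hB0 L
  obtain ⟨L', hM', hCA, -, -⟩ := hL.lift B (CA A B L) (hS.loc hB hB0) (hS.loc inf_le_left h0)
    (hS.le_CA hB L) L hM inf_le_right
  have hsys : IsSys A (CA A B L) := ⟨inf_le_left, h0, L', hM', hCA⟩
  obtain ⟨W, ⟨hW, hle⟩, hmin⟩ := Set.exists_min_image {W : Subgroup G | IsSys A W ∧ W ≤ CA A B L}
    (fun W => Nat.card W) (Set.toFinite _) ⟨_, hsys, le_rfl⟩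
  exact ⟨hsys, W, ⟨hW, fun W' h' h'' => eq_of_le_of_card_ge h'' (hmin W' ⟨h', h''.trans hle⟩)⟩, hle⟩

/-- A component over a minimal system, seen in the centraliser of a smaller subgroup. -/
theorem pump_eq {W B : Subgroup G} (hW : IsMinSys A W) (hBW : B ≤ W) (hB0 : B ≠ ⊥)
    {L : Subgroup (XB W)} (hM : Moved A W L) (hCA : CA A W L = W) :
    ∃ L₀ : Subgroup (XB B), Moved A B L₀ ∧ CA A B L₀ = W ∧ pre W L ≤ cor W ⊔ pre B L₀ := by
  obtain ⟨L₀, hM₀, hle, hpre⟩ := hL.pump B W (hS.loc (hBW.trans hW.1.1) hB0) (hS.loc hW.1.1 hW.1.2.1) hBW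
    (hW.1.1.trans (hS.le_cenS (hBW.trans hW.1.1))) L hM
  rw [hCA] at hle
  exact ⟨L₀, hM₀, hW.2 _ (hS.exists_minSys hL (hBW.trans hW.1.1) hB0 hM₀).1 hle, hpre⟩

/-- A minimal system has only one moved component in its centraliser. -/
theorem moved_unique {W : Subgroup G} (hW : IsMinSys A W) {L M : Subgroup (XB W)} (hM : Moved A W L)
    (hCA : CA A W L = W) (hM' : Moved A W M) : M = L := by
  by_contra hne
  obtain ⟨U, h, hT⟩ := hL.torus W (hS.loc hW.1.1 hW.1.2.1) L hM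
  refine CA_ne hM' (le_antisymm inf_le_left ?_)
  refine hT.sup.ge.trans (sup_le (hL.orth W (hS.loc hW.1.1 hW.1.2.1) L M hM hM'.1 (Ne.symm hne) U h hT) ?_)
  rw [hCA]
  exact hS.le_CA hW.1.1 M

/-- The block of a minimal system lies in every other one. -/
theorem block_le {W W' : Subgroup G} (hW : IsMinSys A W) (hW' : IsMinSys A W') (hne : W ≠ W')
    (hmeet : W ⊓ W' ≠ ⊥) {L : Subgroup (XB W)} (hM : Moved A W L) (hCA : CA A W L = W)
    {U : Subgroup G} {h : G} (hT : Torus A W L U h) : U ≤ W' := by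
  haveI : Fact (Nat.Prime 2) := ⟨Nat.prime_two⟩
  set B := W ⊓ W' with hB
  obtain ⟨L', hM', hCA'⟩ := hW'.1.2.2
  obtain ⟨La, hMa, hCAa, hpre⟩ := hS.pump_eq hL hW inf_le_left hmeet hM hCA
  obtain ⟨Lb, hMb, hCAb, -⟩ := hS.pump_eq hL hW' inf_le_right hmeet hM' hCA'
  have hab : La ≠ Lb := fun e => hne (by rw [← hCAa, e, hCAb])
  have hBA : B ≤ A := inf_le_left.trans hW.1.1
  have hWH : W ≤ cenS B := hW.1.1.trans (hS.le_cenS hBA)
  have hW2 : IsPGroup 2 W := hS.isPGroup.to_le hW.1.1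
  have hLab : La ≤ centralizer (Lb : Set (XB B)) :=
    commutator_eq_bot_iff_le_centralizer.1 (Components.components_commute hMa.1 hMb.1 hab)
  have hcn := Walter4.cor_le_normalizer_component hWH hW2 hMb.1
  have hNC : normalizer (Lb : Set (XB B)) ≤ normalizer (centralizer (Lb : Set (XB B)) : Set (XB B)) :=
    (normal_subgroupOf_iff_le_normalizer (centralizer_le_normalizer _)).1 inferInstance
  rw [hT.eq, commutator_le]
  intro a ha t ht
  have htW : t ∈ pre W L := zpowers_le.2 hT.mem ht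
  have htN : t ∈ normalizer (A : Set G) := zpowers_le.2 hT.norm ht
  have hmA : ⁅a, t⁆ ∈ A := by
    rw [commutatorElement_def, mul_assoc, mul_assoc, ← mul_assoc t]
    exact mul_mem ha ((hS.conj_mem_iff htN).1 (inv_mem ha))
  have hcW : cor W ≤ normalizer (pre B La : Set G) := fun c hc => by
    have hcB : c ∈ cenS B := centralizer_le inf_le_left (Walter4.cor_le W hc)
    have hqc := mem_centralizer_iff.1 (Walter4.cor_centralizes hWH hW2 hMa.1
      (fixes_of_le_CA (A := A) hCAa.ge) (mem_im hc hcB))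
    refine mem_normalizer_iff.2 fun y => ⟨fun hy => ?_, fun hy => ?_⟩
    · obtain ⟨hyB, hyL⟩ := mem_pre.1 hy
      refine mem_pre.2 ⟨mul_mem (mul_mem hcB hyB) (inv_mem hcB), ?_⟩
      show q (cenS B) (⟨c, hcB⟩ * ⟨y, hyB⟩ * ⟨c, hcB⟩⁻¹) ∈ La
      rw [map_mul, map_mul, map_inv, ← hqc _ hyL, mul_inv_cancel_right]
      exact hyL
    · obtain ⟨hyB, hyL⟩ := mem_pre.1 hy
      have hyB' : y ∈ cenS B := by
        have := mul_mem (mul_mem (inv_mem hcB) hyB) hcB
        rwa [show c⁻¹ * (c * y * c⁻¹) * c = y by group] at this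
      refine mem_pre.2 ⟨hyB', ?_⟩
      have e : q (cenS B) ⟨y, hyB'⟩ =
          (q (cenS B) ⟨c, hcB⟩)⁻¹ * q (cenS B) ⟨c * y * c⁻¹, hyB⟩ * q (cenS B) ⟨c, hcB⟩ := by
        rw [← map_inv, ← map_mul, ← map_mul]
        exact congrArg _ (Subtype.ext (show y = c⁻¹ * (c * y * c⁻¹) * c by group))
      rw [e, mul_assoc, hqc _ hyL, inv_mul_cancel_left]
      exact hyL
  obtain ⟨l, hl, c, hc, rfl⟩ := (SolvBasic.mem_sup_iff_of_le_normalizer hcW).1
    (sup_comm (cor W) (pre B La) ▸ hpre htW)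
  obtain ⟨hlB, hlL⟩ := mem_pre.1 hl
  have hcB : c ∈ cenS B := centralizer_le inf_le_left (Walter4.cor_le W hc)
  have haB : a ∈ cenS B := hS.le_cenS hBA ha
  set α := q (cenS B) ⟨a, haB⟩ with hα
  set γ := q (cenS B) ⟨c, hcB⟩ with hγ
  set lam := q (cenS B) ⟨l, hlB⟩ with hlam
  have hαL : α ∈ normalizer (Lb : Set (XB B)) := hL.normal B (hS.loc hBA hmeet) Lb hMb.1 (mem_im ha haB)
  have hγL : γ ∈ normalizer (Lb : Set (XB B)) := hcn (mem_im hc hcB)
  have hac : ⁅a, c⁆ ∈ cor W := by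
    rw [commutatorElement_def]
    exact mul_mem ((mem_normalizer_iff.1 (Walter4.cor_normalized W (hS.le_cenS hW.1.1 ha)) c).1 hc)
      (inv_mem hc)
  have hacB : ⁅a, c⁆ ∈ cenS B := centralizer_le inf_le_left (Walter4.cor_le W hac)
  set δ := q (cenS B) ⟨⁅a, c⁆, hacB⟩ with hδ
  have hδe : δ = α * γ * α⁻¹ * γ⁻¹ := by
    rw [hδ, hα, hγ, ← map_inv, ← map_inv, ← map_mul, ← map_mul, ← map_mul]
    rfl
  have hδo : Odd (orderOf δ) := (Nat.coprime_two_left.1 (Walter4.cor_coprime W).symm).of_dvd_nat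
    ((orderOf_map_dvd _ _).trans ((orderOf_mk _ _).dvd.trans (orderOf_dvd_natCard _ hac)))
  refine hCAb.le ⟨hmA, mem_pre.2 ⟨hS.le_cenS hBA hmA, ?_⟩⟩
  set x := q (cenS B) ⟨⁅a, l * c⁆, hS.le_cenS hBA hmA⟩ with hx
  have hxe : x = α * (lam * γ) * α⁻¹ * (lam * γ)⁻¹ := by
    rw [hx, hα, hγ, hlam, ← map_mul, ← map_inv, ← map_inv, ← map_mul, ← map_mul, ← map_mul]
    rfl
  have hx2 : x * x = 1 := by
    rw [hx, ← map_mul]
    convert map_one (q (cenS B)) using 2
    exact Subtype.ext (hS.sq hmA)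
  have hκC : α * lam * α⁻¹ * (δ * lam⁻¹ * δ⁻¹) ∈ centralizer (Lb : Set (XB B)) := by
    have hlc : lam ∈ centralizer (Lb : Set (XB B)) := hLab hlL
    refine mul_mem ((mem_normalizer_iff.1 (hNC hαL) lam).1 hlc) ?_
    refine (mem_normalizer_iff.1 (hNC ?_) _).1 (inv_mem hlc)
    rw [hδe]
    exact mul_mem (mul_mem (mul_mem hαL hγL) (inv_mem hαL)) (inv_mem hγL)
  have e : x = α * lam * α⁻¹ * (δ * lam⁻¹ * δ⁻¹) * δ := by rw [hxe, hδe]; group
  rw [e]
  refine mem_of_sq hκC ?_ hδo (pow_orderOf_eq_one δ) (by rw [← e]; exact hx2)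
  rw [hδe]
  exact hNC (mul_mem (mul_mem (mul_mem hαL hγL) (inv_mem hαL)) (inv_mem hγL))

/-- Two minimal systems generate `A`. -/
theorem minSys_sup {W W' : Subgroup G} (hW : IsMinSys A W) (hW' : IsMinSys A W') (hne : W ≠ W')
    (hmeet : W ⊓ W' ≠ ⊥) : W ⊔ W' = A := by
  obtain ⟨L, hM, hCA⟩ := hW.1.2.2
  obtain ⟨U, h, hT⟩ := hL.torus W (hS.loc hW.1.1 hW.1.2.1) L hM
  refine le_antisymm (sup_le hW.1.1 hW'.1.1) (hT.sup.ge.trans (sup_le ?_ (hCA.le.trans le_sup_left)))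
  exact (hS.block_le hL hW hW' hne hmeet hM hCA hT).trans le_sup_right

/-- A minimal system has order at least 4. -/
theorem minSys_four (hmeet : ∀ W W', IsMinSys A W → IsMinSys A W' → W ≠ W' → W ⊓ W' ≠ ⊥)
    {W : Subgroup G} (hW : IsMinSys A W) : 4 ≤ Nat.card W := by
  obtain ⟨W', hW', hne⟩ : ∃ W', IsMinSys A W' ∧ W' ≠ W := by
    by_contra h
    push Not at h
    refine hW.1.2.1 ?_
    have hfix : normalizer (A : Set G) ≤ normalizer (W : Set G) := fun n hn => by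
      rw [← LEBasic.map_conj_eq_iff_mem_normalizer]
      exact h _ (hS.isMinSys_conj hn hW)
    have := hS.irred W hW.1.1 hW.1.2.1 hfix
    obtain ⟨L, hM, hCA⟩ := hW.1.2.2
    exact absurd (hCA.trans this) (CA_ne hM)
  obtain ⟨L, hM, hCA⟩ := hW'.1.2.2
  obtain ⟨U, h, hT⟩ := hL.torus W' (hS.loc hW'.1.1 hW'.1.2.1) L hM
  exact hT.four.trans (Subgroup.card_le_of_le (hS.block_le hL hW' hW hne (hmeet W' W hW' hW hne) hM hCA hT))

end Setup

end Cfsg.Agent.Gold1169
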