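import Cfsg.Agent.Lib.Gold1169.CombProof

/-!
`CombStmt`: two minimal systems meet.
-/

set_option autoImplicit false
set_option linter.style.haveILetI false
set_option linter.unusedSectionVars false

namespace Cfsg.Agent.Gold1169

open Subgroup
open Cfsg.Agent.Walter4 (cen cenS ocen cor XB pre CA)
open CombAux

universe u

namespace CombAux

variable {G : Type u} [Group G] [Finite G] {S : Sylow 2 G} {A : Subgroup G} (hs : Setup S A)
  (hl : Local A)
include hs hl

/-- There is no minimal system of order at most the square root of `|A|` with conjugates meeting trivially. -/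
theorem no_small (h16 : 16 ≤ Nat.card A) {W : Subgroup G} (hmin : IsMinSys A W)
    (hc : Nat.card W * Nat.card W ≤ Nat.card A) : False := by
  classical
  haveI : Fact (Nat.Prime 2) := ⟨Nat.prime_two⟩
  obtain ⟨hloc, L, U, h, hL, hCA, ht⟩ := sys_torus hs hl hmin.1
  have hy : Sys A W L U h := ⟨hmin.1.1, hmin.1.2.1, hL, hCA, ht⟩
  have hUW := W_card_le hs hl hy
  obtain ⟨a, ha⟩ := (isPGroup_of_le hs ht.le).exists_card_eq
  obtain ⟨b, hb⟩ := (isPGroup_of_le hs hy.le).exists_card_eq
  have hba : b ≤ a := by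
    by_contra hlt
    have h1 : Nat.card U < Nat.card W := by
      rw [ha, hb]; exact Nat.pow_lt_pow_right one_lt_two (by omega)
    have := Nat.mul_lt_mul_of_pos_right h1 (Nat.card_pos (α := W))
    omega
  obtain ⟨M0, hM0, hM0U⟩ := exists_in hs hl hy hmin hc
  rcases (show a = b ∨ a = b + 1 ∨ b + 2 ≤ a by omega) with hab | hab | hab
  · -- `U` is a member
    have hU : M0 = U := Subgroup.eq_of_le_of_card_ge hM0U (by rw [orb_card hs hl hM0, ha, hb, hab])
    obtain ⟨k, hk, hk'⟩ := hM0
    have hU' : U = cj k W := hU.symm.trans hk'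
    have hminU : IsMinSys A U := hU' ▸ isMinSys_cj hs hl hk hmin
    obtain ⟨hlocU, L', U', h', hL', hCA', ht'⟩ := sys_torus hs hl hminU.1
    have hy' : Sys A U L' U' h' := ⟨hminU.1.1, hminU.1.2.1, hL', hCA', ht'⟩
    have hclean : Clean A U L' := by
      refine clean_of_move hs hl hy' ht.norm ht.normU (fun x hx => ?_) fun j x hx e => ?_
      · obtain ⟨u, hu, w, hw, rfl⟩ := dec hs hl hy hx
        have h1 := fix_W hs hl hy 1 hw
        rw [pow_one] at h1
        rw [show h * (u * w) * h⁻¹ * (u * w)⁻¹ = h * u * h⁻¹ * (h * w * h⁻¹) * w⁻¹ * u⁻¹ by group, h1,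
          mul_inv_cancel_right]
        exact mul_mem ((mem_conj_iff ht.normU).2 hu) (inv_mem hu)
      · obtain ⟨m, hm⟩ := exists_pow_eq_self_of_coprime (x := h) (n := 2 ^ j)
          (Nat.Coprime.pow_left j (Nat.coprime_two_left.2 ht.odd))
        have hfix : ∀ i : ℕ, (h ^ 2 ^ j) ^ i * x * ((h ^ 2 ^ j) ^ i)⁻¹ = x := by
          intro i
          induction i with
          | zero => simp
          | succ i ih =>
            rw [pow_succ' (h ^ 2 ^ j) i]
            calc h ^ 2 ^ j * (h ^ 2 ^ j) ^ i * x * (h ^ 2 ^ j * (h ^ 2 ^ j) ^ i)⁻¹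
                = h ^ 2 ^ j * ((h ^ 2 ^ j) ^ i * x * ((h ^ 2 ^ j) ^ i)⁻¹) * (h ^ 2 ^ j)⁻¹ := by group
              _ = x := by rw [ih, e]
        have h2 := hfix m
        rw [hm] at h2
        exact moved_all hs hl hy hx h2
    exact false_of_canon hs hl hy' hminU (by rw [hU', card_cj]; exact hc) h16
      fun g hg hgU => canon hs hl hy' hclean hg hgU
  · -- two members of index two in `U`
    exfalso
    have hb2 : 2 ≤ b := by
      by_contra hb2
      have h1 : Nat.card A ≤ 8 := by
        rw [← hUW, ha, hb, hab, ← pow_add]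
        exact le_trans (Nat.pow_le_pow_right two_pos (show b + 1 + b ≤ 3 by omega)) le_rfl
      omega
    obtain ⟨u, hu, huM⟩ : ∃ u ∈ U, u ∉ M0 := by
      by_contra hall
      push Not at hall
      have h1 := Subgroup.card_le_of_le (show U ≤ M0 from hall)
      rw [orb_card hs hl hM0, ha, hb] at h1
      have := Nat.pow_lt_pow_right (a := 2) one_lt_two (show b < a by omega)
      omega
    obtain ⟨x, hx, hx1⟩ := M0.bot_or_exists_ne_one.resolve_left fun e => hy.ne (by
      have h1 := orb_card hs hl hM0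
      rw [e, card_bot] at h1
      exact card_eq_one.1 h1.symm)
    obtain ⟨i, hi⟩ := ht.trans x (hM0U hx) hx1 u hu (fun e => huM (e ▸ one_mem _))
    set M := cj (h ^ i) M0 with hM
    have hMO : M ∈ orbW A W := orb_cj hM0 (pow_mem ht.norm i)
    have hMU : M ≤ U := fun z hz => by
      have := pow_conj_mem ht.normU i (hM0U (mem_cj.1 hz))
      simpa [mul_assoc] using this
    have huM' : u ∈ M := hi ▸ conj_mem_cj hx
    have hne : M ≠ M0 := fun e => huM (e ▸ huM')
    have h1 : Nat.card W * Nat.card W ≤ Nat.card U := by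
      have h3 : Nat.card M * Nat.card M0 ≤ Nat.card U := by
        rw [← Nat.card_prod]
        refine Nat.card_le_card_of_injective (fun p : M × M0 =>
          (⟨p.1 * p.2, mul_mem (hMU p.1.2) (hM0U p.2.2)⟩ : U)) fun p r e => ?_
        have e' : (p.1 : G) * p.2 = r.1 * r.2 := congrArg Subtype.val e
        have h4 : (r.1 : G)⁻¹ * p.1 = r.2 * (p.2 : G)⁻¹ := by
          calc (r.1 : G)⁻¹ * p.1 = (r.1 : G)⁻¹ * (p.1 * p.2) * (p.2 : G)⁻¹ := by group
            _ = _ := by rw [e']; group
        have h5 : (r.1 : G)⁻¹ * p.1 = 1 := by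
          by_contra h6
          exact hne (orb_eq hs hl hy hmin hc hMO hM0 (mul_mem (inv_mem r.1.2) p.1.2)
            (h4 ▸ mul_mem r.2.2 (inv_mem p.2.2)) h6)
        have h6 : (r.1 : G) = p.1 := inv_mul_eq_one.1 h5
        rw [← h6] at e'
        exact Prod.ext (Subtype.ext h6.symm) (Subtype.ext (mul_left_cancel e'))
      rwa [orb_card hs hl hMO, orb_card hs hl hM0] at h3
    rw [ha, hb, hab, ← pow_add] at h1
    have := (Nat.pow_le_pow_iff_right one_lt_two).1 h1
    omega
  · obtain ⟨M1, ⟨k, hk, rfl⟩, hne, -⟩ := exists_out hs hl hy hmin hc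
    have hbig : 4 * Nat.card W ≤ Nat.card U := by
      rw [ha, hb, show (4 : ℕ) = 2 ^ 2 by norm_num, ← pow_add]
      exact Nat.pow_le_pow_right two_pos (by omega)
    exact false_of_canon hs hl hy hmin hc h16
      fun g hg hgW => canon hs hl hy (clean_of_big hs hl hy hbig hk hmin hne hc) hg hgW

end CombAux

/-- Two minimal systems meet. -/
theorem combStmt : CombStmt.{u} := by
  intro G _ _ S A hs hl h16 W W' hW hW' hne hi
  wlog hle : Nat.card W ≤ Nat.card W' generalizing W W'
  · exact this W' W hW' hW hne.symm (by rw [inf_comm]; exact hi) (le_of_not_ge hle)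
  refine CombAux.no_small hs hl h16 hW ?_
  refine le_trans (Nat.mul_le_mul_left _ hle) ?_
  rw [← Nat.card_prod]
  refine Nat.card_le_card_of_injective (fun p : W × W' =>
    (⟨p.1 * p.2, mul_mem (hW.1.1 p.1.2) (hW'.1.1 p.2.2)⟩ : A)) fun p r e => ?_
  have e' : (p.1 : G) * p.2 = r.1 * r.2 := congrArg Subtype.val e
  have h4 : (r.1 : G)⁻¹ * p.1 = r.2 * (p.2 : G)⁻¹ := by
    calc (r.1 : G)⁻¹ * p.1 = (r.1 : G)⁻¹ * (p.1 * p.2) * (p.2 : G)⁻¹ := by group
      _ = _ := by rw [e']; group
  have h5 : (r.1 : G)⁻¹ * p.1 = 1 := mem_bot.1 (hi ▸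
    Subgroup.mem_inf.2 ⟨mul_mem (inv_mem r.1.2) p.1.2, h4 ▸ mul_mem r.2.2 (inv_mem p.2.2)⟩)
  have h6 : (r.1 : G) = p.1 := inv_mul_eq_one.1 h5
  rw [← h6] at e'
  exact Prod.ext (Subtype.ext h6.symm) (Subtype.ext (mul_left_cancel e'))

end Cfsg.Agent.Gold1169
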