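import Cfsg.Agent.Lib.Gold1169.Base
import Cfsg.Agent.Lib.Walter4.Systems
import Cfsg.Agent.Lib.LocalEven.AbelianClosed
import Cfsg.Agent.S1249
import Mathlib.GroupTheory.Focal

/-!
First consequences of a configuration, for the combinatorics of systems.
-/

set_option autoImplicit false
set_option linter.style.haveILetI false
set_option linter.unusedSectionVars false

namespace Cfsg.Agent.Gold1169.CombAux

open Subgroup
open Cfsg.Agent.Walter4 (cen cenS ocen cor XB pre CA mem_pre)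
open Cfsg.Agent.OddDown.CoreSep (q im mem_im)
open scoped commutatorElement

universe u

variable {G : Type u} [Group G]

/-- The conjugate of a subgroup. -/
def cj (g : G) (X : Subgroup G) : Subgroup G := X.map (MulAut.conj g).toMonoidHom

theorem mem_cj {g x : G} {X : Subgroup G} : x ∈ cj g X ↔ g⁻¹ * x * g ∈ X := by
  rw [cj, Subgroup.mem_map_equiv, MulAut.conj_symm_apply]

theorem conj_mem_cj {g x : G} {X : Subgroup G} (hx : x ∈ X) : g * x * g⁻¹ ∈ cj g X :=
  mem_cj.2 (by simpa [mul_assoc] using hx)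

theorem cj_one (X : Subgroup G) : cj 1 X = X := by
  ext x; simp [mem_cj]

theorem cj_mul (g h : G) (X : Subgroup G) : cj (g * h) X = cj g (cj h X) := by
  ext x
  simp only [mem_cj, mul_inv_rev, mul_assoc]

theorem cj_eq_self {g : G} {X : Subgroup G} (h : g ∈ normalizer (X : Set G)) : cj g X = X := by
  ext x
  rw [mem_cj, (mem_normalizer_iff.1 (inv_mem h)) x, inv_inv]

theorem mem_normalizer_of_cj {g : G} {X : Subgroup G} (h : cj g X = X) : g ∈ normalizer (X : Set G) :=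
  mem_normalizer_iff.2 fun x => ⟨fun hx => h ▸ conj_mem_cj hx, fun hx => by
    rw [← h, mem_cj] at hx
    simpa [mul_assoc] using hx⟩

theorem card_cj (g : G) (X : Subgroup G) : Nat.card (cj g X) = Nat.card X :=
  Subgroup.card_map_of_injective (MulAut.conj g).injective

theorem mem_conj_iff {g : G} {X : Subgroup G} (hg : g ∈ normalizer (X : Set G)) {x : G} :
    g * x * g⁻¹ ∈ X ↔ x ∈ X :=
  (mem_normalizer_iff.1 hg x).symm

theorem pow_conj_mem {g : G} {X : Subgroup G} (hg : g ∈ normalizer (X : Set G)) (i : ℕ) {x : G}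
    (hx : x ∈ X) : g ^ i * x * (g ^ i)⁻¹ ∈ X :=
  (mem_conj_iff (pow_mem hg i)).2 hx

/-- `g` acts trivially on `A ⧸ W`. -/
def Triv (A W : Subgroup G) (g : G) : Prop := ∀ a ∈ A, g * a * g⁻¹ * a⁻¹ ∈ W

variable [Finite G] {S : Sylow 2 G} {A : Subgroup G} (hs : Setup S A)
include hs

theorem sq {x : G} (hx : x ∈ A) : x * x = 1 := by
  rw [← pow_two]; exact hs.ea.2 x hx

theorem comm {x y : G} (hx : x ∈ A) (hy : y ∈ A) : x * y = y * x := by
  haveI := hs.ea.1
  exact congrArg Subtype.val (mul_comm' (⟨x, hx⟩ : A) ⟨y, hy⟩)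

theorem inv_eq {x : G} (hx : x ∈ A) : x⁻¹ = x := inv_eq_of_mul_eq_one_right (sq hs hx)

theorem A_le_cen : A ≤ cenS A := fun _ hx =>
  mem_centralizer_iff.2 fun _ hy => comm hs hy hx

theorem le_cenS {B : Subgroup G} (hB : B ≤ A) : A ≤ cenS B := fun _ hx =>
  mem_centralizer_iff.2 fun _ hy => comm hs (hB hy) hx

theorem isPGroup_of_le {B : Subgroup G} (hB : B ≤ A) : IsPGroup 2 B :=
  S.isPGroup'.to_le (hB.trans hs.closed.1)

theorem loc {B : Subgroup G} (hB : B ≤ A) (hB0 : B ≠ ⊥) : Loc A B :=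
  ⟨isPGroup_of_le hs hB, hB0, hB.trans (A_le_cen hs)⟩

theorem nonab : ¬ IsMulCommutative G := fun h =>
  hs.nonabS ⟨⟨fun x y => Subtype.ext (mul_comm' (x : G) y)⟩⟩

theorem S_le : (S : Subgroup G) ≤ normalizer (A : Set G) := fun g hg =>
  mem_normalizer_iff.2 fun x => ⟨fun hx => hs.closed.2 x hx g
    (mul_mem (mul_mem hg (hs.closed.1 hx)) (inv_mem hg)), fun hx => by
      have := hs.closed.2 _ hx g⁻¹ (mul_mem (mul_mem (inv_mem hg) (hs.closed.1 hx)) (inv_mem (inv_mem hg)))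
      simpa [mul_assoc] using this⟩

/-- A conjugate of an element of `A` in a 2-group containing `A` is in `A`. -/
theorem closed_in {R : Subgroup G} (hR : IsPGroup 2 R) (hAR : A ≤ R) {x : G} (hx : x ∈ A) (g : G)
    (hgx : g * x * g⁻¹ ∈ R) : g * x * g⁻¹ ∈ A := by
  haveI : Fact (Nat.Prime 2) := ⟨Nat.prime_two⟩
  obtain ⟨Q, hQ⟩ := hR.exists_le_sylow
  exact (S1249.result S Q A (hAR.trans hQ) hs.closed).2 x hx g (hQ hgx)

theorem le_normalizer_of_two {R : Subgroup G} (hR : IsPGroup 2 R) (hAR : A ≤ R) :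
    R ≤ normalizer (A : Set G) := fun g hg =>
  mem_normalizer_iff.2 fun x => ⟨fun hx =>
    closed_in hs hR hAR hx g (mul_mem (mul_mem hg (hAR hx)) (inv_mem hg)), fun hx => by
      have := closed_in hs hR hAR hx g⁻¹ (mul_mem (mul_mem (inv_mem hg) (hAR hx)) (inv_mem (inv_mem hg)))
      simpa [mul_assoc] using this⟩

/-- `N(A)` has no subgroup of index two. -/
theorem no_index_two {H : Subgroup G} (hH : H ≤ normalizer (A : Set G)) :
    H.relIndex (normalizer (A : Set G)) ≠ 2 := by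
  intro h2
  haveI : Fact (Nat.Prime 2) := ⟨Nat.prime_two⟩
  haveI := hs.simple
  haveI := hs.ea.1
  have hcomm : _root_.commutator G = ⊤ := by
    rcases (inferInstance : (_root_.commutator G).Normal).eq_bot_or_eq_top with h | h
    · refine absurd ⟨⟨fun x y => ?_⟩⟩ (nonab hs)
      have : ⁅x, y⁆ ∈ _root_.commutator G :=
        Subgroup.commutator_mem_commutator (mem_top x) (mem_top y)
      rwa [h, mem_bot, commutatorElement_eq_one_iff_mul_comm] at this
    · exact h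
  set N := normalizer (A : Set G) with hN
  haveI hn : (H.subgroupOf N).Normal := Subgroup.normal_of_index_eq_two h2
  have hf : (S : Subgroup G).focalSubgroup ≤ H := by
    rw [focalSubgroup_def, closure_le]
    rintro _ ⟨hmem, x, hx, g, rfl⟩
    have h1 : g * x⁻¹ * g⁻¹ ∈ (S : Subgroup G) := by
      have := mul_mem (inv_mem hx) hmem
      rwa [commutatorElement_def, show x⁻¹ * (x * g * x⁻¹ * g⁻¹) = g * x⁻¹ * g⁻¹ by group] at this
    obtain ⟨n, hn', hnx⟩ := LEAbelianClosed.controls S hs.closed {x⁻¹}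
      (Set.singleton_subset_iff.2 (inv_mem hx)) g (fun a ha => by
        rw [Set.mem_singleton_iff.1 ha]; exact h1)
    have e : ⁅x, g⁆ = ⁅x, n⁆ := by
      have := hnx x⁻¹ rfl
      rw [commutatorElement_def, commutatorElement_def, mul_assoc x g, mul_assoc x (g * x⁻¹),
        mul_assoc x n, mul_assoc x (n * x⁻¹), this]
    rw [e]
    have hxN : x ∈ N := S_le hs hx
    have hq : ((⟨⁅x, n⁆, by
        rw [commutatorElement_def]
        exact mul_mem (mul_mem (mul_mem hxN hn') (inv_mem hxN)) (inv_mem hn')⟩ : N)) ∈ H.subgroupOf N := by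
      have hc : ∀ a b : N ⧸ H.subgroupOf N, a * b = b * a := by
        intro a b
        haveI : Fact (Nat.Prime 2) := ⟨Nat.prime_two⟩
        haveI : IsCyclic (N ⧸ H.subgroupOf N) := isCyclic_of_prime_card (p := 2) h2
        haveI := IsCyclic.isMulCommutative (α := N ⧸ H.subgroupOf N)
        exact mul_comm' a b
      refine (QuotientGroup.eq_one_iff _).1 ?_
      show QuotientGroup.mk' (H.subgroupOf N) ⁅(⟨x, hxN⟩ : N), ⟨n, hn'⟩⁆ = 1
      rw [map_commutatorElement, commutatorElement_eq_one_iff_mul_comm, hc]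
    exact hq
  have hSH : (S : Subgroup G) ≤ H := by
    rw [← commutator_inf_eq_focalSubgroup, hcomm, top_inf_eq] at hf
    exact hf
  have : 2 ∣ (S : Subgroup G).index := by
    have h3 := (relIndex_dvd_of_le_left N hSH).trans (relIndex_dvd_index_of_le (S_le hs))
    rwa [h2] at h3
  exact S.not_dvd_index this

theorem cenS_lt {B : Subgroup G} (hB : B ≤ A) (hB0 : B ≠ ⊥) : Nat.card (cenS B) < Nat.card G := by
  refine lt_of_le_of_ne (Nat.le_of_dvd Nat.card_pos (card_subgroup_dvd_card _)) fun h => ?_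
  have htop : cenS B = ⊤ := Subgroup.eq_top_of_card_eq _ h
  obtain ⟨b, hb, hb1⟩ := B.bot_or_exists_ne_one.resolve_left hB0
  have hz : b ∈ center G := mem_center_iff.2 fun g =>
    (mem_centralizer_iff.1 (htop ▸ mem_top g : g ∈ cenS B) b hb).symm
  haveI := hs.simple
  rcases (inferInstance : (center G).Normal).eq_bot_or_eq_top with hc | hc
  · exact hb1 (mem_bot.1 (hc ▸ hz))
  · exact nonab hs ⟨⟨fun x y => mem_center_iff.1 (hc ▸ mem_top y) x⟩⟩

/-- An element of `A` with trivial image in `C(B) ⧸ O(C(B))` is trivial. -/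
theorem eq_one_of_q {B : Subgroup G} {x : G} (hx : x ∈ A) (hxB : x ∈ cenS B)
    (h : q (cenS B) ⟨x, hxB⟩ = 1) : x = 1 := by
  haveI : Fact (Nat.Prime 2) := ⟨Nat.prime_two⟩
  exact PBasic.eq_one_of_isPGroup_of_coprime (isPGroup_of_le hs le_rfl) hx
    (PBasic.coprime_orderOf_of_mem (Walter4.cor_coprime B) ⟨_, (QuotientGroup.eq_one_iff _).1 h, rfl⟩)

theorem le_CA {B : Subgroup G} (hB : B ≤ A) (L : Subgroup (XB B)) : B ≤ CA A B L := fun b hb => by
  refine ⟨hB hb, mem_pre.2 ⟨le_cenS hs hB (hB hb), mem_centralizer_iff.2 fun k _ => ?_⟩⟩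
  induction k using QuotientGroup.induction_on with
  | _ k =>
    show q (cenS B) k * q (cenS B) ⟨b, _⟩ = q (cenS B) ⟨b, _⟩ * q (cenS B) k
    rw [← map_mul, ← map_mul]
    exact congrArg _ (Subtype.ext (mem_centralizer_iff.1 k.2 b hb).symm)

omit hs in
theorem CA_le {B : Subgroup G} (L : Subgroup (XB B)) : CA A B L ≤ A := inf_le_left

theorem decomp {U W : Subgroup G} (hU : U ≤ A) (hW : W ≤ A) (hsup : U ⊔ W = A) {a : G} (ha : a ∈ A) :
    ∃ u ∈ U, ∃ w ∈ W, a = u * w := by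
  let K : Subgroup G :=
    { carrier := {a | ∃ u ∈ U, ∃ w ∈ W, a = u * w}
      one_mem' := ⟨1, one_mem _, 1, one_mem _, by simp⟩
      mul_mem' := by
        rintro a b ⟨u, hu, w, hw, rfl⟩ ⟨u', hu', w', hw', rfl⟩
        refine ⟨u * u', mul_mem hu hu', w * w', mul_mem hw hw', ?_⟩
        rw [mul_assoc, ← mul_assoc w, comm hs (hW hw) (hU hu'), mul_assoc u u', mul_assoc u' w w']
      inv_mem' := by
        rintro a ⟨u, hu, w, hw, rfl⟩
        refine ⟨u⁻¹, inv_mem hu, w⁻¹, inv_mem hw, ?_⟩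
        rw [mul_inv_rev, comm hs (inv_mem (hW hw)) (inv_mem (hU hu))] }
  have hle : U ⊔ W ≤ K :=
    sup_le (fun u hu => ⟨u, hu, 1, one_mem _, (mul_one u).symm⟩)
      (fun w hw => ⟨1, one_mem _, w, hw, (one_mul w).symm⟩)
  rw [hsup] at hle
  exact hle ha

/-- The order of `A` is the product. -/
theorem card_mul {U W : Subgroup G} (hU : U ≤ A) (hW : W ≤ A) (hi : U ⊓ W = ⊥) (hsup : U ⊔ W = A) :
    Nat.card U * Nat.card W = Nat.card A := by
  rw [← Nat.card_prod]
  refine Nat.card_eq_of_bijective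
    (fun x : U × W => (⟨x.1 * x.2, mul_mem (hU x.1.2) (hW x.2.2)⟩ : A)) ⟨?_, ?_⟩
  · rintro ⟨u, w⟩ ⟨u', w'⟩ e
    have e' : (u : G) * w = u' * w' := congrArg Subtype.val e
    have hmem : (u' : G)⁻¹ * u = w' * (w : G)⁻¹ := by
      calc (u' : G)⁻¹ * u = (u' : G)⁻¹ * (u * w) * (w : G)⁻¹ := by group
        _ = _ := by rw [e']; group
    have h1 : (u' : G)⁻¹ * u = 1 := mem_bot.1 (hi ▸
      Subgroup.mem_inf.2 ⟨mul_mem (inv_mem u'.2) u.2, hmem ▸ mul_mem w'.2 (inv_mem w.2)⟩)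
    have hu : (u : G) = u' := (inv_mul_eq_one.1 h1).symm
    rw [hu] at e'
    exact Prod.ext (Subtype.ext hu) (Subtype.ext (mul_left_cancel e'))
  · rintro ⟨a, ha⟩
    obtain ⟨u, hu, w, hw, rfl⟩ := decomp hs hU hW hsup ha
    exact ⟨(⟨u, hu⟩, ⟨w, hw⟩), rfl⟩

variable (hl : Local A)
include hl

/-- A moved component with the same centraliser in `A` as a given one is that one. -/
theorem moved_eq {B : Subgroup G} (hB : Loc A B) {L M : Subgroup (XB B)} (hL : Moved A B L)
    (hM : Moved A B M) (h : CA A B L = CA A B M) : L = M := by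
  by_contra hne
  obtain ⟨U, g, ht⟩ := hl.torus B hB L hL
  have h1 := hl.orth B hB L M hL hM.1 hne U g ht
  rw [← h] at h1
  have h4 := ht.four
  rw [show U = ⊥ from le_bot_iff.1 (ht.inf ▸ le_inf le_rfl h1), card_bot] at h4
  omega

/-- The torus of a system. -/
theorem sys_torus {W : Subgroup G} (hW : IsSys A W) :
    Loc A W ∧ ∃ L U h, Moved A W L ∧ CA A W L = W ∧ Torus A W L U h := by
  obtain ⟨hWA, hW0, L, hL, hCA⟩ := hW
  obtain ⟨U, h, ht⟩ := hl.torus W (loc hs hWA hW0) L hL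
  exact ⟨loc hs hWA hW0, L, U, h, hL, hCA, ht⟩

theorem sys_ne {W : Subgroup G} (hW : IsSys A W) : W ≠ A := by
  obtain ⟨-, L, U, h, hL, hCA, ht⟩ := sys_torus hs hl hW
  intro e
  have h4 := ht.four
  rw [show U = ⊥ from le_bot_iff.1 (ht.inf ▸ le_inf le_rfl ((hCA.trans e).symm ▸ ht.le)), card_bot] at h4
  omega

/-- Two minimal systems which meet are orthogonal. -/
theorem share {W W' : Subgroup G} (hW : IsMinSys A W) (hW' : IsMinSys A W') (hne : W ≠ W')
    (hi : W ⊓ W' ≠ ⊥) :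
    ∃ U ≤ W', U ⊓ W = ⊥ ∧ Nat.card U * Nat.card W = Nat.card A := by
  obtain ⟨w, hw, hw1⟩ := (W ⊓ W').bot_or_exists_ne_one.resolve_left hi
  have hB : zpowers w ≤ A := zpowers_le.2 (hW.1.1 hw.1)
  have hB0 : zpowers w ≠ ⊥ := fun h => hw1 (zpowers_eq_bot.1 h)
  have key : ∀ V, IsMinSys A V → w ∈ V →
      ∃ L, Moved A (zpowers w) L ∧ CA A (zpowers w) L = V := by
    rintro V ⟨⟨hVA, hV0, L', hL', hCA'⟩, hmin⟩ hwV
    obtain ⟨L, hL, hle, -⟩ := hl.pump (zpowers w) V (loc hs hB hB0) (loc hs hVA hV0) (zpowers_le.2 hwV) (hVA.trans (le_cenS hs hB)) L' hL'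
    refine ⟨L, hL, ?_⟩
    set B' := CA A (zpowers w) L with hB'
    have hBB' : zpowers w ≤ B' := le_CA hs hB L
    have hB'0 : B' ≠ ⊥ := fun h => hB0 (le_bot_iff.1 (h ▸ hBB'))
    obtain ⟨L'', hL'', hCA'', -, -⟩ :=
      hl.lift (zpowers w) B' (loc hs hB hB0) (loc hs inf_le_left hB'0) hBB' L hL inf_le_right
    exact hmin B' ⟨inf_le_left, hB'0, L'', hL'', hCA''⟩ (hCA' ▸ hle)
  obtain ⟨L, hL, hCA⟩ := key W hW hw.1
  obtain ⟨M, hM, hCA'⟩ := key W' hW' hw.2
  obtain ⟨U, g, ht⟩ := hl.torus (zpowers w) (loc hs hB hB0) L hL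
  have hLM : L ≠ M := fun e => hne (hCA.symm.trans (by rw [e]; exact hCA'))
  refine ⟨U, hCA' ▸ hl.orth _ (loc hs hB hB0) L M hL hM.1 hLM U g ht, hCA ▸ ht.inf, ?_⟩
  exact card_mul hs ht.le hW.1.1 (hCA ▸ ht.inf) (hCA ▸ ht.sup)

/-- Conjugation by `N(A)` permutes the systems. -/
theorem isSys_cj {g : G} (hg : g ∈ normalizer (A : Set G)) {W : Subgroup G} (hW : IsSys A W) :
    IsSys A (cj g W) := by
  have hne := sys_ne hs hl hW
  obtain ⟨hA, h0, K, hK, hCA⟩ := hW
  have hcen : ∀ x, x ∈ cenS W ↔ g * x * g⁻¹ ∈ cenS (cj g W) := fun x => by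
    simp only [cenS, mem_centralizer_iff, SetLike.mem_coe, mem_cj]
    constructor
    · intro h b hb
      have := h _ hb
      calc b * (g * x * g⁻¹) = g * (g⁻¹ * b * g * x) * g⁻¹ := by group
        _ = g * (x * (g⁻¹ * b * g)) * g⁻¹ := by rw [this]
        _ = g * x * g⁻¹ * b := by group
    · intro h b hb
      have := h (g * b * g⁻¹) (by rw [show g⁻¹ * (g * b * g⁻¹) * g = b by group]; exact hb)
      rw [conj_mul, conj_mul] at this
      exact mul_left_cancel (mul_right_cancel this)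
  obtain ⟨f, hf⟩ := Walter4.map_pre_conj hcen
  have hW'A : cj g W ≤ A := fun x hx => by
    have h1 := (mem_conj_iff hg).2 (hA (mem_cj.1 hx))
    simpa [mul_assoc] using h1
  have hCA' : CA A (cj g W) (K.map f.toMonoidHom) = cj g W := by
    rw [CA, ← Components.map_centralizer_equiv f K]
    ext x
    obtain ⟨y, rfl⟩ : ∃ y, g * y * g⁻¹ = x := ⟨g⁻¹ * x * g, by group⟩
    rw [mem_inf, hf, mem_conj_iff hg, mem_cj, show g⁻¹ * (g * y * g⁻¹) * g = y by group]
    conv_rhs => rw [← hCA, CA]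
    rfl
  have h0' : cj g W ≠ ⊥ := fun h => h0 ((map_eq_bot_iff_of_injective _ (MulAut.conj g).injective).1 h)
  refine ⟨hW'A, h0', K.map f.toMonoidHom, ⟨Components.component_map_equiv f hK.1, fun hc => hne ?_⟩, hCA'⟩
  have hWA : cj g W = A := le_antisymm hW'A fun a ha => by
    rw [← hCA']
    exact ⟨ha, mem_pre.2 ⟨le_cenS hs hW'A ha, mem_centralizer_iff.2 fun k hk =>
      (mem_centralizer_iff.1 (hc hk) _ (mem_im ha (le_cenS hs hW'A ha))).symm⟩⟩
  exact Subgroup.eq_of_le_of_card_ge hA (by rw [← card_cj g W, hWA])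

theorem isMinSys_cj {g : G} (hg : g ∈ normalizer (A : Set G)) {W : Subgroup G} (hW : IsMinSys A W) :
    IsMinSys A (cj g W) := by
  refine ⟨isSys_cj hs hl hg hW.1, fun V hV hle => ?_⟩
  have h1 : cj g⁻¹ V = W := hW.2 _ (isSys_cj hs hl (inv_mem hg) hV) fun x hx => by
    have := mem_cj.1 (hle (mem_cj.1 hx))
    simpa [mul_assoc] using this
  rw [← h1, ← cj_mul, mul_inv_cancel, cj_one]

/-- Conjugates of a minimal system of small order meet trivially. -/
theorem ti {W : Subgroup G} (hW : IsMinSys A W) (hc : Nat.card W * Nat.card W ≤ Nat.card A) {g k : G}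
    (hg : g ∈ normalizer (A : Set G)) (hk : k ∈ normalizer (A : Set G)) (hne : cj g W ≠ cj k W) :
    cj g W ⊓ cj k W = ⊥ := by
  by_contra hi
  obtain ⟨U, hU, hUi, hcard⟩ := share hs hl (isMinSys_cj hs hl hg hW) (isMinSys_cj hs hl hk hW) hne hi
  rw [card_cj] at hcard
  have h1 : Nat.card W ≤ Nat.card U := by
    by_contra h
    have h2 := Nat.mul_lt_mul_of_pos_right (Nat.lt_of_not_le h) (Nat.card_pos (α := W))
    omega
  have h2 : U = cj k W := Subgroup.eq_of_le_of_card_ge hU (by rw [card_cj]; exact h1)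
  rw [h2, inf_comm] at hUi
  exact hi hUi

end Cfsg.Agent.Gold1169.CombAux
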