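import Cfsg.Agent.Lib.Gold1169.CombKind
import Cfsg.Agent.Lib.Solvable.Coprime
import Mathlib.Algebra.BigOperators.Group.Finset.Basic
import Mathlib.GroupTheory.Perm.Cycle.Type

/-!
The part `U` of a system without transvections is determined by the system; and a system which is small
relative to `A` has no transvections at all.
-/

set_option autoImplicit false
set_option linter.style.haveILetI false
set_option linter.unusedSectionVars false

namespace Cfsg.Agent.Gold1169.CombAux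

open Subgroup
open Cfsg.Agent.Walter4 (cen cenS ocen cor XB pre CA mem_pre pre_le)

universe u

variable {G : Type u} [Group G] [Finite G] {S : Sylow 2 G} {A : Subgroup G} (hs : Setup S A)
  (hl : Local A) {W : Subgroup G} {L : Subgroup (XB W)} {U : Subgroup G} {h : G}
include hs hl

theorem U_le (hy : Sys A W L U h) : U ≤ A := hy.tor.le

theorem W_inf (hy : Sys A W L U h) {x : G} (h1 : x ∈ U) (h2 : x ∈ W) : x = 1 :=
  mem_bot.1 (hy.tor.inf ▸ Subgroup.mem_inf.2 ⟨h1, hy.ca.ge h2⟩)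

theorem dec (hy : Sys A W L U h) {a : G} (ha : a ∈ A) : ∃ u ∈ U, ∃ w ∈ W, a = u * w := by
  obtain ⟨u, hu, w, hw, e⟩ := decomp hs hy.tor.le (CA_le L) hy.tor.sup ha
  exact ⟨u, hu, w, hy.ca.le hw, e⟩

theorem fix_W (hy : Sys A W L U h) (i : ℕ) {w : G} (hw : w ∈ W) : h ^ i * w * (h ^ i)⁻¹ = w := by
  induction i with
  | zero => simp
  | succ i ih =>
    calc h ^ (i + 1) * w * (h ^ (i + 1))⁻¹ = h * (h ^ i * w * (h ^ i)⁻¹) * h⁻¹ := by
          rw [pow_succ']; group
      _ = w := by rw [ih, hy.tor.fix w (hy.ca.ge hw), mul_inv_cancel_right]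

theorem h_normW (hy : Sys A W L U h) : h ∈ normalizer (W : Set G) :=
  mem_normalizer_of_cj (Subgroup.eq_of_le_of_card_ge (fun x hx => by
    obtain ⟨w, hw, rfl⟩ : ∃ w ∈ W, h * w * h⁻¹ = x := ⟨h⁻¹ * x * h, mem_cj.1 hx, by group⟩
    have := fix_W hs hl hy 1 hw
    rw [pow_one] at this
    rwa [this]) (card_cj h W).ge)

theorem W_card_le (hy : Sys A W L U h) : Nat.card U * Nat.card W = Nat.card A :=
  card_mul hs hy.tor.le hy.le (le_bot_iff.1 fun _ hx =>
    mem_bot.2 (W_inf hs hl hy (Subgroup.mem_inf.1 hx).1 (Subgroup.mem_inf.1 hx).2))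
    (le_antisymm (sup_le hy.tor.le hy.le) fun _ ha => by
      obtain ⟨u, hu, w, hw, rfl⟩ := dec hs hl hy ha
      exact mul_mem (mem_sup_left hu) (mem_sup_right hw))

/-- A power of `h` moving something moves all of `U#`. -/
theorem moved_all (hy : Sys A W L U h) {x : G} (hx : x ∈ U) (h1 : h * x * h⁻¹ = x) : x = 1 := by
  by_contra hx1
  have hfix : ∀ i : ℕ, h ^ i * x * (h ^ i)⁻¹ = x := by
    intro i
    induction i with
    | zero => simp
    | succ i ih =>
      calc h ^ (i + 1) * x * (h ^ (i + 1))⁻¹ = h * (h ^ i * x * (h ^ i)⁻¹) * h⁻¹ := by rw [pow_succ']; group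
        _ = x := by rw [ih, h1]
  have hall : ∀ y ∈ U, y = 1 ∨ y = x := fun y hy' => or_iff_not_imp_left.2 fun hy1 => by
    obtain ⟨i, hi⟩ := hy.tor.trans x hx hx1 y hy' hy1
    rw [← hi, hfix]
  have hle : Nat.card U ≤ 2 := by
    classical
    refine (Nat.card_le_card_of_injective (fun y : U => decide ((y : G) = 1)) fun a b e => ?_).trans
      (by simp)
    rcases hall a a.2 with ha | ha <;> rcases hall b b.2 with hb | hb <;>
      first
      | exact Subtype.ext (ha.trans hb.symm)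
      | exact (hx1 (by simpa [ha, hb] using e)).elim
  have := hy.tor.four
  omega

theorem mem_W_of_fixed (hy : Sys A W L U h) {a : G} (ha : a ∈ A) (h1 : h * a * h⁻¹ = a) : a ∈ W := by
  obtain ⟨u, hu, w, hw, rfl⟩ := dec hs hl hy ha
  have hw1 := fix_W hs hl hy 1 hw
  rw [pow_one] at hw1
  have : h * u * h⁻¹ = u := by
    rw [show h * (u * w) * h⁻¹ = h * u * h⁻¹ * (h * w * h⁻¹) by group, hw1] at h1
    exact mul_right_cancel h1
  rw [moved_all hs hl hy hu this, one_mul]
  exact hw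

/-- Every element of `U` is a commutator with `h`. -/
theorem exists_comm (hy : Sys A W L U h) {u : G} (hu : u ∈ U) : ∃ v ∈ U, u = h * v * h⁻¹ * v⁻¹ := by
  let f : U → U := fun v =>
    ⟨h * v * h⁻¹ * (v : G)⁻¹, mul_mem ((mem_conj_iff hy.tor.normU).2 v.2) (inv_mem v.2)⟩
  have hf : Function.Injective f := by
    intro a b e
    have e' : h * a * h⁻¹ * (a : G)⁻¹ = h * b * h⁻¹ * (b : G)⁻¹ := congrArg Subtype.val e
    have hab : h * ((b : G)⁻¹ * a) * h⁻¹ = (b : G)⁻¹ * a := by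
      rw [show h * ((b : G)⁻¹ * a) * h⁻¹ = (h * b * h⁻¹)⁻¹ * (h * a * h⁻¹) by group,
        show h * a * h⁻¹ = h * b * h⁻¹ * (b : G)⁻¹ * a by rw [← e']; group]
      group
    exact Subtype.ext (inv_mul_eq_one.1 (moved_all hs hl hy (mul_mem (inv_mem b.2) a.2) hab)).symm
  obtain ⟨v, hv⟩ := Finite.injective_iff_surjective.1 hf ⟨u, hu⟩
  exact ⟨v, v.2, (congrArg Subtype.val hv).symm⟩

/-- Without transvections `U` is normalised by the normaliser of the system. -/
theorem canon (hy : Sys A W L U h) (hcl : Clean A W L) {g : G} (hg : g ∈ normalizer (A : Set G))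
    (hgW : g ∈ normalizer (W : Set G)) : g ∈ normalizer (U : Set G) := by
  classical
  haveI : Fact (Nat.Prime 2) := ⟨Nat.prime_two⟩
  letI : CommGroup A :=
    { (inferInstance : Group A) with mul_comm := fun a b => Subtype.ext (comm hs a.2 b.2) }
  set N := normalizer (A : Set G)
  let φ := A.normalizerMonoidHom
  set Gb := ((pre W L).subgroupOf N).map φ with hGb
  letI : Fintype Gb := Fintype.ofFinite _
  have hφ : ∀ (x : N) (a : A), ((φ x a : A) : G) = (x : G) * a * (x : G)⁻¹ := by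
    intro x a
    exact Subgroup.normalizerMonoidHom_apply_apply_coe A x a
  have hodd : Odd (Nat.card Gb) := by
    rcases Nat.even_or_odd (Nat.card Gb) with he | ho
    · exfalso
      obtain ⟨⟨_, x, hx, rfl⟩, hord⟩ :=
        exists_prime_orderOf_dvd_card' (G := Gb) 2 (even_iff_two_dvd.1 he)
      obtain ⟨n, hn, ht⟩ := odd_triv hs hl hy x.2 hx
      have h1 : φ x ^ n = 1 := by
        rw [← map_pow]
        refine MulEquiv.ext fun a => Subtype.ext ?_
        rw [hφ, SubmonoidClass.coe_pow]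
        show _ = (a : G)
        rw [← mem_centralizer_iff.1 (hcl _ (pow_mem x.2 n) (pow_mem (mem_subgroupOf.1 hx) n) ht) a a.2]
        group
      rw [← orderOf_coe, ← orderOf_dvd_iff_pow_eq_one] at *
      have h2 : 2 ∣ n := hord ▸ h1
      exact (Nat.not_even_iff_odd.2 hn) (even_iff_two_dvd.2 h2)
    · exact ho
  let μ : A → A := fun a => ∏ γ : Gb, (γ : MulAut A) a
  have hμmul : ∀ a b, μ (a * b) = μ a * μ b := fun a b => by
    simp only [μ, map_mul, Finset.prod_mul_distrib]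
  have hright : ∀ (γ₀ : Gb) a, μ ((γ₀ : MulAut A) a) = μ a := fun γ₀ a =>
    Fintype.prod_equiv (Equiv.mulRight γ₀) _ _ fun γ => rfl
  have hleft : ∀ (γ₀ : Gb) a, (γ₀ : MulAut A) (μ a) = μ a := fun γ₀ a => by
    simp only [μ, map_prod]
    exact Fintype.prod_equiv (Equiv.mulLeft γ₀) _ _ fun γ => rfl
  set hN : N := ⟨h, hy.tor.norm⟩
  set γh : Gb := ⟨φ hN, mem_map_of_mem φ (show hN ∈ (pre W L).subgroupOf N from hy.tor.mem)⟩
  have hμW : ∀ a : A, (a : G) ∈ W → μ a = a := by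
    intro a ha
    have h1 : ∀ γ : Gb, (γ : MulAut A) a = a := by
      rintro ⟨_, x, hx, rfl⟩
      exact Subtype.ext (pre_fix hs hl hy (mem_subgroupOf.1 hx) ha)
    simp only [μ, h1, Finset.prod_const, Finset.card_univ, ← Nat.card_eq_fintype_card]
    obtain ⟨j, hj⟩ := hodd
    have h2 : a * a = 1 := Subtype.ext (sq hs a.2)
    rw [hj, pow_succ, pow_mul, pow_two, h2, one_pow, one_mul]
  have hμU : ∀ a : A, (a : G) ∈ U ↔ μ a = 1 := by
    have hU1 : ∀ a : A, (a : G) ∈ U → μ a = 1 := by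
      intro a ha
      obtain ⟨v, hv, e⟩ := exists_comm hs hl hy ha
      let v' : A := ⟨v, hy.tor.le hv⟩
      have e1 : a = φ hN v' * v'⁻¹ := Subtype.ext (by rw [Subgroup.coe_mul, hφ]; exact e)
      have h1 : μ (φ hN v') = μ v' := hright γh v'
      have h2 : μ (v'⁻¹) * μ v' = 1 := by
        rw [← hμmul, inv_mul_cancel]
        exact Finset.prod_eq_one fun γ _ => map_one (γ : MulAut A)
      rw [e1, hμmul, h1, mul_comm, h2]
    refine fun a => ⟨hU1 a, fun h1 => ?_⟩
    obtain ⟨u, hu, w, hw, e⟩ := dec hs hl hy a.2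
    have e' : a = (⟨u, hy.tor.le hu⟩ : A) * ⟨w, hy.le hw⟩ := Subtype.ext e
    rw [e', hμmul, hU1 _ hu, hμW _ hw, one_mul] at h1
    rw [e, show w = 1 from congrArg Subtype.val h1, mul_one]
    exact hu
  set gN : N := ⟨g, hg⟩
  have hconj : ∀ a : A, μ (φ gN a) = φ gN (μ a) := by
    intro a
    simp only [μ, map_prod]
    have hmem : ∀ γ : MulAut A, γ ∈ Gb → φ gN * γ * (φ gN)⁻¹ ∈ Gb := by
      rintro _ ⟨x, hx, rfl⟩
      refine ⟨gN * x * gN⁻¹, ?_, by rw [map_mul, map_mul, map_inv]⟩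
      exact (mem_conj_iff (conj_pre hs hl hy hg hgW).1).2 (mem_subgroupOf.1 hx)
    let f : Gb → Gb := fun γ => ⟨_, hmem γ γ.2⟩
    have hf : Function.Bijective f := by
      refine Finite.injective_iff_bijective.1 fun a b e => Subtype.ext ?_
      exact mul_left_cancel (mul_right_cancel (congrArg Subtype.val e))
    refine ((Fintype.prod_bijective f hf _ _ fun γ => ?_)).symm
    show φ gN ((γ : MulAut A) a) = (φ gN * γ * (φ gN)⁻¹) (φ gN a)
    simp
  refine mem_normalizer_of_cj (Subgroup.eq_of_le_of_card_ge (fun x hx => ?_) (card_cj g U).ge)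
  obtain ⟨y, hy', rfl⟩ : ∃ y ∈ U, g * y * g⁻¹ = x := ⟨g⁻¹ * x * g, mem_cj.1 hx, by group⟩
  have h1 := (hμU ⟨g * y * g⁻¹, (mem_conj_iff hg).2 (hy.tor.le hy')⟩).2
  refine h1 ?_
  show μ (φ gN ⟨y, hy.tor.le hy'⟩) = 1
  rw [hconj, (hμU _).1 hy', map_one]

/-- A small system has no transvection. -/
theorem clean_of_big (hy : Sys A W L U h) (hbig : 4 * Nat.card W ≤ Nat.card U) {k : G}
    (hk : k ∈ normalizer (A : Set G)) (hmin : IsMinSys A W) (hne : cj k W ≠ W)
    (hc : Nat.card W * Nat.card W ≤ Nat.card A) : Clean A W L := by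
  classical
  haveI : Fact (Nat.Prime 2) := ⟨Nat.prime_two⟩
  intro q₀ hq₀A hq₀L hq₀t
  by_contra hq₀
  haveI hcA : IsMulCommutative A := hs.ea.1
  set N := normalizer (A : Set G) with hN
  let φ := A.normalizerMonoidHom
  have hφ : ∀ (x : N) (a : A), ((φ x a : A) : G) = (x : G) * a * (x : G)⁻¹ := fun _ _ => rfl
  -- the transvections
  let Qs : Subgroup (MulAut A) :=
    { carrier := {f | (∀ a : A, (a : G) ∈ W → f a = a) ∧ ∀ a : A, ((f a : A) : G) * (a : G)⁻¹ ∈ W}
      one_mem' := ⟨fun a _ => rfl, fun a => by simp⟩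
      mul_mem' := by
        rintro f g ⟨hf, hf'⟩ ⟨hg, hg'⟩
        refine ⟨fun a ha => by rw [MulAut.mul_apply, hg a ha, hf a ha], fun a => ?_⟩
        have := mul_mem (hf' (g a)) (hg' a)
        simpa [mul_assoc] using this
      inv_mem' := by
        rintro f ⟨hf, hf'⟩
        refine ⟨fun a ha => by rw [MulAut.inv_apply, MulEquiv.symm_apply_eq, hf a ha], fun a => ?_⟩
        have := inv_mem (hf' (f⁻¹ a))
        simpa using this }
  set Qb := Qs ⊓ φ.range with hQb
  set M := cj k W with hM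
  have hMA : M ≤ A := fun x hx => by
    have := (mem_conj_iff hk).2 (hy.le (mem_cj.1 hx))
    simpa [mul_assoc] using this
  have hMW : ∀ x ∈ M, x ∈ W → x = 1 := fun x h1 h2 => by
    have h3 := ti hs hl hmin hc hk (one_mem _) (by rw [cj_one]; exact hne)
    rw [cj_one] at h3
    exact mem_bot.1 (h3 ▸ Subgroup.mem_inf.2 ⟨h1, h2⟩)
  obtain ⟨m, hm, hm1⟩ := M.bot_or_exists_ne_one.resolve_left fun e => hy.ne (by
    have h1 : Nat.card M = Nat.card W := card_cj k W
    rw [e, card_bot] at h1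
    exact card_eq_one.1 h1.symm)
  set mA : A := ⟨m, hMA hm⟩
  -- at least `|U|` of them
  have hcardU : Nat.card U ≤ Nat.card Qb := by
    obtain ⟨u0, hu0, hu01⟩ := U.bot_or_exists_ne_one.resolve_left fun e => by
      have := hy.tor.four
      rw [e, card_bot] at this
      omega
    choose i hi using fun (u : G) (hu : u ∈ U) (hu1 : u ≠ 1) => hy.tor.trans u0 hu0 hu01 u hu hu1
    set f0 : MulAut A := φ ⟨q₀, hq₀A⟩
    have hf0Qs : f0 ∈ Qs :=
      ⟨fun a ha => Subtype.ext (pre_fix hs hl hy hq₀L ha), fun a => hq₀t a a.2⟩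
    set hN' : N := ⟨h, hy.tor.norm⟩
    have hfW : ∀ (j : ℕ) (a : A), (a : G) ∈ W → (φ hN' ^ j) a = a := fun j a ha => by
      rw [← map_pow]
      exact Subtype.ext (by rw [hφ, SubmonoidClass.coe_pow]; exact fix_W hs hl hy j ha)
    have hcmem : ∀ j : ℕ, φ hN' ^ j * f0 * (φ hN' ^ j)⁻¹ ∈ Qb := fun j => by
      refine ⟨⟨fun a ha => ?_, fun a => ?_⟩, ⟨hN' ^ j * ⟨q₀, hq₀A⟩ * (hN' ^ j)⁻¹,
        by rw [map_mul, map_mul, map_inv, map_pow]⟩⟩
      · have e : (φ hN' ^ j)⁻¹ a = a := by rw [MulAut.inv_apply, MulEquiv.symm_apply_eq, hfW j a ha]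
        rw [MulAut.mul_apply, MulAut.mul_apply, e, hf0Qs.1 a ha, hfW j a ha]
      · obtain ⟨b, rfl⟩ := (φ hN' ^ j).surjective a
        rw [MulAut.mul_apply, MulAut.mul_apply, MulAut.inv_apply, MulEquiv.symm_apply_apply]
        have h1 : (f0 b * b⁻¹ : A).1 ∈ W := hf0Qs.2 b
        have h2 := hfW j (f0 b * b⁻¹) h1
        rw [map_mul, map_inv] at h2
        have h3 := congrArg Subtype.val h2
        rw [Subgroup.coe_mul, Subgroup.coe_inv] at h3
        rw [h3]; exact h1
    refine Nat.card_le_card_of_injective (fun u : U =>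
      if hu1 : (u : G) = 1 then (1 : Qb) else ⟨_, hcmem (i u u.2 hu1)⟩) fun u v e => ?_
    have hne1 : ∀ j : ℕ, φ hN' ^ j * f0 * (φ hN' ^ j)⁻¹ ≠ 1 := fun j e => by
      rw [conj_eq_one_iff] at e
      refine hq₀ (mem_centralizer_iff.2 fun a ha => ?_)
      have h1 : q₀ * a * q₀⁻¹ = a :=
        congrArg Subtype.val (show f0 ⟨a, ha⟩ = ⟨a, ha⟩ by rw [e]; rfl)
      exact (mul_inv_eq_iff_eq_mul.1 h1).symm
    by_cases hu : (u : G) = 1 <;> by_cases hv : (v : G) = 1 <;> simp only [hu, hv, dif_pos, dif_neg,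
      not_false_eq_true] at e
    · exact Subtype.ext (hu.trans hv.symm)
    · exact absurd (congrArg Subtype.val e).symm (hne1 _)
    · exact absurd (congrArg Subtype.val e) (hne1 _)
    · have e' := congrArg Subtype.val e
      simp only at e'
      set j := i u u.2 hu
      set j' := i v v.2 hv
      -- `ε = h^{j'⁻¹} h^j` commutes with `f0`
      set ε : N := (hN' ^ j')⁻¹ * hN' ^ j with hε
      have hcomm : φ ε * f0 = f0 * φ ε := by
        rw [hε, map_mul, map_inv, map_pow, map_pow]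
        calc (φ hN' ^ j')⁻¹ * φ hN' ^ j * f0
            = (φ hN' ^ j')⁻¹ * (φ hN' ^ j * f0 * (φ hN' ^ j)⁻¹) * φ hN' ^ j := by group
          _ = _ := by rw [e']; group
      obtain ⟨t, ht⟩ : ∃ t : ℕ, hN' ^ t = ε := by
        have : ε ∈ zpowers hN' :=
          mul_mem (inv_mem (pow_mem (mem_zpowers _) _)) (pow_mem (mem_zpowers _) _)
        rwa [← mem_powers_iff_mem_zpowers] at this
      have htG : (ε : G) = h ^ t := by rw [← ht, SubmonoidClass.coe_pow]
      by_cases htriv : ∀ y ∈ U, h ^ t * y * (h ^ t)⁻¹ = y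
      · have h1 := htriv u0 hu0
        rw [← htG, hε] at h1
        push_cast at h1
        have h2 : h ^ j * u0 * (h ^ j)⁻¹ = h ^ j' * u0 * (h ^ j')⁻¹ := by
          calc h ^ j * u0 * (h ^ j)⁻¹
              = h ^ j' * ((h ^ j')⁻¹ * h ^ j * u0 * ((h ^ j')⁻¹ * h ^ j)⁻¹) * (h ^ j')⁻¹ := by group
            _ = _ := by rw [h1]
        exact Subtype.ext (by rw [← hi u u.2 hu, ← hi v v.2 hv, h2])
      · exfalso
        refine hne1 0 ?_
        rw [pow_zero, one_mul, inv_one, mul_one]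
        -- `h^t` is fixed-point-free on `U`, so every element of `U` is `[h^t, y]`
        let F : U → U := fun y => ⟨h ^ t * y * (h ^ t)⁻¹ * (y : G)⁻¹,
          mul_mem (pow_conj_mem hy.tor.normU t y.2) (inv_mem y.2)⟩
        have hF : Function.Injective F := by
          intro a b e
          by_contra hab
          have e' : h ^ t * a * (h ^ t)⁻¹ * (a : G)⁻¹ = h ^ t * b * (h ^ t)⁻¹ * (b : G)⁻¹ :=
            congrArg Subtype.val e
          refine htriv (hy.tor.free t ((b : G)⁻¹ * a) (mul_mem (inv_mem b.2) a.2)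
            (fun e1 => hab (Subtype.ext (inv_mul_eq_one.1 e1).symm)) ?_)
          rw [show h ^ t * ((b : G)⁻¹ * a) * (h ^ t)⁻¹ = (h ^ t * b * (h ^ t)⁻¹)⁻¹ * (h ^ t * a * (h ^ t)⁻¹) by
            group, show h ^ t * a * (h ^ t)⁻¹ = h ^ t * b * (h ^ t)⁻¹ * (b : G)⁻¹ * a by rw [← e']; group]
          group
        refine MulEquiv.ext fun a => ?_
        obtain ⟨x, hx, w, hw, hxw⟩ := dec hs hl hy a.2
        obtain ⟨y, hy'⟩ := Finite.injective_iff_surjective.1 hF ⟨x, hx⟩
        set yA : A := ⟨y, hy.tor.le y.2⟩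
        have hxA : (⟨x, hy.tor.le hx⟩ : A) = φ ε yA * yA⁻¹ :=
          Subtype.ext (by rw [Subgroup.coe_mul, hφ, htG]; exact (congrArg Subtype.val hy').symm)
        have ha : a = φ ε yA * yA⁻¹ * ⟨w, hy.le hw⟩ := by
          rw [← hxA]; exact Subtype.ext hxw
        have hfix : f0 (φ ε yA) * (f0 yA)⁻¹ = φ ε yA * yA⁻¹ := by
          have h1 : f0 (φ ε yA) = φ ε (f0 yA) := by
            rw [← MulAut.mul_apply, ← hcomm, MulAut.mul_apply]
          have h2 : φ ε (f0 yA * yA⁻¹) = f0 yA * yA⁻¹ := by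
            rw [← ht, map_pow]
            exact hfW t _ (hf0Qs.2 yA)
          rw [map_mul, map_inv] at h2
          rw [h1]
          calc φ ε (f0 yA) * (f0 yA)⁻¹ = φ ε (f0 yA) * (φ ε yA)⁻¹ * φ ε yA * (f0 yA)⁻¹ := by group
            _ = f0 yA * yA⁻¹ * φ ε yA * (f0 yA)⁻¹ := by rw [h2]
            _ = φ ε yA * yA⁻¹ := by
              rw [mul_comm' (f0 yA * yA⁻¹) (φ ε yA)]
              rw [show φ ε yA * (f0 yA * yA⁻¹) * (f0 yA)⁻¹ = φ ε yA * (f0 yA * (yA⁻¹ * (f0 yA)⁻¹)) by group,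
                mul_comm' yA⁻¹ (f0 yA)⁻¹, mul_inv_cancel_left]
        rw [ha, map_mul, map_mul, map_inv, hfix, hf0Qs.1 _ hw]
        rfl
  -- those fixing `m`
  let F : Qb →* A :=
    { toFun := fun f => (f : MulAut A) mA * mA⁻¹
      map_one' := by simp
      map_mul' := by
        rintro ⟨f, hf⟩ ⟨g, hg⟩
        show f (g mA) * mA⁻¹ = f mA * mA⁻¹ * (g mA * mA⁻¹)
        have h1 := hf.1.1 (g mA * mA⁻¹) (hg.1.2 mA)
        rw [map_mul, map_inv] at h1
        have h2 : f (g mA) = g mA * mA⁻¹ * f mA := by rw [← h1, inv_mul_cancel_right]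
        rw [h2, mul_comm' (g mA * mA⁻¹) (f mA), mul_assoc (f mA), mul_assoc (f mA)]
        congr 1
        exact mul_comm' _ _ }
  have hker : 4 ≤ Nat.card F.ker := by
    have h1 := Subgroup.card_mul_index F.ker
    have h2 : Nat.card F.range ≤ Nat.card W :=
      Nat.card_le_card_of_injective (fun x : F.range => (⟨((x : A) : G), by
          obtain ⟨_, f, rfl⟩ := x
          exact f.2.1.2 mA⟩ : W))
        fun a b e => Subtype.ext (Subtype.ext (congrArg Subtype.val e :))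
    rw [index_ker] at h1
    have h3 : 4 * Nat.card W ≤ Nat.card F.ker * Nat.card W :=
      (hbig.trans hcardU).trans (h1 ▸ Nat.mul_le_mul_left _ h2)
    exact Nat.le_of_mul_le_mul_right h3 Nat.card_pos
  -- the data of `M`
  have hMsys : IsMinSys A M := isMinSys_cj hs hl hk hmin
  obtain ⟨hMloc, L', U', h', hL', hCA', ht'⟩ := sys_torus hs hl hMsys.1
  have hy' : Sys A M L' U' h' := ⟨hMA, hMsys.1.2.1, hL', hCA', ht'⟩
  -- the action on `A ⧸ M`
  haveI hMn : (M.subgroupOf A).Normal := ⟨fun x hx y => by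
    rw [mul_comm' y x, mul_inv_cancel_right]; exact hx⟩
  let NM := N ⊓ normalizer (M : Set G)
  have hmapM : ∀ x : NM, (M.subgroupOf A).map (φ ⟨x, x.2.1⟩).toMonoidHom = M.subgroupOf A := fun x => by
    ext a
    rw [mem_subgroupOf]
    constructor
    · rintro ⟨b, hb, rfl⟩
      exact (mem_conj_iff x.2.2).2 hb
    · intro ha
      refine ⟨(φ ⟨x, x.2.1⟩).symm a, mem_subgroupOf.2 ?_, MulEquiv.apply_symm_apply _ a⟩
      have := mem_conj_iff (x := (((φ ⟨x, x.2.1⟩).symm a : A) : G)) x.2.2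
      refine this.1 ?_
      rw [← hφ ⟨x, x.2.1⟩, MulEquiv.apply_symm_apply]
      exact ha
  let mk := QuotientGroup.mk' (M.subgroupOf A)
  let Φ : NM →* MulAut (A ⧸ M.subgroupOf A) :=
    { toFun := fun x => QuotientGroup.congr _ _ (φ ⟨x, x.2.1⟩) (hmapM x)
      map_one' := MulEquiv.ext fun v => by
        induction v using QuotientGroup.induction_on with
        | _ a =>
          show mk (φ 1 a) = mk a
          rw [map_one]; rfl
      map_mul' := fun x y => MulEquiv.ext fun v => by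
        induction v using QuotientGroup.induction_on with
        | _ a =>
          show mk (φ ⟨x * y, _⟩ a) = mk (φ ⟨x, x.2.1⟩ (φ ⟨y, y.2.1⟩ a))
          rw [← MulAut.mul_apply, ← map_mul]
          rfl }
  have hΦ : ∀ (x : NM) (a : A), Φ x (mk a) = mk (φ ⟨x, x.2.1⟩ a) := fun _ _ => rfl
  set Gm := ((pre M L').subgroupOf NM).map Φ with hGm
  have hmk1 : ∀ a : A, mk a = 1 ↔ (a : G) ∈ M := fun a => (QuotientGroup.eq_one_iff a).trans mem_subgroupOf
  have hGodd : Odd (Nat.card Gm) := by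
    rcases Nat.even_or_odd (Nat.card Gm) with he | ho
    · exfalso
      obtain ⟨⟨_, x, hx, rfl⟩, hord⟩ :=
        exists_prime_orderOf_dvd_card' (G := Gm) 2 (even_iff_two_dvd.1 he)
      obtain ⟨n, hn, ht⟩ := odd_triv hs hl hy' x.2.1 (mem_subgroupOf.1 hx)
      have h1 : Φ x ^ n = 1 := by
        rw [← map_pow]
        refine MulEquiv.ext fun v => ?_
        induction v using QuotientGroup.induction_on with
        | _ a =>
          show mk (φ ⟨((x ^ n : NM) : G), _⟩ a) = mk a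
          rw [← mul_inv_eq_one, ← map_inv, ← map_mul, hmk1, Subgroup.coe_mul, Subgroup.coe_inv, hφ]
          simpa using ht a a.2
      rw [← orderOf_coe, ← orderOf_dvd_iff_pow_eq_one] at *
      have h2 : 2 ∣ n := hord ▸ h1
      exact (Nat.not_even_iff_odd.2 hn) (even_iff_two_dvd.2 h2)
    · exact ho
  -- kernel elements normalise `M`
  have hlift : ∀ f : F.ker, ∃ x : NM, φ ⟨x, x.2.1⟩ = ((f : Qb) : MulAut A) := by
    rintro ⟨⟨f, hfQ, x, rfl⟩, hf⟩
    have hxm : (x : G) * m * (x : G)⁻¹ = m := congrArg Subtype.val (mul_inv_eq_one.1 (MonoidHom.mem_ker.1 hf))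
    refine ⟨⟨x, x.2, mem_normalizer_of_cj ?_⟩, rfl⟩
    by_contra hne'
    rw [hM, ← cj_mul] at hne'
    have h2 := ti hs hl hmin hc (mul_mem x.2 hk) hk hne'
    refine hm1 (mem_bot.1 (h2 ▸ Subgroup.mem_inf.2 ⟨?_, hm⟩))
    rw [cj_mul, ← hM, ← hxm]
    exact conj_mem_cj hm
  choose lift hlift' using hlift
  set E := Subgroup.closure (Set.range fun f => Φ (lift f)) with hE
  have hΦf : ∀ (f : F.ker) (a : A), Φ (lift f) (mk a) = mk (((f : Qb) : MulAut A) a) := fun f a => by
    rw [hΦ, hlift']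
  have hEeq : ∀ σ, σ ∈ E → ∃ f, Φ (lift f) = σ := by
    intro σ hσ
    induction hσ using Subgroup.closure_induction with
    | mem x hx => obtain ⟨f, rfl⟩ := hx; exact ⟨f, rfl⟩
    | one => exact ⟨1, MulEquiv.ext fun v => by
        induction v using QuotientGroup.induction_on with
        | _ a => exact (hΦf 1 a).trans rfl⟩
    | mul x y _ _ hx hy =>
      obtain ⟨f, rfl⟩ := hx
      obtain ⟨g, rfl⟩ := hy
      refine ⟨f * g, MulEquiv.ext fun v => ?_⟩
      induction v using QuotientGroup.induction_on with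
      | _ a =>
        show Φ (lift (f * g)) (mk a) = Φ (lift f) (Φ (lift g) (mk a))
        rw [hΦf, hΦf, hΦf]; rfl
    | inv x _ hx =>
      obtain ⟨f, rfl⟩ := hx
      refine ⟨f⁻¹, MulEquiv.ext fun v => ?_⟩
      induction v using QuotientGroup.induction_on with
      | _ a =>
        show Φ (lift f⁻¹) (mk a) = (Φ (lift f)).symm (mk a)
        rw [MulEquiv.eq_symm_apply, hΦf, hΦf, ← MulAut.mul_apply, ← Subgroup.coe_mul, ← Subgroup.coe_mul,
          mul_inv_cancel]
        rfl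
  have hWfix : ∀ (f : F.ker) (a : A), (a : G) ∈ W → Φ (lift f) (mk a) = mk a := fun f a ha => by
    rw [hΦf, ((f : Qb).2.1.1 a ha)]
  have hcomW : ∀ (f : F.ker) (a : A), ∃ w : A, (w : G) ∈ W ∧ Φ (lift f) (mk a) = mk w * mk a := fun f a =>
    ⟨((f : Qb) : MulAut A) a * a⁻¹, (f : Qb).2.1.2 a, by rw [hΦf, ← map_mul, inv_mul_cancel_right]⟩
  have hinj : ∀ f : F.ker, Φ (lift f) = 1 → f = 1 := by
    intro f hf
    refine Subtype.ext (Subtype.ext (MulEquiv.ext fun a => ?_))
    have h1 : mk (((f : Qb) : MulAut A) a * a⁻¹) = 1 := by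
      rw [map_mul, ← hΦf, hf, MulAut.one_apply, ← map_mul, mul_inv_cancel, map_one]
    exact mul_inv_eq_one.1 (Subtype.ext (hMW _ ((hmk1 _).1 h1) ((f : Qb).2.1.2 a)))
  have hEsq : ∀ σ ∈ E, σ * σ = 1 := by
    intro σ hσ
    obtain ⟨f, rfl⟩ := hEeq σ hσ
    refine MulEquiv.ext fun v => ?_
    induction v using QuotientGroup.induction_on with
    | _ a =>
      obtain ⟨w, hw, e⟩ := hcomW f a
      show Φ (lift f) (Φ (lift f) (mk a)) = mk a
      rw [e, map_mul, hWfix f w hw, e, ← mul_assoc, ← map_mul mk,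
        show w * w = 1 from Subtype.ext (sq hs w.2), map_one, one_mul]
  haveI hEcomm : IsMulCommutative E := ⟨⟨fun x y => Subtype.ext (by
    have h1 := hEsq _ (mul_mem x.2 y.2)
    have hx : (x : MulAut (A ⧸ M.subgroupOf A))⁻¹ = x := inv_eq_of_mul_eq_one_right (hEsq _ x.2)
    have hy : (y : MulAut (A ⧸ M.subgroupOf A))⁻¹ = y := inv_eq_of_mul_eq_one_right (hEsq _ y.2)
    show (x : MulAut (A ⧸ M.subgroupOf A)) * y = y * x
    rw [← inv_eq_of_mul_eq_one_right h1, mul_inv_rev, hx, hy])⟩⟩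
  have hEcyc : ¬ IsCyclic E := fun hc' => by
    obtain ⟨σ, hσ⟩ := hc'.exists_zpow_surjective
    have h2 : Nat.card E ≤ 2 := by
      rw [← orderOf_eq_card_of_forall_mem_zpowers fun x => mem_zpowers_iff.2 (hσ x)]
      refine Nat.le_of_dvd two_pos (orderOf_dvd_of_pow_eq_one ?_)
      rw [pow_two]
      exact Subtype.ext (hEsq _ σ.2)
    have h3 : Nat.card F.ker ≤ Nat.card E :=
      Nat.card_le_card_of_injective (fun f => (⟨Φ (lift f), subset_closure ⟨f, rfl⟩⟩ : E)) fun f g e => by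
        have e' : Φ (lift f) = Φ (lift g) := congrArg Subtype.val e
        refine inv_mul_eq_one.1 (hinj (g⁻¹ * f) (MulEquiv.ext fun v => ?_)) |>.symm
        induction v using QuotientGroup.induction_on with
        | _ a =>
          show Φ (lift (g⁻¹ * f)) (mk a) = mk a
          have h4 := congrArg (fun σ : MulAut _ => σ (mk a)) e'
          simp only [hΦf] at h4
          rw [hΦf]
          have h5 := congrArg (fun z => Φ (lift g⁻¹) z) h4
          simp only [hΦf, ← MulAut.mul_apply, ← Subgroup.coe_mul] at h5 ⊢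
          rw [h5, inv_mul_cancel]
          rfl
    omega
  have hEN : E ≤ normalizer (Gm : Set (MulAut (A ⧸ M.subgroupOf A))) := by
    intro σ hσ
    obtain ⟨f, rfl⟩ := hEeq σ hσ
    refine Subgroup.le_normalizer_map Φ ⟨lift f, ?_, rfl⟩
    exact mem_normalizer_iff.2 fun y =>
      mem_normalizer_iff.1 (conj_pre hs hl hy' (lift f).2.1 (lift f).2.2).1 y
  have hcop : (Nat.card E).Coprime (Nat.card Gm) := by
    have hp : IsPGroup 2 E := fun x => ⟨1, by rw [pow_one, pow_two]; exact Subtype.ext (hEsq _ x.2)⟩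
    obtain ⟨j, hj⟩ := hp.exists_card_eq
    rw [hj]
    exact Nat.Coprime.pow_left j (Nat.coprime_two_left.2 hGodd)
  -- the image of `W` is invariant
  let Wb := (W.subgroupOf A).map mk
  let St : Subgroup (MulAut (A ⧸ M.subgroupOf A)) :=
    { carrier := {σ | ∀ v, σ v ∈ Wb ↔ v ∈ Wb}
      one_mem' := fun v => Iff.rfl
      mul_mem' := fun {a b} ha hb v => (ha (b v)).trans (hb v)
      inv_mem' := fun {a} ha v => by
        rw [MulAut.inv_apply]
        exact ((ha (a.symm v)).symm.trans (by rw [MulEquiv.apply_symm_apply])) }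
  have htr : ∀ v v' : A ⧸ M.subgroupOf A, v ≠ 1 → v' ≠ 1 → ∃ γ ∈ Gm, γ v = v' := by
    have hrep : ∀ v : A ⧸ M.subgroupOf A, v ≠ 1 →
        ∃ u, ∃ hu : u ∈ U', u ≠ 1 ∧ mk ⟨u, hy'.tor.le hu⟩ = v := by
      intro v hv
      induction v using QuotientGroup.induction_on with
      | _ a =>
        obtain ⟨u, hu, w, hw, e⟩ := dec hs hl hy' a.2
        have h1 : mk a = mk ⟨u, hy'.tor.le hu⟩ := by
          rw [show a = (⟨u, hy'.tor.le hu⟩ : A) * ⟨w, hMA hw⟩ from Subtype.ext e, map_mul,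
            (hmk1 ⟨w, hMA hw⟩).2 hw, mul_one]
        refine ⟨u, hu, fun hu1 => hv ?_, h1.symm⟩
        show mk a = 1
        rw [h1, hmk1]
        show u ∈ M
        rw [hu1]; exact one_mem _
    intro v v' hv hv'
    obtain ⟨x, hx, hx1, rfl⟩ := hrep v hv
    obtain ⟨y, hy'', hy1, rfl⟩ := hrep v' hv'
    obtain ⟨j, hj⟩ := hy'.tor.trans x hx hx1 y hy'' hy1
    have hjN : h' ^ j ∈ NM := ⟨pow_mem hy'.tor.norm j, pow_mem (h_normW hs hl hy') j⟩
    refine ⟨Φ ⟨h' ^ j, hjN⟩, mem_map_of_mem Φ (mem_subgroupOf.2 (pow_mem hy'.tor.mem j)), ?_⟩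
    rw [hΦ]
    exact congrArg mk (Subtype.ext hj)
  have hfixW : ∀ σ ∈ E, σ ≠ 1 → ∀ v, σ v = v → v ∈ Wb := by
    intro σ hσ hσ1 v' hv'
    obtain ⟨f, rfl⟩ := hEeq σ hσ
    by_cases hv1 : v' = 1
    · subst hv1; exact one_mem _
    obtain ⟨v, hv⟩ : ∃ v, Φ (lift f) v ≠ v := by
      by_contra hall
      push Not at hall
      exact hσ1 (MulEquiv.ext hall)
    obtain ⟨a, rfl⟩ := QuotientGroup.mk'_surjective _ v
    obtain ⟨w, hw, e⟩ := hcomW f a
    have hw1 : mk w ≠ 1 := fun e1 => hv (by rw [e, e1, one_mul])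
    obtain ⟨γ0, hγ0, hγ0v⟩ := htr (mk w) v' hw1 hv1
    let Sset := {γ : Gm // (γ : MulAut _) (mk w) = v'}
    let Stb : Subgroup Gm :=
      { carrier := {γ | (γ : MulAut _) (mk w) = mk w}
        one_mem' := rfl
        mul_mem' := fun {a b} ha hb => by
          show (a : MulAut _) ((b : MulAut _) (mk w)) = mk w
          rw [show (b : MulAut _) (mk w) = mk w from hb, show (a : MulAut _) (mk w) = mk w from ha]
        inv_mem' := fun {a} ha => by
          show (a : MulAut _).symm (mk w) = mk w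
          rw [MulEquiv.symm_apply_eq]
          exact ha.symm }
    have hSodd : Odd (Nat.card Sset) := by
      let g0 : Gm := ⟨γ0, hγ0⟩
      have e : Nat.card Stb = Nat.card Sset := Nat.card_congr
        { toFun := fun γ => ⟨g0 * γ, by
            show γ0 (((γ : Gm) : MulAut _) (mk w)) = v'
            rw [show ((γ : Gm) : MulAut _) (mk w) = mk w from γ.2, hγ0v]⟩
          invFun := fun γ => ⟨g0⁻¹ * γ.1, by
            show γ0.symm ((γ.1 : MulAut _) (mk w)) = mk w
            rw [γ.2, MulEquiv.symm_apply_eq, hγ0v]⟩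
          left_inv := fun γ => Subtype.ext (inv_mul_cancel_left g0 _)
          right_inv := fun γ => Subtype.ext (mul_inv_cancel_left g0 _) }
      rw [← e]
      exact hGodd.of_dvd_nat (Subgroup.card_subgroup_dvd_card Stb)
    set σ := Φ (lift f) with hσdef
    have hinv : σ⁻¹ = σ := inv_eq_of_mul_eq_one_right (hEsq _ hσ)
    let pinv : Sset → Sset := fun γ => ⟨⟨σ * (γ.1 : MulAut _) * σ⁻¹, (mem_conj_iff (hEN hσ)).2 γ.1.2⟩, by
      show σ ((γ.1 : MulAut _) (σ⁻¹ (mk w))) = v'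
      rw [hinv, hWfix f w hw, γ.2, hv']⟩
    have hp : Function.Involutive pinv := fun γ => Subtype.ext (Subtype.ext (by
      show σ * (σ * ((γ.1 : Gm) : MulAut (A ⧸ M.subgroupOf A)) * σ⁻¹) * σ⁻¹ = ((γ.1 : Gm) : MulAut (A ⧸ M.subgroupOf A))
      rw [hinv, ← mul_assoc, ← mul_assoc, hEsq _ hσ, one_mul, mul_assoc, hEsq _ hσ, mul_one]))
    letI : Fintype Sset := Fintype.ofFinite _
    obtain ⟨γ, hγ⟩ := Equiv.Perm.exists_fixed_point_of_prime (p := 2) (n := 1) (α := Sset)
      (by rw [← Nat.card_eq_fintype_card, ← even_iff_two_dvd, Nat.not_even_iff_odd]; exact hSodd)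
      (σ := hp.toPerm pinv) (by rw [pow_one, pow_two]; exact Equiv.ext hp)
    have hγc : σ * ((γ.1 : Gm) : MulAut (A ⧸ M.subgroupOf A)) * σ⁻¹ =
        ((γ.1 : Gm) : MulAut (A ⧸ M.subgroupOf A)) :=
      congrArg (fun z : Sset => ((z.1 : Gm) : MulAut (A ⧸ M.subgroupOf A))) hγ
    obtain ⟨b, hb⟩ := QuotientGroup.mk'_surjective (M.subgroupOf A) ((γ.1 : MulAut _) (mk a))
    obtain ⟨w', hw', e'⟩ := hcomW f b
    have h1 : (γ.1 : MulAut _) (σ (mk a)) = σ ((γ.1 : MulAut _) (mk a)) := by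
      rw [← MulAut.mul_apply, ← MulAut.mul_apply, mul_inv_eq_iff_eq_mul.1 hγc]
    rw [e, map_mul, γ.2, ← hb, e'] at h1
    rw [mul_right_cancel h1]
    exact mem_map_of_mem mk (mem_subgroupOf.2 hw')
  have hgen := CoprimeAct.generated_by_centralizers (A := E) (K := Gm) hEcyc hEN hcop
  have hGSt : Gm ≤ St := by
    rw [← hgen]
    refine iSup₂_le fun σ hσ => ?_
    rintro γ ⟨hγ, hγc⟩
    have hfix : ∀ v, v ∈ Wb ↔ σ v = v := fun v => by
      refine ⟨?_, hfixW σ hσ.1 hσ.2 v⟩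
      rintro ⟨w, hw, rfl⟩
      obtain ⟨f, rfl⟩ := hEeq σ hσ.1
      exact hWfix f w hw
    intro v
    rw [hfix, hfix, ← MulAut.mul_apply, ← mem_centralizer_singleton_iff.1 hγc, MulAut.mul_apply]
    exact γ.injective.eq_iff
  obtain ⟨w0, hw0, hw01⟩ := W.bot_or_exists_ne_one.resolve_left hy.ne
  have hle : ∀ v : A ⧸ M.subgroupOf A, v ∈ Wb := by
    intro v
    by_cases hv : v = 1
    · subst hv; exact one_mem _
    have hv0 : mk ⟨w0, hy.le hw0⟩ ≠ 1 := fun e => hw01 (hMW _ ((hmk1 _).1 e) hw0)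
    obtain ⟨γ, hγ, e⟩ := htr _ v hv0 hv
    rw [← e]
    exact ((hGSt hγ) _).2 (mem_map_of_mem mk (mem_subgroupOf.2 hw0))
  have h1 : Nat.card (A ⧸ M.subgroupOf A) ≤ Nat.card W := by
    refine Nat.card_le_card_of_surjective (fun w : W => mk ⟨w, hy.le w.2⟩) fun v => ?_
    obtain ⟨w, hw, rfl⟩ := hle v
    exact ⟨⟨w, mem_subgroupOf.1 hw⟩, rfl⟩
  have h2 := Subgroup.card_eq_card_quotient_mul_card_subgroup (M.subgroupOf A)
  rw [Nat.card_congr (subgroupOfEquivOfLe hMA).toEquiv, hM, card_cj, ← W_card_le hs hl hy] at h2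
  have h3 : Nat.card U = Nat.card (A ⧸ M.subgroupOf A) := Nat.eq_of_mul_eq_mul_right Nat.card_pos h2
  have h4 := hy.tor.four
  omega

end Cfsg.Agent.Gold1169.CombAux
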