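import Cfsg.Agent.Lib.Gold1169.CombBase
import Cfsg.Agent.Lib.Components.PTerminalPerfect

/-!
The action on `A` of the normaliser of `A` in a moved component: odd on `A ⧸ W`, and without transvections
when some element trivial on `A ⧸ W` moves all of `W`.
-/

set_option autoImplicit false
set_option linter.style.haveILetI false
set_option linter.unusedSectionVars false

namespace Cfsg.Agent.Gold1169.CombAux

open Subgroup
open Cfsg.Agent.Walter4 (cen cenS ocen cor XB pre CA mem_pre pre_le)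
open Cfsg.Agent.OddDown.CoreSep (q im mem_im)
open scoped commutatorElement

universe u

attribute [local instance] FittingCores.pPrimeCore_normal

variable {G : Type u} [Group G]

/-- A system with its component and torus. -/
structure Sys (A W : Subgroup G) (L : Subgroup (XB W)) (U : Subgroup G) (h : G) : Prop where
  le : W ≤ A
  ne : W ≠ ⊥
  moved : Moved A W L
  ca : CA A W L = W
  tor : Torus A W L U h

/-- No element of the component acts as a transvection. -/
def Clean (A W : Subgroup G) (L : Subgroup (XB W)) : Prop :=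
  ∀ g ∈ normalizer (A : Set G), g ∈ pre W L → Triv A W g → g ∈ centralizer (A : Set G)

theorem fix_pow {g : G} {W : Subgroup G} {c : G} (hc : ∀ w ∈ W, c * w * c⁻¹ = w)
    (hg : g ∈ normalizer (W : Set G)) :
    ∀ (m : ℕ), ∀ w ∈ W, (c * g) ^ m * w * ((c * g) ^ m)⁻¹ = g ^ m * w * (g ^ m)⁻¹
  | 0, w, _ => by simp
  | m + 1, w, hw => by
    have h1 := fix_pow hc hg m w hw
    rw [pow_succ' (c * g), pow_succ' g]
    generalize hX : (c * g) ^ m = X at h1 ⊢
    calc c * g * X * w * (c * g * X)⁻¹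
        = c * (g * (X * w * X⁻¹) * g⁻¹) * c⁻¹ := by group
      _ = c * (g * (g ^ m * w * (g ^ m)⁻¹) * g⁻¹) * c⁻¹ := by rw [h1]
      _ = g * (g ^ m * w * (g ^ m)⁻¹) * g⁻¹ :=
          hc _ ((mem_conj_iff hg).2 ((mem_conj_iff (pow_mem hg m)).2 hw))
      _ = g * g ^ m * w * (g * g ^ m)⁻¹ := by group

/-- A 2-group mapping into the image of a Sylow 2-subgroup is conjugate into it by the kernel. -/
theorem conj_into {X Y : Type u} [Group X] [Group Y] [Finite X] (ρ : X →* Y) (T : Sylow 2 X)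
    {R : Subgroup X} (hR : IsPGroup 2 R) (hle : R ≤ ((T : Subgroup X).map ρ).comap ρ) :
    ∃ z ∈ ρ.ker, ∀ x ∈ R, z * x * z⁻¹ ∈ (T : Subgroup X) := by
  haveI : Fact (Nat.Prime 2) := ⟨Nat.prime_two⟩
  set M := ((T : Subgroup X).map ρ).comap ρ with hM
  have hTM : (T : Subgroup X) ≤ M := Subgroup.le_comap_map _ _
  obtain ⟨Q, hQ⟩ := (hR.comap_of_injective M.subtype M.subtype_injective :
    IsPGroup 2 (R.subgroupOf M)).exists_le_sylow
  obtain ⟨c, hc⟩ := MulAction.exists_smul_eq M Q (T.subtype hTM)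
  have hcM : ((c : M) : X) ∈ (T : Subgroup X) ⊔ (ρ.ker : Subgroup X) := by
    rw [← Subgroup.comap_map_eq]; exact c.2
  haveI : (ρ.ker).Normal := MonoidHom.normal_ker ρ
  obtain ⟨t, ht, z, hz, hcz⟩ := Subgroup.mem_sup_of_normal_right.1 hcM
  refine ⟨z, hz, fun x hx => ?_⟩
  have h1 : (c * ⟨x, hle hx⟩ * c⁻¹ : M) ∈ ((T.subtype hTM : Sylow 2 M) : Subgroup M) := by
    rw [← hc, Sylow.smul_def, Sylow.pointwise_smul_def]
    exact Subgroup.smul_mem_pointwise_smul _ _ _ (hQ hx)
  have h2 : (c : X) * x * (c : X)⁻¹ ∈ (T : Subgroup X) := h1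
  rw [← hcz] at h2
  have h3 := mul_mem (mul_mem (inv_mem ht) h2) ht
  simpa [mul_assoc] using h3

variable [Finite G] {S : Sylow 2 G} {A : Subgroup G} (hs : Setup S A) (hl : Local A)
  {W : Subgroup G} {L : Subgroup (XB W)} {U : Subgroup G} {h : G}
include hs hl

/-- `N(A) ∩ N(W)` normalises the component and its centraliser. -/
theorem conj_pre (hy : Sys A W L U h) {g : G} (hg : g ∈ normalizer (A : Set G))
    (hgW : g ∈ normalizer (W : Set G)) :
    g ∈ normalizer (pre W L : Set G) ∧ g ∈ normalizer (pre W (centralizer (L : Set (XB W))) : Set G) := by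
  have hcen : ∀ x, x ∈ cenS W ↔ g * x * g⁻¹ ∈ cenS W := fun x =>
    mem_normalizer_iff.1 ((Components.normalizer_le_normalizer_centralizer W) hgW) x
  obtain ⟨f, hf⟩ := Walter4.map_pre_conj hcen
  have hcomp := Components.component_map_equiv f hy.moved.1
  have hca : CA A W (L.map f.toMonoidHom) = W := by
    rw [CA, ← Components.map_centralizer_equiv f L]
    ext x
    obtain ⟨y, rfl⟩ : ∃ y, g * y * g⁻¹ = x := ⟨g⁻¹ * x * g, by group⟩
    rw [mem_inf, hf, mem_conj_iff hg, mem_conj_iff hgW]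
    conv_rhs => rw [← hy.ca, CA]
    rfl
  have hmv : Moved A W (L.map f.toMonoidHom) := by
    refine ⟨hcomp, fun hc => ?_⟩
    have hAW : A ≤ W := fun a ha => by
      rw [← hca]
      exact ⟨ha, mem_pre.2 ⟨le_cenS hs hy.le ha, mem_centralizer_iff.2 fun k hk =>
        (mem_centralizer_iff.1 (hc hk) _ (mem_im ha (le_cenS hs hy.le ha))).symm⟩⟩
    have h4 := hy.tor.four
    rw [show U = ⊥ from le_bot_iff.1 (hy.tor.inf ▸ le_inf le_rfl
      (hy.tor.le.trans (hAW.trans hy.ca.ge))), card_bot] at h4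
    omega
  have he : L.map f.toMonoidHom = L :=
    moved_eq hs hl (loc hs hy.le hy.ne) hmv hy.moved (hca.trans hy.ca.symm)
  refine ⟨mem_normalizer_iff.2 fun x => ?_, mem_normalizer_iff.2 fun x => ?_⟩
  · show x ∈ pre W L ↔ g * x * g⁻¹ ∈ pre W L
    rw [← hf L x, he]
  · show x ∈ pre W _ ↔ g * x * g⁻¹ ∈ pre W _
    rw [← hf (centralizer (L : Set (XB W))) x, Components.map_centralizer_equiv f L, he]

/-- The projection to the simple quotient of the component, with its facts. -/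
theorem bridge (hy : Sys A W L U h) :
    ∃ (K : Type u) (_ : Group K) (_ : Finite K) (ρ : ↥(pre W L) →* K) (That : Sylow 2 ↥(pre W L))
      (T : Sylow 2 K) (P : Subgroup K),
      Function.Surjective ρ ∧ (T : Subgroup K) = (That : Subgroup ↥(pre W L)).map ρ ∧ Facts K T P ∧
      (A.subgroupOf (pre W L)).map ρ = P ∧ (A.subgroupOf (pre W L)) ≤ (That : Subgroup ↥(pre W L)) ∧
      (∀ x ∈ (That : Subgroup ↥(pre W L)), (x : G) ∈ normalizer (A : Set G)) ∧
      (∀ d : ↥(pre W L), d ∈ normalizer ((That : Subgroup ↥(pre W L)) : Set ↥(pre W L)) →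
        (d : G) ∈ normalizer (A : Set G)) ∧
      (∀ x : ↥(pre W L), ρ x = 1 ↔ (x : G) ∈ pre W (centralizer (L : Set (XB W)))) := by
  haveI : Fact (Nat.Prime 2) := ⟨Nat.prime_two⟩
  have hLle : pre W L ≤ cenS W := pre_le
  let σ : ↥(pre W L) →* ↥L :=
    { toFun := fun x => ⟨q (cenS W) ⟨x, hLle x.2⟩, (mem_pre.1 x.2).2⟩
      map_one' := Subtype.ext (map_one (q (cenS W)))
      map_mul' := fun a b => Subtype.ext (map_mul (q (cenS W)) ⟨a, hLle a.2⟩ ⟨b, hLle b.2⟩) }
  let ρ : ↥(pre W L) →* ↥L ⧸ center ↥L := (QuotientGroup.mk' (center ↥L)).comp σ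
  have hρ : Function.Surjective ρ := by
    refine (QuotientGroup.mk'_surjective _).comp fun l => ?_
    obtain ⟨x, hx⟩ := QuotientGroup.mk'_surjective _ (l : XB W)
    exact ⟨⟨x, mem_pre.2 ⟨x.2, hx.symm ▸ l.2⟩⟩, Subtype.ext hx⟩
  have hker : ∀ x : ↥(pre W L), ρ x = 1 ↔ (x : G) ∈ pre W (centralizer (L : Set (XB W))) := fun x => by
    refine Iff.trans (QuotientGroup.eq_one_iff _) ?_
    rw [mem_center_iff, mem_pre]
    exact ⟨fun h => ⟨hLle x.2, mem_centralizer_iff.2 fun l hl => congrArg Subtype.val (h ⟨l, hl⟩)⟩,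
      fun ⟨_, h⟩ l => Subtype.ext (mem_centralizer_iff.1 h l l.2)⟩
  -- a Sylow 2-subgroup of the component inside a 2-group containing `A`
  set H0 := normalizer (pre W L : Set G) ⊓ cenS W with hH0
  have hAH : A ≤ H0 := fun a ha => by
    refine ⟨mem_normalizer_iff.2 fun x => ?_, le_cenS hs hy.le ha⟩
    have ha' := le_cenS hs hy.le ha
    have hn := mem_normalizer_iff.1 (hl.normal W (loc hs hy.le hy.ne) L hy.moved.1 (mem_im ha ha'))
    show x ∈ pre W L ↔ a * x * a⁻¹ ∈ pre W L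
    constructor
    · intro hx
      obtain ⟨hx', hxL⟩ := mem_pre.1 hx
      exact mem_pre.2 ⟨mul_mem (mul_mem ha' hx') (inv_mem ha'), (hn _).1 hxL⟩
    · intro hx
      obtain ⟨hx', hxL⟩ := mem_pre.1 hx
      have hx'' : x ∈ cenS W := by
        have := mul_mem (mul_mem (inv_mem ha') hx') ha'
        simpa [mul_assoc] using this
      exact mem_pre.2 ⟨hx'', (hn _).2 hxL⟩
  have hLH : pre W L ≤ H0 := le_inf le_normalizer hLle
  haveI : ((pre W L).subgroupOf H0).Normal := (normal_subgroupOf_iff_le_normalizer hLH).2 inf_le_left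
  obtain ⟨R, hR⟩ := ((isPGroup_of_le hs le_rfl).comap_of_injective H0.subtype H0.subtype_injective :
    IsPGroup 2 (A.subgroupOf H0)).exists_le_sylow
  set R' := (R : Subgroup H0).map H0.subtype with hR'
  have hR'p : IsPGroup 2 R' := R.isPGroup'.map _
  have hAR : A ≤ R' := fun a ha => ⟨⟨a, hAH ha⟩, hR ha, rfl⟩
  have hidx : ¬ 2 ∣ (R'.subgroupOf (pre W L)).index := by
    have h1 := PTerm.sylow_inf_subnormal R.not_dvd_index
      (Subgroup.Normal.isSubnormal (inferInstance : ((pre W L).subgroupOf H0).Normal))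
    rwa [← relIndex_map_map_of_injective _ _ H0.subtype_injective, subgroupOf_map_subtype,
      inf_eq_left.2 hLH] at h1
  let That : Sylow 2 ↥(pre W L) := IsPGroup.toSylow
    (hR'p.comap_of_injective (pre W L).subtype (pre W L).subtype_injective :
      IsPGroup 2 (R'.subgroupOf (pre W L))) hidx
  have hThat : ∀ x : ↥(pre W L), x ∈ (That : Subgroup ↥(pre W L)) → (x : G) ∈ R' := fun x hx => hx
  have hAT : A.subgroupOf (pre W L) ≤ (That : Subgroup ↥(pre W L)) := fun x hx => hAR hx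
  let T : Sylow 2 (↥L ⧸ center ↥L) := That.mapSurjective hρ
  set I := (A.subgroupOf (pre W L)).map ρ with hI
  have hIT : I ≤ (T : Subgroup (↥L ⧸ center ↥L)) := map_mono hAT
  have hclosed : ∀ x ∈ I, ∀ k : ↥L ⧸ center ↥L, k * x * k⁻¹ ∈ (T : Subgroup _) → k * x * k⁻¹ ∈ I := by
    rintro _ ⟨x, hxA, rfl⟩ k hk
    obtain ⟨g, rfl⟩ := hρ k
    rw [← map_inv, ← map_mul, ← map_mul] at hk
    obtain ⟨z, hz, hzy⟩ := conj_into ρ That (R := zpowers (g * x * g⁻¹)) (by
      have hxp : IsPGroup 2 (zpowers x) :=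
        ((isPGroup_of_le hs le_rfl).comap_of_injective (pre W L).subtype
          (pre W L).subtype_injective).to_le (zpowers_le.2 hxA)
      have := hxp.map (MulAut.conj g).toMonoidHom
      rwa [MonoidHom.map_zpowers] at this)
      (zpowers_le.2 hk)
    have h1 := hzy _ (mem_zpowers _)
    have h2 : ((z * (g * x * g⁻¹) * z⁻¹ : ↥(pre W L)) : G) ∈ A := by
      have h3 := closed_in hs hR'p hAR (hxA : (x : G) ∈ A) ((z * g : ↥(pre W L)) : G) (by
        have := hThat _ h1
        simpa [mul_assoc] using this)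
      simpa [mul_assoc] using h3
    refine ⟨z * (g * x * g⁻¹) * z⁻¹, h2, ?_⟩
    rw [map_mul, map_mul, map_inv, MonoidHom.mem_ker.1 hz, one_mul, inv_one, mul_one, map_mul, map_mul,
      map_inv]
  have hIne : I ≠ ⊥ := fun he => by
    obtain ⟨u, hu, hu1⟩ := U.bot_or_exists_ne_one.resolve_left fun e => by
      have h4 := hy.tor.four
      rw [e, card_bot] at h4
      omega
    have h1 : ρ ⟨u, hy.tor.inU hu⟩ = 1 :=
      mem_bot.1 (he ▸ mem_map_of_mem ρ (show (⟨u, hy.tor.inU hu⟩ : ↥(pre W L)) ∈ A.subgroupOf _ from hy.tor.le hu))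
    exact hu1 (mem_bot.1 (hy.tor.inf ▸ (show u ∈ U ⊓ CA A W L from
      ⟨hu, hy.tor.le hu, (hker _).1 h1⟩)))
  have hIea : Cfsg.IsElementaryAbelian 2 I := by
    refine ⟨⟨⟨?_⟩⟩, ?_⟩
    · rintro ⟨_, x, hx, rfl⟩ ⟨_, y, hy', rfl⟩
      refine Subtype.ext ?_
      show ρ x * ρ y = ρ y * ρ x
      rw [← map_mul, ← map_mul]
      exact congrArg ρ (Subtype.ext (comm hs hx hy'))
    · rintro _ ⟨x, hx, rfl⟩
      rw [← map_pow, show x ^ 2 = 1 from Subtype.ext (hs.ea.2 _ hx), map_one]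
  have hsimp : IsSimpleGroup (↥L ⧸ center ↥L) := hy.moved.1.2.2
  have hnab : ¬ IsMulCommutative (↥L ⧸ center ↥L) := fun hc => by
    haveI := hsimp
    haveI : Group.IsPerfect ↥L := hy.moved.1.2.1
    haveI : Group.IsPerfect (↥L ⧸ center ↥L) :=
      Group.IsPerfect.ofSurjective (QuotientGroup.mk'_surjective (center ↥L))
    have h1 : _root_.commutator (↥L ⧸ center ↥L) = ⊥ := by
      rw [commutator_eq_closure, closure_eq_bot_iff]
      rintro _ ⟨a, b, rfl⟩
      exact commutatorElement_eq_one_iff_mul_comm.2 (mul_comm' a b)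
    exact bot_ne_top (h1.symm.trans (Group.IsPerfect.commutator_eq_top))
  have hlt : Nat.card (↥L ⧸ center ↥L) < Nat.card G :=
    lt_of_le_of_lt ((Nat.le_of_dvd Nat.card_pos (card_quotient_dvd_card _)).trans
      ((Nat.le_of_dvd Nat.card_pos (card_subgroup_dvd_card _)).trans
        (Nat.le_of_dvd Nat.card_pos (card_quotient_dvd_card _)))) (cenS_lt hs hy.le hy.ne)
  obtain ⟨P, hP⟩ := hs.kind _ hsimp hnab (hs.ind _ hlt hsimp hnab T I hIne hIea ⟨hIT, hclosed⟩) T
  have hIP : I = P := by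
    refine le_antisymm (fun x hx => (hP.mem_iff x (hIT hx)).1 ?_) fun y hy' => ?_
    · rw [← pow_two]; exact hIea.2 x hx
    by_cases hy1 : y = 1
    · subst hy1; exact one_mem _
    obtain ⟨x, hx, hx1⟩ := I.bot_or_exists_ne_one.resolve_left hIne
    obtain ⟨d, -, -, htr, -, -⟩ := hP.reg
    have hxP : x ∈ P := (hP.mem_iff x (hIT hx)).1 (by rw [← pow_two]; exact hIea.2 x hx)
    obtain ⟨i, hi⟩ := htr x hxP hx1 y hy' hy1
    have := hclosed x hx (d ^ i) (by rw [hi]; exact hP.le hy')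
    rwa [hi] at this
  refine ⟨↥L ⧸ center ↥L, inferInstance, inferInstance, ρ, That, T, P, hρ, rfl, hP, hIP, hAT,
    fun x hx => le_normalizer_of_two hs hR'p hAR (hThat x hx), fun d hd => ?_, hker⟩
  have key : ∀ d : ↥(pre W L), d ∈ normalizer ((That : Subgroup ↥(pre W L)) : Set ↥(pre W L)) →
      ∀ a ∈ A, (d : G) * a * (d : G)⁻¹ ∈ A := by
    intro d hd a ha
    obtain ⟨u, hu, w, hw, rfl⟩ := decomp hs hy.tor.le (CA_le L) hy.tor.sup ha
    rw [hy.ca] at hw
    have h1 : (d : G) * u * (d : G)⁻¹ ∈ A := closed_in hs hR'p hAR (hy.tor.le hu) d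
      (hThat _ ((mem_normalizer_iff.1 hd ⟨u, hy.tor.inU hu⟩).1 (hAR (hy.tor.le hu))))
    have h2 : (d : G) * w * (d : G)⁻¹ = w := by
      rw [← mem_centralizer_iff.1 (hLle d.2) w hw]; group
    rw [show (d : G) * (u * w) * (d : G)⁻¹ = (d : G) * u * (d : G)⁻¹ * ((d : G) * w * (d : G)⁻¹) by group, h2]
    exact mul_mem h1 (hy.le hw)
  exact mem_normalizer_iff.2 fun a => ⟨key d hd a, fun ha => by
    have := key d⁻¹ (inv_mem hd) _ ha
    simpa [mul_assoc] using this⟩

theorem pre_fix (hy : Sys A W L U h) {x w : G} (hx : x ∈ pre W L) (hw : w ∈ W) : x * w * x⁻¹ = w := by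
  rw [← mem_centralizer_iff.1 (pre_le hx) w hw]; group

/-- The action on `A ⧸ W` is of odd order. -/
theorem odd_triv (hy : Sys A W L U h) {g : G} (hg : g ∈ normalizer (A : Set G)) (hgL : g ∈ pre W L) :
    ∃ n : ℕ, Odd n ∧ Triv A W (g ^ n) := by
  obtain ⟨K, _, _, ρ, That, T, P, hρ, hT, hP, hI, -, -, -, hker⟩ := bridge hs hl hy
  set x : ↥(pre W L) := ⟨g, hgL⟩ with hx
  obtain ⟨d, -, -, -, -, hnorm⟩ := hP.reg
  have hxP : ρ x ∈ normalizer (P : Set K) := by
    rw [← hI]
    refine Subgroup.le_normalizer_map ρ ⟨x, ?_, rfl⟩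
    exact mem_normalizer_iff.2 fun y => mem_normalizer_iff.1 hg y
  obtain ⟨⟨n, hn, hfix⟩, -⟩ := hnorm _ hxP
  refine ⟨n, hn, fun a ha => ?_⟩
  obtain ⟨u, hu, w, hw, rfl⟩ := decomp hs hy.tor.le (CA_le L) hy.tor.sup ha
  rw [hy.ca] at hw
  have hgn : g ^ n ∈ normalizer (A : Set G) := pow_mem hg n
  have hgn' : g ^ n ∈ pre W L := pow_mem hgL n
  set c : G := g ^ n * u * (g ^ n)⁻¹ * u⁻¹ with hc
  have hcA : c ∈ A := mul_mem ((mem_conj_iff hgn).2 (hy.tor.le hu)) (inv_mem (hy.tor.le hu))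
  have e : g ^ n * (u * w) * (g ^ n)⁻¹ * (u * w)⁻¹ = c := by
    rw [show g ^ n * (u * w) * (g ^ n)⁻¹ = g ^ n * u * (g ^ n)⁻¹ * (g ^ n * w * (g ^ n)⁻¹) by group,
      pre_fix hs hl hy hgn' hw, hc]
    group
  rw [e, ← hy.ca]
  refine ⟨hcA, ?_⟩
  have hu' : ρ ⟨u, hy.tor.inU hu⟩ ∈ P := hI ▸ mem_map_of_mem ρ (show _ ∈ A.subgroupOf _ from hy.tor.le hu)
  have h1 : ρ (x ^ n * ⟨u, hy.tor.inU hu⟩ * (x ^ n)⁻¹ * (⟨u, hy.tor.inU hu⟩)⁻¹) = 1 := by
    rw [map_mul, map_mul, map_mul, map_inv, map_inv, map_pow, hfix _ hu', mul_inv_cancel]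
  exact (hker _).1 h1

/-- An element with image in `P` centralises `A`. -/
theorem ker_P (hy : Sys A W L U h) {K : Type u} [Group K] {ρ : ↥(pre W L) →* K} {P : Subgroup K}
    (hI : (A.subgroupOf (pre W L)).map ρ = P)
    (hker : ∀ x : ↥(pre W L), ρ x = 1 ↔ (x : G) ∈ pre W (centralizer (L : Set (XB W))))
    {x : ↥(pre W L)} (hxA : (x : G) ∈ normalizer (A : Set G)) (hxP : ρ x ∈ P) :
    (x : G) ∈ centralizer (A : Set G) := by
  rw [← hI] at hxP
  obtain ⟨a, ha, hax⟩ := hxP
  have haA : (a : G) ∈ A := ha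
  set z : ↥(pre W L) := a⁻¹ * x with hz
  have hz1 : ρ z = 1 := by rw [hz, map_mul, map_inv, hax, inv_mul_cancel]
  obtain ⟨hzW, hzc⟩ := mem_pre.1 ((hker z).1 hz1)
  have hzA : (z : G) ∈ normalizer (A : Set G) := mul_mem (inv_mem (le_normalizer haA)) hxA
  have hzu : ∀ u ∈ U, (z : G) * u * (z : G)⁻¹ = u := fun u hu => by
    have hcA : (z : G) * u * (z : G)⁻¹ * u⁻¹ ∈ A :=
      mul_mem ((mem_conj_iff hzA).2 (hy.tor.le hu)) (inv_mem (hy.tor.le hu))
    have huW := pre_le (hy.tor.inU hu)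
    have h1 := mem_centralizer_iff.1 hzc _ (mem_pre.1 (hy.tor.inU hu)).2
    have hq : q (cenS W) ⟨_, mul_mem (mul_mem (mul_mem hzW huW) (inv_mem hzW)) (inv_mem huW)⟩ = 1 := by
      show q (cenS W) (⟨z, hzW⟩ * ⟨u, huW⟩ * ⟨z, hzW⟩⁻¹ * ⟨u, huW⟩⁻¹) = 1
      rw [map_mul, map_mul, map_mul, map_inv, map_inv, ← h1]
      group
    exact mul_inv_eq_one.1 (eq_one_of_q hs hcA _ hq)
  refine mem_centralizer_iff.2 fun b hb => ?_
  obtain ⟨u, hu, w, hw, rfl⟩ := decomp hs hy.tor.le (CA_le L) hy.tor.sup hb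
  rw [hy.ca] at hw
  have hzb : (z : G) * (u * w) * (z : G)⁻¹ = u * w := by
    rw [show (z : G) * (u * w) * (z : G)⁻¹ = (z : G) * u * (z : G)⁻¹ * ((z : G) * w * (z : G)⁻¹) by group,
      hzu u hu, pre_fix hs hl hy z.2 hw]
  have hxz : (x : G) = a * z := by simp [hz]
  rw [hxz, mul_assoc (a : G), mul_inv_eq_iff_eq_mul.1 hzb, ← mul_assoc, ← mul_assoc,
    comm hs (hy.le hw |> fun h => mul_mem (hy.tor.le hu) h) haA]

/-- No transvections if some element trivial on `A ⧸ W` moves every element of `W`. -/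
theorem clean_of_move (hy : Sys A W L U h) {g : G} (hg : g ∈ normalizer (A : Set G))
    (hgW : g ∈ normalizer (W : Set G)) (hgt : Triv A W g)
    (hfp : ∀ k : ℕ, ∀ w ∈ W, g ^ 2 ^ k * w * (g ^ 2 ^ k)⁻¹ = w → w = 1) : Clean A W L := by
  haveI : Fact (Nat.Prime 2) := ⟨Nat.prime_two⟩
  obtain ⟨K, _, _, ρ, That, T, P, hρ, hT, hP, hI, hAT, hTN, hNN, hker⟩ := bridge hs hl hy
  -- the subgroup of the elements trivial on `A ⧸ W`
  let N1 : Subgroup ↥(pre W L) :=
    { carrier := {x | (x : G) ∈ normalizer (A : Set G) ∧ Triv A W x}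
      one_mem' := ⟨one_mem _, fun a _ => by simp⟩
      mul_mem' := by
        rintro x y ⟨hx, hx'⟩ ⟨hy', hy''⟩
        refine ⟨mul_mem hx hy', fun a ha => ?_⟩
        have h1 := hy'' a ha
        have h2 := hx' a ha
        rw [show ((x * y : ↥(pre W L)) : G) * a * ((x * y : ↥(pre W L)) : G)⁻¹ * a⁻¹ =
          (x : G) * ((y : G) * a * (y : G)⁻¹ * a⁻¹) * (x : G)⁻¹ * ((x : G) * a * (x : G)⁻¹ * a⁻¹) by
          push_cast; group]
        rw [pre_fix hs hl hy x.2 h1]
        exact mul_mem h1 h2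
      inv_mem' := by
        rintro x ⟨hx, hx'⟩
        refine ⟨inv_mem hx, fun a ha => ?_⟩
        have h1 := hx' a ha
        have h2 := pre_fix hs hl hy (inv_mem x.2) h1
        have e : ((x⁻¹ : ↥(pre W L)) : G) * a * ((x⁻¹ : ↥(pre W L)) : G)⁻¹ * a⁻¹ =
            ((x : G)⁻¹ * ((x : G) * a * (x : G)⁻¹ * a⁻¹) * ((x : G)⁻¹)⁻¹)⁻¹ := by push_cast; group
        rw [e, h2]
        exact inv_mem h1 }
  have hN1 : ∀ x : ↥(pre W L), x ∈ N1 ↔ (x : G) ∈ normalizer (A : Set G) ∧ Triv A W x := fun x => Iff.rfl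
  have hTN1 : (That : Subgroup ↥(pre W L)) ≤ N1 := by
    intro x hx
    obtain ⟨n, hn, ht⟩ := odd_triv hs hl hy (hTN x hx) x.2
    have h1 : x ^ n ∈ N1 := ⟨by rw [SubmonoidClass.coe_pow]; exact pow_mem (hTN x hx) n,
      by rw [SubmonoidClass.coe_pow]; exact ht⟩
    obtain ⟨k, hk⟩ := That.isPGroup' ⟨x, hx⟩
    have hxk : x ^ 2 ^ k = 1 := congrArg Subtype.val hk
    have hco : n.Coprime (2 ^ k) := Nat.Coprime.pow_right k (Nat.coprime_two_right.2 hn)
    have hco' : n.Coprime (orderOf x) := hco.coprime_dvd_right (orderOf_dvd_of_pow_eq_one hxk)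
    obtain ⟨m, hm⟩ := exists_pow_eq_self_of_coprime hco'
    rw [← hm]
    exact pow_mem h1 m
  have hPc : ∀ x ∈ N1, ρ x ∈ P → (x : G) ∈ centralizer (A : Set G) := fun x hx hxP =>
    ker_P hs hl hy hI hker hx.1 hxP
  haveI hCn : ((centralizer (A : Set G)).subgroupOf (normalizer (A : Set G))).Normal :=
    (normal_subgroupOf_iff_le_normalizer (centralizer_le_normalizer _)).2
      (Components.normalizer_le_normalizer_centralizer A)
  have hconj : ∀ c y : G, c ∈ normalizer (A : Set G) → c * y * c⁻¹ ∈ centralizer (A : Set G) →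
      y ∈ centralizer (A : Set G) := fun c y hc h1 =>
    (mem_conj_iff (Components.normalizer_le_normalizer_centralizer A hc)).1 h1
  -- all of `That` centralises `A`
  have hmain : ∀ x ∈ (That : Subgroup ↥(pre W L)), (x : G) ∈ centralizer (A : Set G) := by
    have hTnP : ∀ t ∈ (T : Subgroup K), ∀ p ∈ P, t * p * t⁻¹ = p := by
      intro t ht p hp
      rw [hT] at ht
      obtain ⟨y, hy', rfl⟩ := ht
      rw [← hI] at hp
      obtain ⟨a, ha, rfl⟩ := hp
      have h1 := (hTN1 hy').2 a ha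
      have h2 : (y * a * y⁻¹ * a⁻¹ : ↥(pre W L)) ∈ ρ.ker := by
        rw [MonoidHom.mem_ker, hker]
        exact (Subgroup.mem_inf.1 (hy.ca.ge h1)).2
      rw [MonoidHom.mem_ker, map_mul, map_mul, map_mul, map_inv, map_inv, mul_inv_eq_one] at h2
      exact h2
    rcases hP.vee with hTP | ⟨d, hdN, hdP, hd⟩ | hsq
    · intro x hx
      exact hPc x (hTN1 hx) (hTP ▸ hT ▸ mem_map_of_mem ρ hx)
    · obtain ⟨d₀, rfl⟩ := hρ d
      obtain ⟨z, hz, hzT⟩ := conj_into ρ That
        (R := (That : Subgroup ↥(pre W L)).map (MulAut.conj d₀).toMonoidHom) (That.isPGroup'.map _) (by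
          rintro _ ⟨y, hy', rfl⟩
          rw [Subgroup.mem_comap]
          show ρ (d₀ * y * d₀⁻¹) ∈ _
          rw [map_mul, map_mul, map_inv, ← hT]
          exact (mem_normalizer_iff.1 hdN _).1 (hT ▸ mem_map_of_mem ρ hy'))
      set d' := z * d₀ with hd'
      have hd'T : d' ∈ normalizer ((That : Subgroup ↥(pre W L)) : Set ↥(pre W L)) := by
        refine mem_normalizer_of_cj (Subgroup.eq_of_le_of_card_ge ?_ (card_cj d' _).ge)
        intro y hy'
        obtain ⟨y', hy'', rfl⟩ : ∃ y' ∈ (That : Subgroup ↥(pre W L)), d' * y' * d'⁻¹ = y :=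
          ⟨d'⁻¹ * y * d', mem_cj.1 hy', by group⟩
        have := hzT _ (mem_map_of_mem _ hy'')
        simpa [hd', mul_assoc] using this
      have hρd : ρ d' = ρ d₀ := by rw [hd', map_mul, MonoidHom.mem_ker.1 hz, one_mul]
      have hd'N : d' ∈ N1 := ⟨hNN d' hd'T, fun a ha => by
        obtain ⟨u, hu, w, hw, rfl⟩ := decomp hs hy.tor.le (CA_le L) hy.tor.sup ha
        rw [hy.ca] at hw
        have hu' : ρ ⟨u, hy.tor.inU hu⟩ ∈ P :=
          hI ▸ mem_map_of_mem ρ (show _ ∈ A.subgroupOf _ from hy.tor.le hu)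
        have h1 : ρ (d' * ⟨u, hy.tor.inU hu⟩ * d'⁻¹ * (⟨u, hy.tor.inU hu⟩)⁻¹) = 1 := by
          rw [map_mul, map_mul, map_mul, map_inv, map_inv, hρd, hdP _ hu', mul_inv_cancel_right,
            mul_inv_cancel]
        rw [show (d' : G) * (u * w) * (d' : G)⁻¹ = (d' : G) * u * (d' : G)⁻¹ * ((d' : G) * w * (d' : G)⁻¹) by
          group, pre_fix hs hl hy d'.2 hw]
        rw [show (d' : G) * u * (d' : G)⁻¹ * w * (u * w)⁻¹ = (d' : G) * u * (d' : G)⁻¹ * u⁻¹ by group]
        refine hy.ca.le ?_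
        refine Subgroup.mem_inf.2 ⟨mul_mem ((mem_conj_iff (hNN d' hd'T)).2 (hy.tor.le hu)) (inv_mem (hy.tor.le hu)),
          ?_⟩
        exact (hker _).1 h1⟩
      haveI hPn : (P.subgroupOf (T : Subgroup K)).Normal := ⟨fun p hp t => by
        show ((t * p * t⁻¹ : ↥(T : Subgroup K)) : K) ∈ P
        rw [Subgroup.coe_mul, Subgroup.coe_mul, Subgroup.coe_inv, hTnP _ t.2 _ (Subgroup.mem_subgroupOf.1 hp)]
        exact Subgroup.mem_subgroupOf.1 hp⟩
      let δ : ↥(T : Subgroup K) → ↥(T : Subgroup K) := fun y =>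
        ⟨ρ d₀ * y * (ρ d₀)⁻¹, (mem_normalizer_iff.1 hdN _).1 y.2⟩
      let F : ↥(T : Subgroup K) → ↥(T : Subgroup K) ⧸ P.subgroupOf (T : Subgroup K) := fun y =>
        QuotientGroup.mk' _ (δ y * y⁻¹)
      have hsurj : Function.Surjective F := by
        have hwd : ∀ y y' : ↥(T : Subgroup K),
            F y = F y' ↔ y⁻¹ * y' ∈ P.subgroupOf (T : Subgroup K) := by
          intro y y'
          have hmul : ∀ a b : ↥(T : Subgroup K), δ (a * b) = δ a * δ b := fun a b =>
            Subtype.ext (by simp [δ, mul_assoc])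
          set π := QuotientGroup.mk' (P.subgroupOf (T : Subgroup K)) with hπ
          obtain ⟨p, hp⟩ : ∃ p, y' = y * p := ⟨y⁻¹ * y', by group⟩
          subst hp
          rw [inv_mul_cancel_left]
          constructor
          · intro e
            have e' : π (δ p * p⁻¹) = 1 := by
              simp only [F, hmul, ← hπ, map_mul, map_inv, mul_inv_rev] at e ⊢
              have := e.symm
              rw [mul_assoc] at this
              have h5 := mul_left_cancel this
              rw [← mul_assoc] at h5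
              exact mul_eq_right.1 h5
            refine hd _ p.2 ?_
            exact ((QuotientGroup.eq_one_iff _).1 e' : δ p * p⁻¹ ∈ P.subgroupOf _)
          · intro hpP
            have h1 : δ p = p := Subtype.ext (by
              show ρ d₀ * p * (ρ d₀)⁻¹ = p
              rw [hdP _ (Subgroup.mem_subgroupOf.1 hpP), mul_inv_cancel_right])
            have h2 : π p = 1 := (QuotientGroup.eq_one_iff p).2 hpP
            simp only [F, hmul, ← hπ, h1, map_mul, map_inv, mul_inv_rev, h2, mul_one, inv_one, one_mul]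
        intro c
        let F' : ↥(T : Subgroup K) ⧸ P.subgroupOf (T : Subgroup K) →
            ↥(T : Subgroup K) ⧸ P.subgroupOf (T : Subgroup K) :=
          fun z => Quotient.liftOn' z F fun a b hab =>
            (hwd a b).2 (QuotientGroup.leftRel_apply.1 hab)
        have hinj : Function.Injective F' := by
          intro z z' e
          induction z using QuotientGroup.induction_on with
          | _ a =>
            induction z' using QuotientGroup.induction_on with
            | _ b => exact QuotientGroup.eq.2 ((hwd a b).1 e)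
        obtain ⟨z, hz'⟩ := (Finite.injective_iff_surjective.1 hinj) c
        obtain ⟨a, rfl⟩ := QuotientGroup.mk'_surjective _ z
        exact ⟨a, hz'⟩
      intro x hx
      obtain ⟨y, hy'⟩ := hsurj (QuotientGroup.mk' _ (⟨ρ x, hT ▸ mem_map_of_mem ρ hx⟩ : ↥(T : Subgroup K)))
      obtain ⟨yK, hyK⟩ := y
      have hyK' := hyK
      rw [hT] at hyK'
      obtain ⟨y₀, hy₀, rfl⟩ := hyK'
      have h1 : ρ ((d' * y₀ * d'⁻¹ * y₀⁻¹)⁻¹ * x) ∈ P := by
        have := QuotientGroup.eq.1 hy'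
        rw [map_mul, map_inv, map_mul, map_mul, map_mul, map_inv, map_inv, hρd]
        simpa [δ, Subgroup.mem_subgroupOf] using this
      have hy₁ := hTN1 hy₀
      have h2 : (((d' * y₀ * d'⁻¹ * y₀⁻¹) : ↥(pre W L)) : G) ∈ centralizer (A : Set G) := by
        refine mem_centralizer_iff.2 fun a ha => ?_
        have key : ∀ p r : ↥(pre W L), p ∈ N1 → r ∈ N1 → ∀ a ∈ A,
            ((p * r : ↥(pre W L)) : G) * a * ((p * r : ↥(pre W L)) : G)⁻¹ =
              ((r : G) * a * (r : G)⁻¹ * a⁻¹) * ((p : G) * a * (p : G)⁻¹ * a⁻¹) * a := by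
          intro p r hp hr a ha
          have := pre_fix hs hl hy p.2 (hr.2 a ha)
          rw [show ((p * r : ↥(pre W L)) : G) * a * ((p * r : ↥(pre W L)) : G)⁻¹ =
            (p : G) * ((r : G) * a * (r : G)⁻¹ * a⁻¹) * (p : G)⁻¹ * ((p : G) * a * (p : G)⁻¹) by
            push_cast; group, this]
          group
        have hb : ((y₀ : G) * d')⁻¹ * a * ((y₀ : G) * d') ∈ A := by
          have := (mem_conj_iff (x := a) (inv_mem (mul_mem hy₁.1 hd'N.1))).2 ha
          rwa [inv_inv] at this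
        have h5 := key d' y₀ hd'N hy₁ _ hb
        have h6 := key y₀ d' hy₁ hd'N _ hb
        rw [comm hs (hy.le (hy₁.2 _ hb)) (hy.le (hd'N.2 _ hb))] at h5
        rw [← h6] at h5
        push_cast at h5 ⊢
        refine (mul_inv_eq_iff_eq_mul.1 ?_).symm
        refine Eq.trans (Eq.trans ?_ h5) ?_ <;> group
      have h3 := hPc _ (mul_mem (inv_mem (mul_mem (mul_mem (mul_mem hd'N hy₁) (inv_mem hd'N)) (inv_mem hy₁)))
        (hTN1 hx)) h1
      have := mul_mem h2 h3
      simpa [mul_assoc] using this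
    · -- Frattini
      have hgN1 : ∀ x : ↥(pre W L), x ∈ N1 → ∀ m : ℕ, ∀ hm : g ^ m * (x : G) * (g ^ m)⁻¹ ∈ pre W L,
          (⟨_, hm⟩ : ↥(pre W L)) ∈ N1 := by
        intro x hx m hm
        refine ⟨mul_mem (mul_mem (pow_mem hg m) hx.1) (inv_mem (pow_mem hg m)), fun a ha => ?_⟩
        have hb : (g ^ m)⁻¹ * a * g ^ m ∈ A := by
          have := (mem_conj_iff (x := a) (inv_mem (pow_mem hg m))).2 ha
          simpa using this
        have h1 := (mem_conj_iff (pow_mem hgW m)).2 (hx.2 _ hb)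
        convert h1 using 1
        group
      obtain ⟨hgL, hgC⟩ := conj_pre hs hl hy hg hgW
      let R1 : Subgroup ↥(pre W L) :=
        ((That : Subgroup ↥(pre W L)).map (pre W L).subtype |>.map (MulAut.conj g).toMonoidHom).subgroupOf
          (pre W L)
      have hR1 : R1 ≤ N1 := by
        rintro ⟨_, hm⟩ ⟨_, ⟨y, hy', rfl⟩, rfl⟩
        have hm' : g ^ 1 * (y : G) * (g ^ 1)⁻¹ ∈ pre W L := by rw [pow_one]; exact hm
        have := hgN1 y (hTN1 hy') 1 hm'
        simpa [pow_one] using this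
      have hR1p : IsPGroup 2 R1 :=
        ((That.isPGroup'.map _).map _).comap_of_injective (pre W L).subtype (pre W L).subtype_injective
      obtain ⟨Q, hQ⟩ := (hR1p.comap_of_injective N1.subtype N1.subtype_injective :
        IsPGroup 2 (R1.subgroupOf N1)).exists_le_sylow
      obtain ⟨c, hc⟩ := MulAction.exists_smul_eq N1 Q (That.subtype hTN1)
      set e := ((c : ↥(pre W L)) : G) * g with he
      have heA : e ∈ normalizer (A : Set G) := mul_mem c.2.1 hg
      have heW : e ∈ normalizer (W : Set G) :=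
        mul_mem (mem_normalizer_iff.2 fun w => ⟨fun hw => by rwa [pre_fix hs hl hy (c : ↥(pre W L)).2 hw],
          fun hw => by
            have := pre_fix hs hl hy (inv_mem (c : ↥(pre W L)).2) hw
            have e1 : w = ((c : ↥(pre W L)) : G)⁻¹ * (((c : ↥(pre W L)) : G) * w * ((c : ↥(pre W L)) : G)⁻¹) *
              ((c : ↥(pre W L)) : G)⁻¹⁻¹ := by group
            rw [e1, this]; exact hw⟩) hgW
      have heT : ∀ x : ↥(pre W L), x ∈ (That : Subgroup ↥(pre W L)) → ∃ x' ∈ (That : Subgroup ↥(pre W L)),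
          (x' : G) = e * x * e⁻¹ := by
        intro x hx
        have hm : g * (x : G) * g⁻¹ ∈ pre W L := (mem_conj_iff hgL).2 x.2
        have h1 : (⟨_, hm⟩ : ↥(pre W L)) ∈ R1 := ⟨x, ⟨x, hx, rfl⟩, rfl⟩
        have h2 : (c * ⟨⟨_, hm⟩, hR1 h1⟩ * c⁻¹ : N1) ∈ ((That.subtype hTN1 : Sylow 2 N1) : Subgroup N1) := by
          rw [← hc, Sylow.smul_def, Sylow.pointwise_smul_def]
          exact Subgroup.smul_mem_pointwise_smul _ _ _ (hQ h1)
        refine ⟨_, h2, ?_⟩
        simp [he, mul_assoc]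
      -- `e` and its powers
      have heN : ∀ m : ℕ, e ^ m ∈ normalizer (pre W L : Set G) ∧
          e ^ m ∈ normalizer (pre W (centralizer (L : Set (XB W))) : Set G) := fun m =>
        conj_pre hs hl hy (pow_mem heA m) (pow_mem heW m)
      have heTriv : ∀ m : ℕ, Triv A W (e ^ m) := by
        intro m
        induction m with
        | zero => intro a _; simp
        | succ m ih =>
          intro a ha
          have h1 : g * (e ^ m * a * (e ^ m)⁻¹) * g⁻¹ * (e ^ m * a * (e ^ m)⁻¹)⁻¹ ∈ W :=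
            hgt _ ((mem_conj_iff (pow_mem heA m)).2 ha)
          have hb : g * (e ^ m * a * (e ^ m)⁻¹) * g⁻¹ ∈ A := (mem_conj_iff hg).2 ((mem_conj_iff (pow_mem heA m)).2 ha)
          have h2 := c.2.2 _ hb
          have := mul_mem (mul_mem h2 h1) (ih a ha)
          convert this using 1
          rw [pow_succ']
          generalize e ^ m = X
          rw [he]
          group
      have hefix : ∀ m : ℕ, ∀ w ∈ W, e ^ m * w * (e ^ m)⁻¹ = g ^ m * w * (g ^ m)⁻¹ :=
        fix_pow (fun w hw => pre_fix hs hl hy (c : ↥(pre W L)).2 hw) hgW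
      -- conjugation by the powers of `e` on `That`
      let cx : ℕ → ↥(pre W L) → ↥(pre W L) := fun m x =>
        ⟨e ^ m * x * (e ^ m)⁻¹, (mem_conj_iff (heN m).1).2 x.2⟩
      have hcxT : ∀ m x, x ∈ (That : Subgroup ↥(pre W L)) → cx m x ∈ (That : Subgroup ↥(pre W L)) := by
        intro m
        induction m with
        | zero => intro x hx; simpa [cx] using hx
        | succ m ih =>
          intro x hx
          obtain ⟨x', hx', e1⟩ := heT _ (ih x hx)
          have : cx (m + 1) x = x' := Subtype.ext (by rw [e1]; simp [cx, pow_succ', mul_assoc])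
          rw [this]; exact hx'
      have hcxmul : ∀ m x y, cx m (x * y) = cx m x * cx m y := fun m x y =>
        Subtype.ext (by simp [cx, mul_assoc])
      have hcxcx : ∀ m x, cx m (cx m x) = cx (m + m) x := fun m x =>
        Subtype.ext (by simp [cx, pow_add, mul_assoc])
      have hcxP : ∀ m x, ρ x ∈ P → ρ (cx m x) = ρ x := by
        intro m x hx
        rw [← hI] at hx
        obtain ⟨a, ha, hax⟩ := hx
        have h1 : ρ (a⁻¹ * x) = 1 := by rw [map_mul, map_inv, hax, inv_mul_cancel]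
        have h2 : ρ (cx m (a⁻¹ * x)) = 1 := (hker _).2 ((mem_conj_iff (heN m).2).2 ((hker _).1 h1))
        have h3 : ρ (cx m a * a⁻¹) = 1 := by
          refine (hker _).2 ?_
          have h4 := hy.ca.ge (heTriv m a ha)
          exact h4.2
        have e1 : x = a * (a⁻¹ * x) := by group
        rw [e1, hcxmul, map_mul, map_mul ρ a, h2, h1, mul_one, mul_one]
        rwa [map_mul, map_inv, mul_inv_eq_one] at h3
      have hstep : ∀ k : ℕ, ∀ x ∈ (That : Subgroup ↥(pre W L)), ρ x ^ 2 ^ k ∈ P →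
          ρ (cx (2 ^ k) x) * (ρ x)⁻¹ ∈ P := by
        intro k
        induction k with
        | zero =>
          intro x _ hx
          rw [pow_zero, pow_one] at hx
          rw [hcxP _ x hx, mul_inv_cancel]
          exact one_mem _
        | succ k ih =>
          intro x hx hxk
          have hy2 : ρ (x * x) ^ 2 ^ k ∈ P := by
            rwa [map_mul, ← pow_two, ← pow_mul, ← pow_succ']
          have h1 := ih (x * x) (mul_mem hx hx) hy2
          set p := ρ (cx (2 ^ k) (x * x)) * (ρ (x * x))⁻¹ with hp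
          have hpp : p * p = 1 := (hP.mem_iff p (hP.le h1)).2 h1
          have h2 : ρ (cx (2 ^ (k + 1)) (x * x)) = ρ (x * x) := by
            have e1 : cx (2 ^ (k + 1)) (x * x) =
                cx (2 ^ k) (cx (2 ^ k) (x * x) * (x * x)⁻¹) * cx (2 ^ k) (x * x) := by
              rw [← hcxmul, inv_mul_cancel_right, hcxcx, ← two_mul, ← pow_succ']
            have e2 : ρ (cx (2 ^ k) (x * x) * (x * x)⁻¹) = p := by rw [map_mul, map_inv, hp]
            rw [e1, map_mul, hcxP _ _ (e2.symm ▸ h1), e2]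
            calc p * ρ (cx (2 ^ k) (x * x)) = p * (p * ρ (x * x)) := by rw [hp]; group
              _ = _ := by rw [← mul_assoc, hpp, one_mul]
          refine hsq _ (hT ▸ mem_map_of_mem ρ (hcxT _ x hx)) _ (hT ▸ mem_map_of_mem ρ hx) ?_
          rw [← map_mul, ← map_mul, ← hcxmul]
          exact h2
      intro x hx
      obtain ⟨k, hk⟩ := That.isPGroup' ⟨x, hx⟩
      have hxk : x ^ 2 ^ k = 1 := congrArg Subtype.val hk
      have hxP := hstep k x hx (by rw [← map_pow, hxk, map_one]; exact one_mem _)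
      set E := e ^ 2 ^ k with hE
      have hx' : ((cx (2 ^ k) x * x⁻¹ : ↥(pre W L)) : G) ∈ centralizer (A : Set G) :=
        hPc _ (mul_mem (hTN1 (hcxT _ x hx)) (inv_mem (hTN1 hx))) (by rwa [map_mul, map_inv])
      refine mem_centralizer_iff.2 fun a ha => ?_
      set w := (x : G) * a * (x : G)⁻¹ * a⁻¹ with hw
      have hwW : w ∈ W := (hTN1 hx).2 a ha
      have hEA : E ∈ normalizer (A : Set G) := pow_mem heA _
      set w1 := E * a * E⁻¹ * a⁻¹ with hw1
      have hw1W : w1 ∈ W := heTriv _ a ha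
      have h1 : E * w * E⁻¹ = w := by
        have hEa : E * a * E⁻¹ = w1 * a := by rw [hw1]; group
        have hEaA : E * a * E⁻¹ ∈ A := (mem_conj_iff hEA).2 ha
        have h2 : E * (x : G) * E⁻¹ * (E * a * E⁻¹) * (E * (x : G) * E⁻¹)⁻¹ =
            (x : G) * (E * a * E⁻¹) * (x : G)⁻¹ := by
          have h3 : E * (x : G) * E⁻¹ * (x : G)⁻¹ ∈ centralizer (A : Set G) := by simpa [cx, hE] using hx'
          have h4 := mem_centralizer_iff.1 h3 _ ((mem_conj_iff (hTN1 hx).1).2 hEaA)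
          calc E * (x : G) * E⁻¹ * (E * a * E⁻¹) * (E * (x : G) * E⁻¹)⁻¹
              = E * (x : G) * E⁻¹ * (x : G)⁻¹ * ((x : G) * (E * a * E⁻¹) * (x : G)⁻¹) *
                  (E * (x : G) * E⁻¹ * (x : G)⁻¹)⁻¹ := by group
            _ = _ := by rw [← h4, mul_inv_cancel_right]
        calc E * w * E⁻¹ = E * (x : G) * E⁻¹ * (E * a * E⁻¹) * (E * (x : G) * E⁻¹)⁻¹ * (E * a * E⁻¹)⁻¹ := by
              rw [hw]; group
          _ = (x : G) * (w1 * a) * (x : G)⁻¹ * (w1 * a)⁻¹ := by rw [h2, hEa]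
          _ = (x : G) * w1 * (x : G)⁻¹ * w * w1⁻¹ := by rw [hw]; group
          _ = w := by
            rw [pre_fix hs hl hy x.2 hw1W, comm hs (hy.le hw1W) (hy.le hwW), mul_inv_cancel_right]
      have h2 : w = 1 := hfp k w hwW (by rw [← hefix _ w hwW]; exact h1)
      exact (mul_inv_eq_iff_eq_mul.1 (mul_inv_eq_one.1 h2)).symm
  -- reduction to `That`
  intro x hxA hxL hxt
  set x₁ : ↥(pre W L) := ⟨x, hxL⟩ with hx₁
  have hx1N : x₁ ∈ N1 := ⟨hxA, hxt⟩
  have hsq2 : x * x ∈ centralizer (A : Set G) := by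
    refine mem_centralizer_iff.2 fun a ha => ?_
    have h1 := hxt a ha
    have h2 := pre_fix hs hl hy hxL h1
    have hwa := sq hs (hy.le h1)
    have h3 : x * x * a * (x * x)⁻¹ = a := by
      calc x * x * a * (x * x)⁻¹ = x * (x * a * x⁻¹ * a⁻¹) * x⁻¹ * ((x * a * x⁻¹ * a⁻¹) * a) := by group
        _ = a := by rw [h2, ← mul_assoc, hwa, one_mul]
    exact (mul_inv_eq_iff_eq_mul.1 h3).symm
  set m := ordCompl[2] (orderOf x₁) with hm
  have hord : orderOf x₁ ≠ 0 := (orderOf_pos x₁).ne'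
  have hmodd : Odd m := Nat.odd_iff.2 (Nat.two_dvd_ne_zero.1 (Nat.not_dvd_ordCompl Nat.prime_two hord))
  have hpg : IsPGroup 2 (zpowers (x₁ ^ m)) := by
    refine IsPGroup.of_card (n := (orderOf x₁).factorization 2) ?_
    rw [Nat.card_zpowers, orderOf_pow, Nat.gcd_eq_right (Nat.ordCompl_dvd _ 2)]
    exact Nat.div_eq_of_eq_mul_left (Nat.ordCompl_pos 2 hord) (Nat.ordProj_mul_ordCompl_eq_self _ 2).symm
  obtain ⟨Q, hQ⟩ := (hpg.comap_of_injective N1.subtype N1.subtype_injective :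
    IsPGroup 2 ((zpowers (x₁ ^ m)).subgroupOf N1)).exists_le_sylow
  obtain ⟨c, hc⟩ := MulAction.exists_smul_eq N1 Q (That.subtype hTN1)
  have h1 : (c * ⟨x₁ ^ m, pow_mem hx1N m⟩ * c⁻¹ : N1) ∈ ((That.subtype hTN1 : Sylow 2 N1) : Subgroup N1) := by
    rw [← hc, Sylow.smul_def, Sylow.pointwise_smul_def]
    exact Subgroup.smul_mem_pointwise_smul _ _ _
      (hQ (show x₁ ^ m ∈ zpowers (x₁ ^ m) from mem_zpowers _))
  have h2 := hmain _ h1
  have h3 : x ^ m ∈ centralizer (A : Set G) := hconj _ _ c.2.1 (by simpa [hx₁, mul_assoc] using h2)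
  obtain ⟨j, hj⟩ := hmodd
  rw [hj, pow_succ, pow_mul, pow_two] at h3
  simpa using mul_mem (inv_mem (pow_mem hsq2 j)) h3

end Cfsg.Agent.Gold1169.CombAux
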