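import Cfsg.Agent.Lib.Gold1169.CombCanon

/-!
Two minimal systems meet.
-/

set_option autoImplicit false
set_option linter.style.haveILetI false
set_option linter.unusedSectionVars false

namespace Cfsg.Agent.Gold1169.CombAux

open Subgroup
open Cfsg.Agent.Walter4 (cen cenS ocen cor XB pre CA)

universe u

variable {G : Type u} [Group G] [Finite G] {S : Sylow 2 G} {A : Subgroup G} (hs : Setup S A)
  (hl : Local A) {W : Subgroup G} {L : Subgroup (XB W)} {U : Subgroup G} {h : G}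

/-- The orbit of a subgroup under `N(A)`. -/
def orbW (A W : Subgroup G) : Set (Subgroup G) :=
  {M | ∃ k ∈ normalizer (A : Set G), M = cj k W}

theorem self_orb (A W : Subgroup G) : W ∈ orbW A W := ⟨1, one_mem _, (cj_one W).symm⟩

theorem orb_cj {M : Subgroup G} (hM : M ∈ orbW A W) {g : G} (hg : g ∈ normalizer (A : Set G)) :
    cj g M ∈ orbW A W := by
  obtain ⟨k, hk, rfl⟩ := hM
  exact ⟨g * k, mul_mem hg hk, (cj_mul g k W).symm⟩

theorem cj_le {g : G} {X Y : Subgroup G} (hXY : X ≤ Y) : cj g X ≤ cj g Y := Subgroup.map_mono hXY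

theorem mem_zpowers_two {G : Type u} [Group G] {w x : G} (hw : w * w = 1) (hx : x ∈ zpowers w) :
    x = 1 ∨ x = w := by
  obtain ⟨n, rfl⟩ := Subgroup.mem_zpowers_iff.1 hx
  have h2 : w ^ (2 : ℤ) = 1 := by rw [zpow_two]; exact hw
  rcases Int.even_or_odd n with ⟨r, hr⟩ | ⟨r, hr⟩
  · left; rw [hr, ← two_mul, zpow_mul, h2, one_zpow]
  · right; rw [hr, zpow_add, zpow_mul, h2, one_zpow, one_mul, zpow_one]

theorem parity_absurd {a1 a2 a3 b1 b2 b3 c1 c2 c3 : Prop} (ea : a3 ↔ ¬(a1 ↔ a2)) (eb : b3 ↔ ¬(b1 ↔ b2))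
    (ec : c3 ↔ ¬(c1 ↔ c2)) (h1 : c1 ↔ (a1 ↔ b1)) (h2 : c2 ↔ (a2 ↔ b2)) (h3 : c3 ↔ (a3 ↔ b3)) : False := by
  by_cases p1 : a1 <;> by_cases p2 : a2 <;> by_cases q1 : b1 <;> by_cases q2 : b2 <;>
    simp_all

include hs hl

theorem orb_le (hy : Sys A W L U h) {M : Subgroup G} (hM : M ∈ orbW A W) : M ≤ A := by
  obtain ⟨k, hk, rfl⟩ := hM
  intro x hx
  have := (mem_conj_iff hk).2 (hy.le (mem_cj.1 hx))
  simpa [mul_assoc] using this

theorem orb_card {M : Subgroup G} (hM : M ∈ orbW A W) : Nat.card M = Nat.card W := by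
  obtain ⟨k, -, rfl⟩ := hM
  exact card_cj k W

variable (hy : Sys A W L U h) (hmin : IsMinSys A W) (hc : Nat.card W * Nat.card W ≤ Nat.card A)
include hy hmin hc

theorem orb_eq {M M' : Subgroup G} (hM : M ∈ orbW A W) (hM' : M' ∈ orbW A W) {x : G} (hx : x ∈ M)
    (hx' : x ∈ M') (hx1 : x ≠ 1) : M = M' := by
  obtain ⟨k, hk, rfl⟩ := hM
  obtain ⟨k', hk', rfl⟩ := hM'
  by_contra hne
  exact hx1 (mem_bot.1 (ti hs hl hmin hc hk hk' hne ▸ Subgroup.mem_inf.2 ⟨hx, hx'⟩))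

theorem hW_ne {M : Subgroup G} (hM : M ∈ orbW A W) (hne : M ≠ W) {x : G} (hx : x ∈ M) (hxW : x ∈ W) :
    x = 1 := by
  by_contra hx1
  exact hne (orb_eq hs hl hy hmin hc hM (self_orb A W) hx hxW hx1)

/-- A member other than `W` is inside `U` or meets it trivially and projects onto `W`. -/
theorem split {M : Subgroup G} (hM : M ∈ orbW A W) (hne : M ≠ W) :
    M ≤ U ∨ ((∀ x ∈ M, x ∈ U → x = 1) ∧ ∀ w ∈ W, ∃ u ∈ U, u * w ∈ M) := by
  classical
  by_cases hi : ∀ x ∈ M, x ∈ U → x = 1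
  · right
    refine ⟨hi, ?_⟩
    have hd : ∀ m : M, ∃ u ∈ U, ∃ w ∈ W, (m : G) = u * w := fun m =>
      dec hs hl hy (orb_le hs hl hy hM m.2)
    choose u hu w hw e using hd
    have hinj : Function.Injective (fun m : M => (⟨w m, hw m⟩ : W)) := by
      intro m m' hmm
      have hww : w m = w m' := congrArg Subtype.val hmm
      have h1 : (m : G) * (m' : G)⁻¹ ∈ U := by
        rw [e m, e m', hww, show u m * w m' * (u m' * w m')⁻¹ = u m * (u m')⁻¹ by group]
        exact mul_mem (hu m) (inv_mem (hu m'))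
      exact Subtype.ext (mul_inv_eq_one.1 (hi _ (mul_mem m.2 (inv_mem m'.2)) h1))
    have hsurj := (hinj.bijective_of_nat_card_le (orb_card hs hl hM).ge).2
    intro x hx
    obtain ⟨m, hm⟩ := hsurj ⟨x, hx⟩
    have hm' : w m = x := congrArg Subtype.val hm
    exact ⟨u m, hu m, hm' ▸ e m ▸ m.2⟩
  · left
    push Not at hi
    obtain ⟨x, hxM, hxU, hx1⟩ := hi
    intro v hvM
    by_contra hvU
    obtain ⟨u, hu, w, hw, e⟩ := dec hs hl hy (orb_le hs hl hy hM hvM)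
    have hu1 : u ≠ 1 := fun hu1 => by
      rw [hu1, one_mul] at e
      subst e
      exact hvU (by rw [hW_ne hs hl hy hmin hc hM hne hvM hw]; exact one_mem _)
    have hux : u * x ≠ 1 := fun h1 => by
      have hxu : x = u := by
        rw [mul_eq_one_iff_inv_eq.1 h1 |>.symm, inv_eq hs (hy.tor.le hu)]
      have h2 : x⁻¹ * v ∈ W := by rw [e, hxu, inv_mul_cancel_left]; exact hw
      have h3 := hW_ne hs hl hy hmin hc hM hne (mul_mem (inv_mem hxM) hvM) h2
      exact hvU (by rw [inv_mul_eq_one.1 h3] at hxU; exact hxU)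
    obtain ⟨i, hi⟩ := hy.tor.trans u hu hu1 (u * x) (mul_mem hu hxU) hux
    -- `h^i` moves `v` to `v * x`
    have hv : h ^ i * v * (h ^ i)⁻¹ = v * x := by
      rw [e, show h ^ i * (u * w) * (h ^ i)⁻¹ = h ^ i * u * (h ^ i)⁻¹ * (h ^ i * w * (h ^ i)⁻¹) by group,
        hi, fix_W hs hl hy i hw, mul_assoc, mul_assoc, comm hs (hy.tor.le hxU) (hy.le hw)]
    have hvx1 : v * x ≠ 1 := fun h1 => hvU (by rw [eq_inv_of_mul_eq_one_left h1]; exact inv_mem hxU)
    have hMi : cj (h ^ i) M = M :=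
      orb_eq hs hl hy hmin hc (orb_cj hM (pow_mem hy.tor.norm i)) hM (x := v * x)
        (by rw [← hv]; exact conj_mem_cj hvM) (mul_mem hvM hxM) hvx1
    -- `m ↦ [h^i, m]` embeds `M` in `M ∩ U`
    let F : M → {y : M // (y : G) ∈ U} := fun m =>
      ⟨⟨h ^ i * m * (h ^ i)⁻¹ * (m : G)⁻¹, mul_mem (hMi.le (conj_mem_cj m.2)) (inv_mem m.2)⟩, by
        obtain ⟨um, hum, wm, hwm, em⟩ := dec hs hl hy (orb_le hs hl hy hM m.2)
        show h ^ i * m * (h ^ i)⁻¹ * (m : G)⁻¹ ∈ U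
        rw [em, show h ^ i * (um * wm) * (h ^ i)⁻¹ = h ^ i * um * (h ^ i)⁻¹ * (h ^ i * wm * (h ^ i)⁻¹) by group,
          fix_W hs hl hy i hwm, show h ^ i * um * (h ^ i)⁻¹ * wm * (um * wm)⁻¹ = h ^ i * um * (h ^ i)⁻¹ * um⁻¹ by
            group]
        exact mul_mem (pow_conj_mem hy.tor.normU i hum) (inv_mem hum)⟩
    have hF : Function.Injective F := by
      intro a b hab
      have hab' : h ^ i * a * (h ^ i)⁻¹ * (a : G)⁻¹ = h ^ i * b * (h ^ i)⁻¹ * (b : G)⁻¹ :=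
        congrArg (fun z : {y : M // (y : G) ∈ U} => ((z : M) : G)) hab
      have hfix : h ^ i * ((b : G)⁻¹ * a) * (h ^ i)⁻¹ = (b : G)⁻¹ * a := by
        rw [show h ^ i * ((b : G)⁻¹ * a) * (h ^ i)⁻¹ = (h ^ i * b * (h ^ i)⁻¹)⁻¹ * (h ^ i * a * (h ^ i)⁻¹) by
          group, show h ^ i * a * (h ^ i)⁻¹ = h ^ i * b * (h ^ i)⁻¹ * (b : G)⁻¹ * a by rw [← hab']; group]
        group
      refine Subtype.ext (inv_mul_eq_one.1 ?_).symm
      obtain ⟨uc, huc, wc, hwc, ec⟩ := dec hs hl hy (orb_le hs hl hy hM (mul_mem (inv_mem b.2) a.2))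
      rw [ec, show h ^ i * (uc * wc) * (h ^ i)⁻¹ = h ^ i * uc * (h ^ i)⁻¹ * (h ^ i * wc * (h ^ i)⁻¹) by group,
        fix_W hs hl hy i hwc] at hfix
      by_cases huc1 : uc = 1
      · refine hW_ne hs hl hy hmin hc hM hne (mul_mem (inv_mem b.2) a.2) ?_
        rw [ec, huc1, one_mul]
        exact hwc
      · exfalso
        have := hy.tor.free i uc huc huc1 (mul_right_cancel hfix) u hu
        rw [hi] at this
        exact hx1 (mul_eq_left.1 this)
    obtain ⟨y, hy'⟩ := ((Subtype.val_injective.comp hF).bijective_of_nat_card_le le_rfl).2 ⟨v, hvM⟩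
    exact hvU (by
      have h1 : (((F y : {y : M // (y : G) ∈ U}) : M) : G) = v := congrArg Subtype.val hy'
      rw [← h1]
      exact (F y).2)

/-- The members not inside `U` form one orbit of `h`. -/
theorem out_conj {M M' : Subgroup G} (hM : M ∈ orbW A W) (hne : M ≠ W) (hU : ¬ M ≤ U)
    (hM' : M' ∈ orbW A W) (hne' : M' ≠ W) (hU' : ¬ M' ≤ U) : ∃ i : ℕ, cj (h ^ i) M = M' := by
  obtain ⟨hi, hp⟩ := (split hs hl hy hmin hc hM hne).resolve_left hU
  obtain ⟨hi', hp'⟩ := (split hs hl hy hmin hc hM' hne').resolve_left hU'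
  obtain ⟨w, hw, hw1⟩ := W.bot_or_exists_ne_one.resolve_left hy.ne
  obtain ⟨u, hu, huw⟩ := hp w hw
  obtain ⟨u', hu', huw'⟩ := hp' w hw
  have hu1 : u ≠ 1 := fun e => hw1 (hW_ne hs hl hy hmin hc hM hne (by simpa [e] using huw) hw)
  have hu1' : u' ≠ 1 := fun e => hw1 (hW_ne hs hl hy hmin hc hM' hne' (by simpa [e] using huw') hw)
  obtain ⟨i, hi''⟩ := hy.tor.trans u hu hu1 u' hu' hu1'
  refine ⟨i, orb_eq hs hl hy hmin hc (orb_cj hM (pow_mem hy.tor.norm i)) hM' (x := u' * w) ?_ huw'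
    (fun e => hu1' (W_inf hs hl hy hu' (by rw [eq_inv_of_mul_eq_one_left e]; exact inv_mem hw)))⟩
  have := conj_mem_cj (g := h ^ i) huw
  rwa [show h ^ i * (u * w) * (h ^ i)⁻¹ = h ^ i * u * (h ^ i)⁻¹ * (h ^ i * w * (h ^ i)⁻¹) by group,
    hi'', fix_W hs hl hy i hw] at this

/-- The members inside `U` form one orbit of `h`. -/
theorem in_conj {M M' : Subgroup G} (hM : M ∈ orbW A W) (hU : M ≤ U) (hM' : M' ∈ orbW A W)
    (hU' : M' ≤ U) : ∃ i : ℕ, cj (h ^ i) M = M' := by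
  have hne : ∀ N ∈ orbW A W, ∃ x ∈ N, x ≠ 1 := fun N hN => N.bot_or_exists_ne_one.resolve_left fun e => by
    have h1 := orb_card hs hl hN
    rw [e, card_bot] at h1
    exact hy.ne (card_eq_one.1 h1.symm)
  obtain ⟨x, hx, hx1⟩ := hne M hM
  obtain ⟨x', hx', hx1'⟩ := hne M' hM'
  obtain ⟨i, hi⟩ := hy.tor.trans x (hU hx) hx1 x' (hU' hx') hx1'
  exact ⟨i, orb_eq hs hl hy hmin hc (orb_cj hM (pow_mem hy.tor.norm i)) hM' (hi ▸ conj_mem_cj hx) hx' hx1'⟩

theorem not_le_U : ¬ W ≤ U := fun hle => by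
  obtain ⟨w, hw, hw1⟩ := W.bot_or_exists_ne_one.resolve_left hy.ne
  exact hw1 (W_inf hs hl hy (hle hw) hw)

/-- An element of `A` outside `U` and `W` is in a member outside `U` if there is one. -/
theorem mixed {M : Subgroup G} (hM : M ∈ orbW A W) (hne : M ≠ W) (hU : ¬ M ≤ U) {a : G} (ha : a ∈ A)
    (haU : a ∉ U) (haW : a ∉ W) : ∃ N ∈ orbW A W, N ≠ W ∧ ¬ N ≤ U ∧ a ∈ N := by
  obtain ⟨hi, hp⟩ := (split hs hl hy hmin hc hM hne).resolve_left hU
  obtain ⟨u, hu, w, hw, rfl⟩ := dec hs hl hy ha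
  have hu1 : u ≠ 1 := fun e => haW (by rw [e, one_mul]; exact hw)
  obtain ⟨u', hu', huw⟩ := hp w hw
  have hw1 : w ≠ 1 := fun e => haU (by rw [e, mul_one]; exact hu)
  have hu1' : u' ≠ 1 := fun e => hw1 (hW_ne hs hl hy hmin hc hM hne (by simpa [e] using huw) hw)
  obtain ⟨i, hi'⟩ := hy.tor.trans u' hu' hu1' u hu hu1
  have hmem : u * w ∈ cj (h ^ i) M := by
    have := conj_mem_cj (g := h ^ i) huw
    rwa [show h ^ i * (u' * w) * (h ^ i)⁻¹ = h ^ i * u' * (h ^ i)⁻¹ * (h ^ i * w * (h ^ i)⁻¹) by group,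
      hi', fix_W hs hl hy i hw] at this
  exact ⟨_, orb_cj hM (pow_mem hy.tor.norm i), fun e => haW (e ▸ hmem), fun e => haU (e hmem), hmem⟩

/-- Some member lies inside `U`. -/
theorem exists_in : ∃ M ∈ orbW A W, M ≤ U := by
  by_contra hno
  push Not at hno
  have hUA : U ≠ A := fun e => by
    obtain ⟨w, hw, hw1⟩ := W.bot_or_exists_ne_one.resolve_left hy.ne
    exact hw1 (W_inf hs hl hy (e ▸ hy.le hw) hw)
  have hU0 : U ≠ ⊥ := fun e => by
    have := hy.tor.four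
    rw [e, card_bot] at this
    omega
  by_cases hout : ∃ M ∈ orbW A W, M ≠ W
  · obtain ⟨M0, hM0, hne0⟩ := hout
    refine hUA (hs.irred U hy.tor.le hU0 fun g hg => mem_normalizer_of_cj
      (Subgroup.eq_of_le_of_card_ge (fun x hx => ?_) (card_cj g U).ge))
    obtain ⟨y, hy', rfl⟩ : ∃ y ∈ U, g * y * g⁻¹ = x := ⟨g⁻¹ * x * g, mem_cj.1 hx, by group⟩
    by_contra hxU
    have hy1 : y ≠ 1 := fun e => hxU (by simp [e])
    -- `y` lies in no member
    have hfree : ∀ M ∈ orbW A W, y ∉ M := fun M hM hyM => by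
      by_cases hMW : M = W
      · exact hy1 (W_inf hs hl hy hy' (hMW ▸ hyM))
      · exact hy1 (((split hs hl hy hmin hc hM hMW).resolve_left (hno M hM)).1 y hyM hy')
    obtain ⟨N, hN, hgN⟩ : ∃ N ∈ orbW A W, g * y * g⁻¹ ∈ N := by
      by_cases hxW : g * y * g⁻¹ ∈ W
      · exact ⟨W, self_orb A W, hxW⟩
      · obtain ⟨N, hN, -, -, h1⟩ :=
          mixed hs hl hy hmin hc hM0 hne0 (hno M0 hM0) ((mem_conj_iff hg).2 (hy.tor.le hy')) hxU hxW
        exact ⟨N, hN, h1⟩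
    refine hfree _ (orb_cj hN (inv_mem hg)) (mem_cj.2 ?_)
    simpa [mul_assoc] using hgN
  · push Not at hout
    exact sys_ne hs hl hmin.1 (hs.irred W hy.le hy.ne fun g hg =>
      mem_normalizer_of_cj (hout _ (orb_cj (self_orb A W) hg)))

/-- Some member other than `W` does not lie inside `U`. -/
theorem exists_out : ∃ M ∈ orbW A W, M ≠ W ∧ ¬ M ≤ U := by
  by_contra hno
  push Not at hno
  obtain ⟨M0, hM0, hM0U⟩ := exists_in hs hl hy hmin hc
  -- `W ∪ U` is invariant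
  have hcov : ∀ g ∈ normalizer (A : Set G), ∀ y ∈ U, g * y * g⁻¹ ∈ U ∨ g * y * g⁻¹ ∈ W := by
    intro g hg y hy'
    by_cases hy1 : y = 1
    · left; simp [hy1]
    obtain ⟨i, hi⟩ : ∃ i : ℕ, y ∈ cj (h ^ i) M0 := by
      obtain ⟨x, hx, hx1⟩ := M0.bot_or_exists_ne_one.resolve_left fun e => hy.ne (by
        have h1 := orb_card hs hl hM0
        rw [e, card_bot] at h1
        exact card_eq_one.1 h1.symm)
      obtain ⟨i, hi⟩ := hy.tor.trans x (hM0U hx) hx1 y hy' hy1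
      exact ⟨i, hi ▸ conj_mem_cj hx⟩
    have hN := orb_cj (orb_cj hM0 (pow_mem hy.tor.norm i)) hg
    by_cases hNW : cj g (cj (h ^ i) M0) = W
    · exact Or.inr (hNW ▸ conj_mem_cj hi)
    · exact Or.inl (hno _ hN hNW (conj_mem_cj hi))
  have hcase : ∀ g ∈ normalizer (A : Set G), cj g U ≤ U ∨ cj g U ≤ W := by
    intro g hg
    by_contra hne
    push Not at hne
    obtain ⟨⟨a, ha, haU⟩, b, hb, hbW⟩ := And.intro (Set.not_subset.1 hne.1) (Set.not_subset.1 hne.2)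
    obtain ⟨a', ha', rfl⟩ : ∃ a' ∈ U, g * a' * g⁻¹ = a := ⟨g⁻¹ * a * g, mem_cj.1 ha, by group⟩
    obtain ⟨b', hb', rfl⟩ : ∃ b' ∈ U, g * b' * g⁻¹ = b := ⟨g⁻¹ * b * g, mem_cj.1 hb, by group⟩
    have haW := (hcov g hg a' ha').resolve_left haU
    have hbU := (hcov g hg b' hb').resolve_right hbW
    rcases hcov g hg (a' * b') (mul_mem ha' hb') with h1 | h1
    · refine haU ?_
      have h2 := mul_mem h1 (inv_mem hbU)
      rwa [show g * (a' * b') * g⁻¹ * (g * b' * g⁻¹)⁻¹ = g * a' * g⁻¹ by group] at h2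
    · refine hbW ?_
      have h2 := mul_mem (inv_mem haW) h1
      rwa [show (g * a' * g⁻¹)⁻¹ * (g * (a' * b') * g⁻¹) = g * b' * g⁻¹ by group] at h2
  have hUA : U ≠ A := fun e => not_le_U hs hl hy hmin hc (e ▸ hy.le)
  have hU0 : U ≠ ⊥ := fun e => by
    have := hy.tor.four
    rw [e, card_bot] at this
    omega
  set N := normalizer (A : Set G) with hN
  by_cases hswap : ∃ g ∈ N, cj g U ≤ W
  · obtain ⟨g0, hg0, hg0W⟩ := hswap
    have hcard : Nat.card U = Nat.card W := by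
      have h1 := Subgroup.card_le_of_le hg0W
      rw [card_cj] at h1
      have h2 := W_card_le hs hl hy
      rcases h1.lt_or_eq with h3 | h3
      · have := Nat.mul_lt_mul_of_pos_right h3 (Nat.card_pos (α := W))
        omega
      · exact h3
    have heq : cj g0 U = W := Subgroup.eq_of_le_of_card_ge hg0W (by rw [card_cj, hcard])
    have hU' : ∀ g ∈ N, cj g U = U ∨ cj g U = W := fun g hg => (hcase g hg).imp
      (fun h1 => Subgroup.eq_of_le_of_card_ge h1 (card_cj g U).ge)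
      (fun h1 => Subgroup.eq_of_le_of_card_ge h1 (by rw [card_cj, hcard]))
    have hUW : U ≠ W := fun e => not_le_U hs hl hy hmin hc e.ge
    refine no_index_two hs (H := N ⊓ normalizer (U : Set G)) inf_le_left ?_
    rw [relIndex, index_eq_two_iff]
    refine ⟨⟨g0⁻¹, inv_mem hg0⟩, fun b => ?_⟩
    have hmem : ∀ x : N, x ∈ (N ⊓ normalizer (U : Set G)).subgroupOf N ↔ cj (x : G) U = U := fun x =>
      ⟨fun hx => cj_eq_self hx.2, fun hx => ⟨x.2, mem_normalizer_of_cj hx⟩⟩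
    rw [hmem, hmem, Subgroup.coe_mul]
    -- `b g₀⁻¹` fixes `U` exactly when `b` fixes `W`
    rcases hU' b b.2 with h1 | h1
    · refine Or.inr ⟨h1, fun h2 => hUW ?_⟩
      rw [cj_mul] at h2
      have h3 : cj g0⁻¹ U = U := by
        have := congrArg (cj (b : G)⁻¹) h2
        rwa [← cj_mul, inv_mul_cancel, cj_one, show cj (b : G)⁻¹ U = U by
          rw [← h1, ← cj_mul, inv_mul_cancel, cj_one, h1]] at this
      have h4 := congrArg (cj g0) h3
      rw [← cj_mul, mul_inv_cancel, cj_one, heq] at h4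
      exact h4
    · refine Or.inl ⟨?_, fun h2 => hUW (h2.symm.trans h1)⟩
      rcases hU' ((b : G) * g0⁻¹) (mul_mem b.2 (inv_mem hg0)) with h2 | h2
      · exact h2
      · exfalso
        have h3 : cj g0⁻¹ U = U := by
          rw [cj_mul] at h2
          have := congrArg (cj (b : G)⁻¹) (h2.trans h1.symm)
          rwa [← cj_mul, inv_mul_cancel, cj_one, ← cj_mul, inv_mul_cancel, cj_one] at this
        have h4 := congrArg (cj g0) h3
        rw [← cj_mul, mul_inv_cancel, cj_one, heq] at h4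
        exact hUW h4
  · push Not at hswap
    exact hUA (hs.irred U hy.tor.le hU0 fun g hg => mem_normalizer_of_cj (Subgroup.eq_of_le_of_card_ge
      ((hcase g hg).resolve_right (hswap g hg)) (card_cj g U).ge))

set_option maxHeartbeats 1000000 in
/-- No orbit of systems meeting trivially with `U` determined by `W`. -/
theorem false_of_canon (h16 : 16 ≤ Nat.card A)
    (hcanon : ∀ g ∈ normalizer (A : Set G), g ∈ normalizer (W : Set G) → g ∈ normalizer (U : Set G)) :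
    False := by
  classical
  letI : Fintype G := Fintype.ofFinite G
  set N := normalizer (A : Set G) with hN
  let O : Finset (Subgroup G) := (Set.toFinite (orbW A W)).toFinset
  have hO : ∀ M, M ∈ O ↔ M ∈ orbW A W := fun M => Set.Finite.mem_toFinset _
  let R : Subgroup G → Subgroup G → Prop := fun M M' =>
    M' ∈ orbW A W ∧ ∃ k ∈ N, M = cj k W ∧ M' ≤ cj k U
  have hW_R : ∀ M, R W M ↔ M ∈ orbW A W ∧ M ≤ U := by
    refine fun M => ⟨fun ⟨hM, k, hk, e, hle⟩ => ⟨hM, ?_⟩, fun ⟨hM, hle⟩ =>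
      ⟨hM, 1, one_mem _, (cj_one W).symm, by rwa [cj_one]⟩⟩
    rwa [cj_eq_self (hcanon k hk (mem_normalizer_of_cj e.symm))] at hle
  have hR_cj : ∀ g ∈ N, ∀ M M', R M M' → R (cj g M) (cj g M') := by
    rintro g hg M M' ⟨hM', k, hk, rfl, hle⟩
    exact ⟨orb_cj hM' hg, g * k, mul_mem hg hk, (cj_mul g k W).symm, by
      rw [cj_mul]; exact cj_le hle⟩
  have hR_cj' : ∀ g ∈ N, ∀ M M', R (cj g M) (cj g M') → R M M' := by
    intro g hg M M' hR
    have := hR_cj g⁻¹ (inv_mem hg) _ _ hR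
    rwa [← cj_mul, ← cj_mul, inv_mul_cancel, cj_one, cj_one] at this
  have hirr : ∀ M, ¬ R M M := by
    rintro M ⟨-, k, hk, rfl, hle⟩
    refine not_le_U hs hl hy hmin hc ?_
    have := cj_le (g := k⁻¹) hle
    rwa [← cj_mul, ← cj_mul, inv_mul_cancel, cj_one, cj_one] at this
  set a := (O.filter (R W)).card with ha
  -- out-degrees
  have hout : ∀ M ∈ O, (O.filter (R M)).card = a := by
    intro M hM
    obtain ⟨k, hk, rfl⟩ := (hO M).1 hM
    symm
    refine Finset.card_bij (fun M' _ => cj k M') (fun M' hM' => ?_) (fun x _ y _ e => ?_) fun M' hM' => ?_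
    · obtain ⟨h1, h2⟩ := Finset.mem_filter.1 hM'
      exact Finset.mem_filter.2 ⟨(hO _).2 (orb_cj ((hO _).1 h1) hk), hR_cj k hk _ _ h2⟩
    · simpa [← cj_mul, cj_one] using congrArg (cj k⁻¹) e
    · obtain ⟨h1, h2⟩ := Finset.mem_filter.1 hM'
      refine ⟨cj k⁻¹ M', Finset.mem_filter.2 ⟨(hO _).2 (orb_cj ((hO _).1 h1) (inv_mem hk)),
        hR_cj' k hk _ _ ?_⟩, ?_⟩ <;> rw [← cj_mul, mul_inv_cancel, cj_one]
      exact h2
  have hin : ∀ M ∈ O, (O.filter (fun M' => R M' M)).card = (O.filter (fun M' => R M' W)).card := by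
    intro M hM
    obtain ⟨k, hk, rfl⟩ := (hO M).1 hM
    symm
    refine Finset.card_bij (fun M' _ => cj k M') (fun M' hM' => ?_) (fun x _ y _ e => ?_) fun M' hM' => ?_
    · obtain ⟨h1, h2⟩ := Finset.mem_filter.1 hM'
      exact Finset.mem_filter.2 ⟨(hO _).2 (orb_cj ((hO _).1 h1) hk), hR_cj k hk _ _ h2⟩
    · simpa [← cj_mul, cj_one] using congrArg (cj k⁻¹) e
    · obtain ⟨h1, h2⟩ := Finset.mem_filter.1 hM'
      refine ⟨cj k⁻¹ M', Finset.mem_filter.2 ⟨(hO _).2 (orb_cj ((hO _).1 h1) (inv_mem hk)),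
        hR_cj' k hk _ _ ?_⟩, ?_⟩ <;> rw [← cj_mul, mul_inv_cancel, cj_one]
      exact h2
  have hOW : W ∈ O := (hO W).2 (self_orb A W)
  have hina : (O.filter (fun M' => R M' W)).card = a := by
    have h1 : ∑ M ∈ O, (O.filter (R M)).card = ∑ M ∈ O, (O.filter (fun M' => R M' M)).card := by
      simp only [Finset.card_filter]
      exact Finset.sum_comm
    rw [Finset.sum_congr rfl hout, Finset.sum_congr rfl hin, Finset.sum_const, Finset.sum_const,
      smul_eq_mul, smul_eq_mul] at h1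
    exact (Nat.eq_of_mul_eq_mul_left (Finset.card_pos.2 ⟨W, hOW⟩) h1).symm
  set I := O.filter (fun M' => R M' W) with hI
  set A0 := O.filter (R W) with hA0
  set Fo := O.filter (fun M => M ≠ W ∧ ¬ M ≤ U) with hFo
  have hA0mem : ∀ M, M ∈ A0 ↔ M ∈ orbW A W ∧ M ≤ U := fun M => by
    rw [hA0, Finset.mem_filter, hO, hW_R]
    exact ⟨fun h1 => h1.2, fun h1 => ⟨h1.1, h1⟩⟩
  have hIsub : ∀ M ∈ I, M ∈ A0 ∨ M ∈ Fo := by
    intro M hM
    obtain ⟨h1, h2⟩ := Finset.mem_filter.1 hM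
    by_cases hU : M ≤ U
    · exact Or.inl ((hA0mem M).2 ⟨(hO M).1 h1, hU⟩)
    · exact Or.inr (Finset.mem_filter.2 ⟨h1, fun e => hirr W (e ▸ h2), hU⟩)
  have hWfix : ∀ i : ℕ, cj (h ^ i) W = W := fun i => cj_eq_self (pow_mem (h_normW hs hl hy) i)
  have hIinv : ∀ (i : ℕ) M, M ∈ I → cj (h ^ i) M ∈ I := by
    intro i M hM
    obtain ⟨h1, h2⟩ := Finset.mem_filter.1 hM
    refine Finset.mem_filter.2 ⟨(hO _).2 (orb_cj ((hO _).1 h1) (pow_mem hy.tor.norm i)), ?_⟩
    have := hR_cj (h ^ i) (pow_mem hy.tor.norm i) _ _ h2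
    rwa [hWfix i] at this
  have hA0all : ∀ M ∈ I, M ∈ A0 → A0 ⊆ I := fun M hM hMA M' hM' => by
    obtain ⟨h1, h2⟩ := (hA0mem M).1 hMA
    obtain ⟨h1', h2'⟩ := (hA0mem M').1 hM'
    obtain ⟨i, rfl⟩ := in_conj hs hl hy hmin hc h1 h2 h1' h2'
    exact hIinv i M hM
  have hFall : ∀ M ∈ I, M ∈ Fo → Fo ⊆ I := fun M hM hMF M' hM' => by
    obtain ⟨h1, h2, h3⟩ := Finset.mem_filter.1 hMF
    obtain ⟨h1', h2', h3'⟩ := Finset.mem_filter.1 hM'
    obtain ⟨i, rfl⟩ := out_conj hs hl hy hmin hc ((hO M).1 h1) h2 h3 ((hO M').1 h1') h2' h3'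
    exact hIinv i M hM
  -- counting points
  let pts : Subgroup G → Finset G := fun X => (Finset.univ.filter (· ∈ X)).erase 1
  have hpts : ∀ (X : Subgroup G) (x : G), x ∈ pts X ↔ x ≠ 1 ∧ x ∈ X := fun X x => by simp [pts]
  have hptsc : ∀ X : Subgroup G, (pts X).card = Nat.card X - 1 := fun X => by
    rw [Finset.card_erase_of_mem (by simp), Nat.card_eq_fintype_card, Fintype.card_subtype]
  have hdisj : ∀ T : Finset (Subgroup G), (∀ M ∈ T, M ∈ orbW A W) →
      (T.biUnion pts).card = T.card * (Nat.card W - 1) := by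
    intro T hT
    rw [Finset.card_biUnion fun M hM M' hM' hne => Finset.disjoint_left.2 fun x hx hx' =>
      hne (orb_eq hs hl hy hmin hc (hT M hM) (hT M' hM') ((hpts _ _).1 hx).2 ((hpts _ _).1 hx').2
        ((hpts _ _).1 hx).1)]
    rw [Finset.sum_congr rfl fun M hM => by rw [hptsc, orb_card hs hl (hT M hM)], Finset.sum_const,
      smul_eq_mul]
  obtain ⟨M0, hM0, hM0U⟩ := exists_in hs hl hy hmin hc
  obtain ⟨M1, hM1, hM1W, hM1U⟩ := exists_out hs hl hy hmin hc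
  have hne0 : ∀ M ∈ orbW A W, ∃ x ∈ M, x ≠ 1 := fun M hM => M.bot_or_exists_ne_one.resolve_left fun e => by
    have h1 := orb_card hs hl hM
    rw [e, card_bot] at h1
    exact hy.ne (card_eq_one.1 h1.symm)
  have hcovU : ∀ x ∈ U, x ≠ 1 → ∃ M ∈ orbW A W, M ≤ U ∧ x ∈ M := by
    intro x hx hx1
    obtain ⟨y, hy', hy1⟩ := hne0 M0 hM0
    obtain ⟨i, hi⟩ := hy.tor.trans y (hM0U hy') hy1 x hx hx1
    exact ⟨_, orb_cj hM0 (pow_mem hy.tor.norm i), fun z hz => by
      have := pow_conj_mem hy.tor.normU i (hM0U (mem_cj.1 hz))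
      simpa [mul_assoc] using this, hi ▸ conj_mem_cj hy'⟩
  have hcovA : ∀ x ∈ A, x ≠ 1 → ∃ M ∈ orbW A W, x ∈ M := by
    intro x hx hx1
    by_cases hxU : x ∈ U
    · obtain ⟨M, hM, -, h1⟩ := hcovU x hxU hx1; exact ⟨M, hM, h1⟩
    by_cases hxW : x ∈ W
    · exact ⟨W, self_orb A W, hxW⟩
    obtain ⟨M, hM, -, -, h1⟩ := mixed hs hl hy hmin hc hM1 hM1W hM1U hx hxU hxW
    exact ⟨M, hM, h1⟩
  have hUeq : A0.biUnion pts = pts U := by
    ext x
    simp only [Finset.mem_biUnion, hpts]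
    constructor
    · rintro ⟨M, hM, hx1, hx⟩; exact ⟨hx1, ((hA0mem M).1 hM).2 hx⟩
    · rintro ⟨hx1, hx⟩
      obtain ⟨M, hM, hMU, hxM⟩ := hcovU x hx hx1
      exact ⟨M, (hA0mem M).2 ⟨hM, hMU⟩, hx1, hxM⟩
  have hAeq : O.biUnion pts = pts A := by
    ext x
    simp only [Finset.mem_biUnion, hpts]
    constructor
    · rintro ⟨M, hM, hx1, hx⟩; exact ⟨hx1, orb_le hs hl hy ((hO M).1 hM) hx⟩
    · rintro ⟨hx1, hx⟩
      obtain ⟨M, hM, hxM⟩ := hcovA x hx hx1
      exact ⟨M, (hO M).2 hM, hx1, hxM⟩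
  have hcU : a * (Nat.card W - 1) = Nat.card U - 1 := by
    rw [ha, ← hdisj A0 (fun M hM => ((hA0mem M).1 hM).1), hUeq, hptsc]
  have hcA : O.card * (Nat.card W - 1) = Nat.card A - 1 := by
    rw [← hdisj O (fun M hM => (hO M).1 hM), hAeq, hptsc]
  haveI : Fact (Nat.Prime 2) := ⟨Nat.prime_two⟩
  have hWeven : Even (Nat.card W) := by
    obtain ⟨j, hj⟩ := (isPGroup_of_le hs hy.le).exists_card_eq
    rw [hj]
    refine Nat.even_pow.2 ⟨even_two, fun e => hy.ne (card_eq_one.1 ?_)⟩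
    rw [hj, e, pow_zero]
  have hUeven : Even (Nat.card U) := by
    obtain ⟨j, hj⟩ := (isPGroup_of_le hs hy.tor.le).exists_card_eq
    rw [hj]
    refine Nat.even_pow.2 ⟨even_two, fun e => ?_⟩
    have := hy.tor.four
    rw [hj, e, pow_zero] at this
    omega
  have hUW := W_card_le hs hl hy
  have hW2 : 2 ≤ Nat.card W := by
    obtain ⟨j, hj⟩ := hWeven
    have := Nat.card_pos (α := W)
    omega
  -- the incoming members are the ones outside `U`
  have hA0ne : A0.Nonempty := ⟨M0, (hA0mem M0).2 ⟨hM0, hM0U⟩⟩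
  have hIne : I.Nonempty := Finset.card_pos.1 (hina ▸ Finset.card_pos.2 hA0ne)
  have hdisjAF : ∀ M, M ∈ A0 → M ∉ Fo := fun M hM hF =>
    (Finset.mem_filter.1 hF).2.2 ((hA0mem M).1 hM).2
  by_cases hmeet : ∃ M ∈ I, M ∈ A0
  · obtain ⟨M, hM, hMA⟩ := hmeet
    have hIeq : A0 = I := Finset.eq_of_subset_of_card_le (hA0all M hM hMA) hina.le
    -- the relation is symmetric
    have hsym : ∀ M M', R M M' → R M' M := by
      rintro M M' hR
      obtain ⟨hM', k, hk, rfl, hle⟩ := id hR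
      refine hR_cj' k⁻¹ (inv_mem hk) _ _ ?_
      have h1 := hR_cj k⁻¹ (inv_mem hk) _ _ hR
      rw [← cj_mul, inv_mul_cancel, cj_one] at h1 ⊢
      have h2 : cj k⁻¹ M' ∈ I := hIeq ▸ Finset.mem_filter.2 ⟨(hO _).2 (orb_cj hM' (inv_mem hk)), h1⟩
      exact (Finset.mem_filter.1 h2).2
    let P := {p : Subgroup G × Subgroup G // p ∈ (O ×ˢ O).filter (fun p => R p.1 p.2)}
    let sw : P → P := fun p => ⟨(p.1.2, p.1.1), by
      obtain ⟨h1, h2⟩ := Finset.mem_filter.1 p.2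
      obtain ⟨h3, h4⟩ := Finset.mem_product.1 h1
      exact Finset.mem_filter.2 ⟨Finset.mem_product.2 ⟨h4, h3⟩, hsym _ _ h2⟩⟩
    have hsw : Function.Involutive sw := fun p => rfl
    have hPcard : Fintype.card P = O.card * a := by
      rw [Fintype.card_coe, Finset.card_filter, Finset.sum_product,
        Finset.sum_congr rfl fun M hM => ((Finset.card_filter (R M) O).symm.trans (hout M hM)),
        Finset.sum_const, smul_eq_mul]
    have hodd : ¬ 2 ∣ Fintype.card P := by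
      rw [hPcard, ← even_iff_two_dvd, Nat.not_even_iff_odd, Nat.odd_mul]
      have hAodd : Odd (Nat.card A - 1) :=
        Nat.Even.sub_odd (by omega) (hUW ▸ hUeven.mul_right _) odd_one
      have hUodd : Odd (Nat.card U - 1) := Nat.Even.sub_odd (by have := hy.tor.four; omega) hUeven odd_one
      rw [← hcA] at hAodd
      rw [← hcU] at hUodd
      exact ⟨(Nat.odd_mul.1 hAodd).1, (Nat.odd_mul.1 hUodd).1⟩
    obtain ⟨p, hp⟩ := Equiv.Perm.exists_fixed_point_of_prime (p := 2) (n := 1) hodd (σ := hsw.toPerm sw)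
      (by rw [pow_one, pow_two]; exact Equiv.ext hsw)
    have hp' : (p.1.2, p.1.1) = p.1 := congrArg Subtype.val hp
    have h1 := (Finset.mem_filter.1 p.2).2
    rw [show p.1.2 = p.1.1 from congrArg Prod.fst hp'] at h1
    exact hirr _ h1
  push Not at hmeet
  -- `I` is the set outside `U`
  obtain ⟨M, hM⟩ := hIne
  have hMF : M ∈ Fo := (hIsub M hM).resolve_left (hmeet M hM)
  have hIF : I = Fo := (Finset.eq_of_subset_of_card_le (hFall M hM hMF) (Finset.card_le_card fun x hx =>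
    (hIsub x hx).resolve_left (hmeet x hx))).symm
  have hOsplit : O = insert W (A0 ∪ Fo) := by
    ext N
    simp only [Finset.mem_insert, Finset.mem_union, hA0mem, hFo, Finset.mem_filter, hO]
    constructor
    · intro hN
      by_cases h1 : N = W
      · exact Or.inl h1
      by_cases h2 : N ≤ U
      · exact Or.inr (Or.inl ⟨hN, h2⟩)
      · exact Or.inr (Or.inr ⟨hN, h1, h2⟩)
    · rintro (rfl | ⟨h1, -⟩ | ⟨h1, -⟩)
      exacts [self_orb A _, h1, h1]
  have hcard : O.card = 2 * a + 1 := by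
    rw [hOsplit, Finset.card_insert_of_notMem, Finset.card_union_of_disjoint
      (Finset.disjoint_left.2 hdisjAF), ← hIF, hina, ← ha]
    · omega
    · simp only [Finset.mem_union, hA0mem, hFo, Finset.mem_filter]
      rintro (⟨-, h1⟩ | ⟨-, h1, -⟩)
      exacts [not_le_U hs hl hy hmin hc h1, h1 rfl]
  have hWtwo : Nat.card W = 2 := by
    have h1 : (2 * a + 1) * (Nat.card W - 1) = Nat.card U * Nat.card W - 1 := by rw [← hcard, hcA, hUW]
    obtain ⟨w, hw⟩ : ∃ w, Nat.card W = w + 2 := ⟨Nat.card W - 2, by omega⟩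
    obtain ⟨v, hv⟩ : ∃ v, Nat.card U = v + 4 := ⟨Nat.card U - 4, by have := hy.tor.four; omega⟩
    rw [hw, hv] at h1 hcU
    simp only [Nat.add_succ_sub_one, Nat.add_sub_cancel] at h1 hcU
    have h2 : a * (w + 1) = v + 3 := hcU
    have h3 : (2 * a + 1) * (w + 1) = v * w + 2 * v + 4 * w + 7 := by
      rw [h1]; ring_nf; omega
    have h4 : (2 * a + 1) * (w + 1) = 2 * (v + 3) + (w + 1) := by rw [← h2]; ring
    rw [h4] at h3
    rcases Nat.eq_zero_or_pos w with h5 | h5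
    · omega
    · have : 0 < v * w + 3 * w := by positivity
      omega
  -- every involution of `A` is a member
  have hmem2 : ∀ M ∈ orbW A W, ∀ x ∈ M, x ≠ 1 → M = zpowers x := fun M hM x hx hx1 =>
    (Subgroup.eq_of_le_of_card_ge (zpowers_le.2 hx) (by
      rw [orb_card hs hl hM, hWtwo, Nat.card_zpowers, orderOf_eq_prime (p := 2)
        (by rw [pow_two]; exact sq hs (orb_le hs hl hy hM hx)) hx1])).symm
  have hz : ∀ x ∈ A, x ≠ 1 → zpowers x ∈ orbW A W := fun x hx hx1 => by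
    obtain ⟨M, hM, hxM⟩ := hcovA x hx hx1
    exact hmem2 M hM x hxM hx1 ▸ hM
  -- the relation is a tournament
  have htour : ∀ M ∈ orbW A W, ∀ M' ∈ orbW A W, M ≠ M' → (R M M' ↔ ¬ R M' M) := by
    intro M hM M' hM' hne
    obtain ⟨k, hk, rfl⟩ := hM
    set M'' := cj k⁻¹ M' with hM''
    have hM''O : M'' ∈ orbW A W := orb_cj hM' (inv_mem hk)
    have hM''W : M'' ≠ W := fun e => hne (by rw [← e, hM'', ← cj_mul, mul_inv_cancel, cj_one])
    have hM'e : M' = cj k M'' := by rw [hM'', ← cj_mul, mul_inv_cancel, cj_one]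
    rw [hM'e]
    constructor
    · intro h1 h2
      have h3 : M'' ∈ A0 := (hA0mem _).2 ⟨hM''O, ((hW_R _).1 (hR_cj' k hk _ _ h1)).2⟩
      exact hmeet M'' (Finset.mem_filter.2 ⟨(hO _).2 hM''O, hR_cj' k hk _ _ h2⟩) h3
    · intro h1
      refine hR_cj k hk _ _ ((hW_R _).2 ⟨hM''O, ?_⟩)
      by_contra h2
      have h3 : M'' ∈ I := hIF ▸ Finset.mem_filter.2 ⟨(hO _).2 hM''O, hM''W, h2⟩
      exact h1 (hR_cj k hk _ _ (Finset.mem_filter.1 h3).2)
  -- the hyperplane of a point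
  have hV : ∀ x ∈ A, x ≠ 1 → ∃ V : Subgroup G, (∀ y ∈ A, y ≠ 1 → (R (zpowers x) (zpowers y) ↔ y ∈ V)) ∧
      x ∉ V ∧ ∀ y ∈ A, y ∈ V ∨ y * x ∈ V := by
    intro x hx hx1
    obtain ⟨k, hk, e⟩ := hz x hx hx1
    have hxk : x ∈ cj k W := e ▸ mem_zpowers x
    have hxV : x ∉ cj k U := fun h1 => hx1 (by
      have := W_inf hs hl hy (mem_cj.1 h1) (mem_cj.1 hxk)
      rw [show x = k * (k⁻¹ * x * k) * k⁻¹ by group, this]
      group)
    refine ⟨cj k U, fun y hy' hy1 => ⟨?_, fun h1 =>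
      ⟨hz y hy' hy1, k, hk, e, zpowers_le.2 h1⟩⟩, hxV, fun y hy' => ?_⟩
    · rintro ⟨-, k', hk', e', hle⟩
      have h1 : k⁻¹ * k' ∈ normalizer (W : Set G) := mem_normalizer_of_cj (by
        rw [cj_mul, ← e', e, ← cj_mul, inv_mul_cancel, cj_one])
      have h2 : cj k' U = cj k U := by
        have := congrArg (cj k) (cj_eq_self (hcanon _ (mul_mem (inv_mem hk) hk') h1))
        rwa [← cj_mul, mul_inv_cancel_left] at this
      exact h2 ▸ hle (mem_zpowers y)
    · obtain ⟨u, hu, w, hw, e1⟩ := dec hs hl hy (show k⁻¹ * y * k ∈ A by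
        have := (mem_conj_iff (x := y) (inv_mem hk)).2 hy'
        simpa using this)
      have hxw : k⁻¹ * x * k ∈ W := mem_cj.1 hxk
      by_cases hw1 : w = 1
      · left; rw [mem_cj, e1, hw1, mul_one]; exact hu
      · right
        have hWx : W = zpowers (k⁻¹ * x * k) := hmem2 W (self_orb A W) _ hxw fun e2 => hx1 (by
          rw [show x = k * (k⁻¹ * x * k) * k⁻¹ by group, e2]; group)
        have hwx : w = k⁻¹ * x * k := by
          have h2 := hmem2 W (self_orb A W) w hw hw1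
          rcases mem_zpowers_two (sq hs (hy.le hw)) (h2 ▸ hxw) with h3 | h3
          · exact absurd (show x = 1 by
              rw [show x = k * (k⁻¹ * x * k) * k⁻¹ by group, h3]; group) hx1
          · exact h3.symm
        rw [mem_cj, show k⁻¹ * (y * x) * k = k⁻¹ * y * k * (k⁻¹ * x * k) by group, e1, ← hwx, mul_assoc,
          sq hs (hy.le hw), mul_one]
        exact hu
  choose V hVR hVx hVd using hV
  -- three collinear points
  obtain ⟨x1, hx1A, hx11⟩ := A.bot_or_exists_ne_one.resolve_left hs.ne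
  obtain ⟨x2, hx2A, hx21, hx2ne⟩ : ∃ x2 ∈ A, x2 ≠ 1 ∧ x2 ≠ x1 := by
    by_contra hall
    push Not at hall
    have h1 : ((Finset.univ.filter (· ∈ A)) : Finset G) ⊆ {1, x1} := fun x hx => by
      rw [Finset.mem_filter] at hx
      rcases eq_or_ne x 1 with rfl | hx'
      · simp
      · simp [hall x hx.2 hx']
    have h2 := (Finset.card_le_card h1).trans Finset.card_le_two
    rw [← Fintype.card_subtype, ← Nat.card_eq_fintype_card] at h2
    omega
  set x3 := x1 * x2 with hx3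
  have hx3A : x3 ∈ A := mul_mem hx1A hx2A
  have hx31 : x3 ≠ 1 := fun e => hx2ne (by
    rw [mul_eq_one_iff_inv_eq.1 e |>.symm, inv_eq hs hx1A])
  let Z : Finset G := {1, x1, x2, x3}
  have hxor : ∀ y, ∀ hy' : y ∈ A, y ∉ Z → (y ∈ V x3 hx3A hx31 ↔
      ¬ (y ∈ V x1 hx1A hx11 ↔ y ∈ V x2 hx2A hx21)) := by
    intro y hy' hyZ
    simp only [Z, Finset.mem_insert, Finset.mem_singleton, not_or] at hyZ
    obtain ⟨hy1, hyx1, hyx2, hyx3⟩ := hyZ
    have hkey : ∀ x, ∀ hx : x ∈ A, ∀ hx' : x ≠ 1, y ≠ x →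
        (y ∈ V x hx hx' ↔ ¬ x ∈ V y hy' hy1) := by
      intro x hx hx' hne
      rw [← hVR x hx hx' y hy' hy1, ← hVR y hy' hy1 x hx hx']
      refine htour _ (hz x hx hx') _ (hz y hy' hy1) fun e => hne ?_
      exact (mem_zpowers_two (sq hs hx) (e ▸ mem_zpowers y)).resolve_left hy1
    rw [hkey x3 hx3A hx31 hyx3, hkey x1 hx1A hx11 hyx1, hkey x2 hx2A hx21 hyx2]
    set Y := V y hy' hy1
    have h3 : x3 ∈ Y ↔ (x1 ∈ Y ↔ x2 ∈ Y) := by
      refine ⟨fun h => ⟨fun h1 => (Subgroup.mul_mem_cancel_left Y h1).1 h,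
        fun h2 => (Subgroup.mul_mem_cancel_right Y h2).1 h⟩, fun h => ?_⟩
      by_cases h1 : x1 ∈ Y
      · exact mul_mem h1 (h.1 h1)
      · have h2 : x2 ∉ Y := fun h2 => h1 (h.2 h2)
        have e1 : x1 * y ∈ Y := (hVd y hy' hy1 x1 hx1A).resolve_left h1
        have e2 : x2 * y ∈ Y := (hVd y hy' hy1 x2 hx2A).resolve_left h2
        have e3 := mul_mem e1 e2
        rwa [mul_assoc, comm hs hx2A hy', ← mul_assoc y y, sq hs hy', one_mul] at e3
    tauto
  have hlin : ∀ x, ∀ hx : x ∈ A, ∀ hx' : x ≠ 1, ∀ y ∈ A, ∀ y' ∈ A,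
      (y * y' ∈ V x hx hx' ↔ (y ∈ V x hx hx' ↔ y' ∈ V x hx hx')) := by
    intro x hx hx' y hy' y' hy''
    refine ⟨fun h => ⟨fun h1 => (Subgroup.mul_mem_cancel_left _ h1).1 h,
      fun h2 => (Subgroup.mul_mem_cancel_right _ h2).1 h⟩, fun h => ?_⟩
    by_cases h1 : y ∈ V x hx hx'
    · exact mul_mem h1 (h.1 h1)
    · have h2 : y' ∉ V x hx hx' := fun h2 => h1 (h.2 h2)
      have e3 := mul_mem ((hVd x hx hx' y hy').resolve_left h1) ((hVd x hx hx' y' hy'').resolve_left h2)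
      rwa [mul_assoc, comm hs hy'' hx, ← mul_assoc x x, sq hs hx, one_mul] at e3
  obtain ⟨y, hyA, hyZ⟩ : ∃ y ∈ A, y ∉ Z := by
    by_contra hall
    push Not at hall
    have h2 := (Finset.card_le_card (s := Finset.univ.filter (· ∈ A)) (t := Z)
      fun x hx => hall x (Finset.mem_filter.1 hx).2).trans Finset.card_le_four
    rw [← Fintype.card_subtype, ← Nat.card_eq_fintype_card] at h2
    omega
  obtain ⟨y', hy'A, hy'Z⟩ : ∃ y' ∈ A, y' ∉ Z ∪ Z.image (y * ·) := by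
    by_contra hall
    push Not at hall
    have h2 := ((Finset.card_le_card (s := Finset.univ.filter (· ∈ A)) (t := Z ∪ Z.image (y * ·))
      fun x hx => hall x (Finset.mem_filter.1 hx).2).trans (Finset.card_union_le _ _)).trans
      (Nat.add_le_add Finset.card_le_four (Finset.card_image_le.trans Finset.card_le_four))
    rw [← Fintype.card_subtype, ← Nat.card_eq_fintype_card] at h2
    omega
  rw [Finset.mem_union, not_or] at hy'Z
  have hyy'Z : y * y' ∉ Z := fun h1 => hy'Z.2 (Finset.mem_image.2 ⟨_, h1, by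
    rw [← mul_assoc, sq hs hyA, one_mul]⟩)
  have e1 := hxor y hyA hyZ
  have e2 := hxor y' hy'A hy'Z.1
  have e3 := hxor (y * y') (mul_mem hyA hy'A) hyy'Z
  have h3 := hlin x3 hx3A hx31 y hyA y' hy'A
  have h1 := hlin x1 hx1A hx11 y hyA y' hy'A
  have h2 := hlin x2 hx2A hx21 y hyA y' hy'A
  exact parity_absurd e1 e2 e3 h1 h2 h3

end Cfsg.Agent.Gold1169.CombAux
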