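import Cfsg.Agent.Lib.Gold1169.Main
import Cfsg.Agent.Lib.GoldGroups.Naming
import Cfsg.Agent.Lib.GoldEven.Main

/-!
S1169 from the gate, in the forms of its further consumers.
-/

set_option autoImplicit false
set_option linter.style.haveILetI false
set_option linter.unusedSectionVars false

namespace Cfsg.Agent.Gold1169

universe u

/-- Goldschmidt's theorem, as used for the Goldschmidt groups. -/
theorem closedAbelianSimple_of (hg : GateCons.Gate.{u}) : GoldGroups.ClosedAbelianSimple.{u} :=
  fun _ _ _ _ S A hA hAcomm hsc => stmt_of hg S A hA hAcomm hsc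

/-- Goldschmidt's theorem, as used for groups of even type. -/
theorem evenClosedStmt_of (hg : GateCons.Gate.{u}) : GoldEven.ClosedStmt.{u} :=
  fun _ _ _ _ S A hA hAcomm hsc => stmt_of hg S A hA hAcomm hsc

theorem walterGood : GoldGroups.WalterGood.{u} := Walter4.good

end Cfsg.Agent.Gold1169
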