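import Cfsg.Agent.Lib.Gold1169.Base
import Cfsg.Agent.Lib.Walter4.ApiProof

/-!
The functor of a family of subgroups of an elementary abelian group has a closure.
-/

set_option autoImplicit false
set_option linter.style.haveILetI false
set_option linter.unusedSectionVars false

namespace Cfsg.Agent.Gold1169

open Subgroup Cfsg.Agent.Components Cfsg.Agent.BpBalance
open Cfsg.Agent.OddDown.CoreSep (q im mem_im commutator_le_centralizer commute_of_ne
  core_le_normalizer_component mem_core core_props)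
open Cfsg.Agent.Walter4 (cen cenS ocen cor XB ea_le_cenS ea_le_cen ea_cop ea_solvable ea_sq ocen_coprime
  le_normalizer_ocen cor_normalized cor_coprime cor_le cor_zpowers cor_centralizes cor_le_normalizer_component
  mem_cor mem_cor_of_mem_core mem_commutator_of_inverted zpowers_ne_bot' im_mono centralizer_im_le)
open scoped commutatorElement

universe u

attribute [local instance] FittingCores.pPrimeCore_normal

variable {G : Type u} [Group G] [Finite G]

/-- Each component of a `C(e)`, `e ∈ V`, is centralised by `V` or by a supplement in `E` of its own. -/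
structure Split (E V : Subgroup G) : Prop where
  ea : Cfsg.IsElementaryAbelian 2 E
  le : V ≤ E
  four : 4 ≤ Nat.card V
  sep : ∀ e ∈ V, e ≠ 1 → ∀ L : Subgroup (XB (zpowers e)), Cfsg.IsComponent L →
    Fixes V L ∨ ∃ V' ≤ E, (∀ x ∈ E, ∃ y ∈ V, ∃ z ∈ V', x = y * z) ∧ Fixes V' L

variable {E V : Subgroup G}

/-- If `w` moves `a` and `b` only by elements of the layer centralising `E₂`, it moves their commutator by
an element of `E₁`. -/
theorem commutator_mem_part {X : Type u} [Group X] [Finite X] {E₁ E₂ Y : Subgroup X} (hY : Y ≤ E₁ ⊔ E₂)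
    (hle₁ : E₁ ≤ Y) (h12 : ⁅E₁, E₂⁆ = ⊥) (hn : Y ≤ normalizer (E₁ : Set X)) {w a b : X} (ha : a ∈ Y)
    (hb : b ∈ Y) (hwa : ⁅w, a⁆ ∈ Y ⊓ centralizer (E₂ : Set X))
    (hwb : ⁅w, b⁆ ∈ Y ⊓ centralizer (E₂ : Set X)) : ⁅⁅a, b⁆, w⁆ ∈ E₁ := by
  have h21 := commutator_eq_bot_iff_le_centralizer.1 h12
  have hsplit : ∀ c ∈ Y ⊓ centralizer (E₂ : Set X), ∃ e ∈ E₁, ∃ f : X,
      c = e * f ∧ ∀ y ∈ Y, f * y = y * f := by
    intro c hc
    obtain ⟨e, he, f, hf, rfl⟩ := mem_sup_of_commute h12 (hY hc.1)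
    refine ⟨e, he, f, rfl, fun y hy => ?_⟩
    have hf2 : f ∈ centralizer (E₂ : Set X) := by
      simpa using (centralizer (E₂ : Set X)).mul_mem ((centralizer (E₂ : Set X)).inv_mem (h21 he)) hc.2
    obtain ⟨y₁, hy₁, y₂, hy₂, rfl⟩ := mem_sup_of_commute h12 (hY hy)
    have c1 : Commute f y₁ := mem_centralizer_iff.1 (h21 hy₁) f hf
    have c2 : Commute f y₂ := (mem_centralizer_iff.1 hf2 y₂ hy₂).symm
    exact (c1.mul_right c2).eq
  obtain ⟨e, he, f, hef, hf⟩ := hsplit _ hwa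
  obtain ⟨e', he', f', hef', hf'⟩ := hsplit _ hwb
  have hconj : ∀ g ∈ Y, ∀ x ∈ E₁, g * x * g⁻¹ ∈ E₁ := fun g hg x hx =>
    (mem_normalizer_iff.1 (hn hg) x).1 hx
  have hea : e * a ∈ Y := mul_mem (hle₁ he) ha
  have hfc : Commute f (e * a) := hf _ hea
  have hfc' : Commute f' (e' * b) := hf' _ (mul_mem (hle₁ he') hb)
  have hff' : Commute f (e' * b) := hf _ (mul_mem (hle₁ he') hb)
  have hf'a : Commute f' (e * a) := hf' _ hea
  have hfe : f * a = a * f := hf a ha
  have hfff : Commute f f' := by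
    have h1 : f = e⁻¹ * ⁅w, a⁆ := by rw [hef, inv_mul_cancel_left]
    have h2 : f ∈ Y := h1 ▸ mul_mem (inv_mem (hle₁ he)) hwa.1
    exact (hf' f h2).symm
  have hw : w * a * w⁻¹ = e * a * f := by
    calc w * a * w⁻¹ = ⁅w, a⁆ * a := by rw [commutatorElement_def]; group
      _ = e * a * f := by rw [hef, mul_assoc, hfe, ← mul_assoc]
  have hw' : w * b * w⁻¹ = e' * b * f' := by
    calc w * b * w⁻¹ = ⁅w, b⁆ * b := by rw [commutatorElement_def]; group
      _ = e' * b * f' := by rw [hef', mul_assoc, hf' b hb, ← mul_assoc]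
  have hcomm : w * ⁅a, b⁆ * w⁻¹ = ⁅e * a, e' * b⁆ := by
    calc w * ⁅a, b⁆ * w⁻¹ = (w * a * w⁻¹) * (w * b * w⁻¹) * (w * a * w⁻¹)⁻¹ * (w * b * w⁻¹)⁻¹ := by
          rw [commutatorElement_def]; group
      _ = (e * a) * ((e' * b) * f) * f' * (f⁻¹ * (e * a)⁻¹) * (f'⁻¹ * (e' * b)⁻¹) := by
          rw [hw, hw', ← hff'.eq]; group
      _ = (e * a) * (e' * b) * (f * f' * f⁻¹) * (e * a)⁻¹ * f'⁻¹ * (e' * b)⁻¹ := by group
      _ = (e * a) * (e' * b) * (f' * (e * a)⁻¹) * f'⁻¹ * (e' * b)⁻¹ := by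
          rw [hfff.eq, mul_inv_cancel_right]; group
      _ = _ := by rw [hf'a.inv_right.eq, commutatorElement_def]; group
  have hexp : ⁅e * a, e' * b⁆ = e * (a * e' * a⁻¹) * ⁅a, b⁆ * ((b * e⁻¹ * b⁻¹) * e'⁻¹) := by
    simp only [commutatorElement_def]; group
  have hx : ⁅a, b⁆ ∈ Y := by
    rw [commutatorElement_def]; exact mul_mem (mul_mem (mul_mem ha hb) (inv_mem ha)) (inv_mem hb)
  have e1 : ⁅⁅a, b⁆, w⁆ = ⁅a, b⁆ * (w * ⁅a, b⁆ * w⁻¹)⁻¹ := by
    simp only [commutatorElement_def]; group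
  have hg : ∀ x A B : X, x * (A * x * B)⁻¹ = x * B⁻¹ * x⁻¹ * A⁻¹ := fun x A B => by group
  rw [e1, hcomm, hexp, hg]
  exact E₁.mul_mem (hconj _ hx _ (inv_mem (mul_mem (hconj b hb _ (inv_mem he)) (inv_mem he'))))
    (inv_mem (mul_mem he (hconj a ha _ he')))

/-- Elements of `[O(C(a)) ∩ C(e), V]` centralising `V` lie in `O(C(V))`. -/
theorem Split.piece_le (c : Split E V) {a e : G} (ha : a ∈ E) (he : e ∈ V) (he1 : e ≠ 1) {y : G}
    (hy : y ∈ ⁅ocen a ⊓ cenS (zpowers e), V⁆) (hyC : y ∈ cenS V) : y ∈ cor V := by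
  classical
  haveI : Fact (Nat.Prime 2) := ⟨Nat.prime_two⟩
  set O := ocen a with hO
  set H₂ := cenS (zpowers e) with hH₂
  set Z := O ⊓ H₂ with hZ
  set H := cenS V with hH
  have hAH : E ≤ H := ea_le_cenS c.ea c.le
  have hAH₂ : E ≤ H₂ := ea_le_cenS c.ea (zpowers_le.2 (c.le he))
  have hHH₂ : H ≤ H₂ := centralizer_le (zpowers_le.2 he : zpowers e ≤ V)
  have hZA : V ≤ normalizer (Z : Set G) :=
    c.le.trans ((_root_.le_inf (le_normalizer_ocen c.ea ha) (hAH₂.trans le_normalizer)).trans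
      inf_normalizer_le_normalizer_inf)
  have hyZ : y ∈ Z := CoprimeAct.commutator_le_left hZA hy
  have hyO : y ∈ O := hyZ.1
  have ha2 : a ^ 2 = 1 := ea_sq c.ea ha
  refine ⟨⟨y, hyC⟩, mem_core (hAH ha) ha2 hyO hyC fun L hL => ?_, rfl⟩
  by_cases hne : ⁅L, zpowers (q H ⟨a, hAH ha⟩)⁆ = L
  swap
  · intro l hl
    rw [mem_centralizer_singleton_iff]
    exact (mem_centralizer_iff.1
      (commutator_eq_bot_iff_le_centralizer.1 (commute_of_ne (hAH ha) ha2 hL hne) hl)
      _ (mem_im hyO hyC)).symm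
  rw [← hne, commutator_le]
  intro l hl w hw
  obtain ⟨hcomp, hmap⟩ := exists_pComponent (p := 2) L hL
  set K := pGen 2 (L.comap (q H)) with hK
  obtain ⟨m, hm, rfl⟩ : ∃ m ∈ K, q H m = l := hmap.ge hl
  obtain ⟨i, rfl⟩ := mem_zpowers_iff.1 hw
  rw [← map_zpow, ← map_commutatorElement, mem_centralizer_singleton_iff, ← map_mul, ← map_mul]
  set w : ↥H := (⟨a, hAH ha⟩ : ↥H) ^ i with hw'
  have hwA : (w : G) ∈ E := by simpa [hw'] using zpow_mem ha i
  suffices hkey : ⁅⁅(m : G), (w : G)⁆, y⁆ ∈ cor (zpowers e) by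
    have hmemH : (⁅⁅m, w⁆, (⟨y, hyC⟩ : ↥H)⁆ : ↥H) ∈ Cfsg.pPrimeCore 2 ↥H := by
      have hN : ((cor (zpowers e)).subgroupOf H).Normal := ⟨fun v hv g => by
        have hg : (g : G) ∈ normalizer (cor (zpowers e) : Set G) := cor_normalized _ (hHH₂ g.2)
        exact (mem_normalizer_iff.1 hg (v : G)).1 hv⟩
      refine Cfsg.Agent.PBasic.le_pPrimeCore hN ?_
        (show _ ∈ (cor (zpowers e)).subgroupOf H from hkey)
      refine Nat.Coprime.coprime_dvd_left (dvd_trans (dvd_of_eq ?_)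
        (card_dvd_of_le (inf_le_left : cor (zpowers e) ⊓ H ≤ _))) (cor_coprime _)
      rw [← inf_subgroupOf_right, Nat.card_congr (subgroupOfEquivOfLe inf_le_right).toEquiv]
    have h1 := (QuotientGroup.eq_one_iff (N := Cfsg.pPrimeCore 2 ↥H) _).2 hmemH
    have h2 : q H ⁅⁅m, w⁆, (⟨y, hyC⟩ : ↥H)⁆ = 1 := h1
    rw [map_commutatorElement, commutatorElement_eq_one_iff_mul_comm] at h2
    rw [map_mul, map_mul]
    exact h2
  set P₁ := im H₂ V with hP₁
  have hMle : K.map H.subtype ≤ (Cfsg.pLayer 2 ↥H₂).map H₂.subtype := by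
    set R := V.subgroupOf H₂ with hR
    have hRp : IsPGroup 2 R :=
      ((Signalizer.ea_isPGroup c.ea).to_le c.le).comap_of_injective H₂.subtype H₂.subtype_injective
    have hCR : centralizer (R : Set ↥H₂) = H.subgroupOf H₂ := by
      ext v
      constructor
      · intro hv
        exact mem_centralizer_iff.2 fun x hx =>
          congrArg Subtype.val (mem_centralizer_iff.1 hv ⟨x, hAH₂ (c.le hx)⟩ hx)
      · intro hv
        exact mem_centralizer_iff.2 fun x hx => Subtype.ext (mem_centralizer_iff.1 hv (x : G) hx)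
    have h1 : PCIn 2 ((K.map H.subtype).comap H₂.subtype) (H.comap H₂.subtype) :=
      (pcin_of_comp hcomp).comap_inj H₂.subtype H₂.subtype_injective
        (by rw [range_subtype]; exact (map_subtype_le K).trans hHH₂)
    have h2 : (K.map H.subtype).subgroupOf H₂ ≤ Cfsg.pLayer 2 ↥H₂ := by
      refine le_trans ?_ (LBalance.pLayer_centralizer_le_two hRp)
      have h1' : PCIn 2 ((K.map H.subtype).subgroupOf H₂) (centralizer (R : Set ↥H₂)) := by
        rw [hCR]; exact h1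
      rw [← map_subgroupOf_eq_of_le h1'.le]
      exact map_mono (le_sSup h1'.toComp)
    rw [← map_subgroupOf_eq_of_le ((map_subtype_le K).trans hHH₂)]
    exact map_mono h2
  obtain ⟨m', hm', hmm⟩ := hMle (mem_map_of_mem H.subtype hm)
  have hlay : q H₂ m' ∈ Cfsg.layer (↥H₂ ⧸ Cfsg.pPrimeCore 2 ↥H₂) := by
    rw [← map_pLayer]
    exact mem_map_of_mem _ hm'
  set E₁ : Subgroup (↥H₂ ⧸ Cfsg.pPrimeCore 2 ↥H₂) :=
    ⨆ L : {L : Subgroup (↥H₂ ⧸ Cfsg.pPrimeCore 2 ↥H₂) //
      Cfsg.IsComponent L ∧ L ≤ centralizer (P₁ : Set _)}, L.1 with hE₁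
  set E₂ : Subgroup (↥H₂ ⧸ Cfsg.pPrimeCore 2 ↥H₂) :=
    ⨆ L : {L : Subgroup (↥H₂ ⧸ Cfsg.pPrimeCore 2 ↥H₂) //
      Cfsg.IsComponent L ∧ ¬ L ≤ centralizer (P₁ : Set _)}, L.1 with hE₂
  have hE₁P : E₁ ≤ centralizer (P₁ : Set _) := iSup_le fun L => L.2.2
  have h12 : ⁅E₁, E₂⁆ = ⊥ := by
    rw [commutator_eq_bot_iff_le_centralizer]
    refine iSup_le fun L => ?_
    rw [← commutator_eq_bot_iff_le_centralizer, commutator_comm, commutator_eq_bot_iff_le_centralizer]
    refine iSup_le fun M => ?_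
    rw [← commutator_eq_bot_iff_le_centralizer]
    exact components_commute M.2.1 L.2.1 fun h => M.2.2 (h ▸ L.2.2)
  have hsup : Cfsg.layer (↥H₂ ⧸ Cfsg.pPrimeCore 2 ↥H₂) ≤ E₁ ⊔ E₂ := layer_le_iff.2 fun L hL => by
    by_cases h1 : L ≤ centralizer (P₁ : Set _)
    · exact le_sup_of_le_left (le_iSup_of_le
        (⟨L, hL, h1⟩ : {L // Cfsg.IsComponent L ∧ L ≤ centralizer (P₁ : Set _)}) le_rfl)
    · exact le_sup_of_le_right (le_iSup_of_le
        (⟨L, hL, h1⟩ : {L // Cfsg.IsComponent L ∧ ¬ L ≤ centralizer (P₁ : Set _)}) le_rfl)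
  have hle₁ : E₁ ≤ Cfsg.layer (↥H₂ ⧸ Cfsg.pPrimeCore 2 ↥H₂) := iSup_le fun L => component_le_layer L.2.1
  have hnE : Cfsg.layer (↥H₂ ⧸ Cfsg.pPrimeCore 2 ↥H₂) ≤ normalizer (E₁ : Set _) :=
    (le_iInf fun L => layer_le_normalizer_component L.2.1).trans (iInf_normalizer_le_normalizer_iSup _)
  set w' : ↥H₂ := ⟨(w : G), hAH₂ hwA⟩ with hw''
  have hwE : q H₂ w' ∈ normalizer (E₁ : Set _) := by
    have hwc : q H₂ w' ∈ centralizer (P₁ : Set _) := by
      rw [mem_centralizer_iff]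
      rintro _ ⟨x, hx, rfl⟩
      rw [← map_mul, ← map_mul]
      exact congrArg (q H₂) (Subtype.ext (Signalizer.ea_comm c.ea (c.le hx) hwA))
    set g := q H₂ w'
    have hle : E₁.map (MulAut.conj g).toMonoidHom ≤ E₁ := by
      rw [hE₁, Subgroup.map_iSup]
      refine iSup_le fun L => ?_
      refine le_iSup_of_le (⟨L.1.map (MulAut.conj g).toMonoidHom, component_conj L.2.1 g, ?_⟩ :
        {L // Cfsg.IsComponent L ∧ L ≤ centralizer (P₁ : Set _)}) le_rfl
      rintro _ ⟨l, hl, rfl⟩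
      show g * l * g⁻¹ ∈ _
      exact mul_mem (mul_mem hwc (L.2.2 hl)) (inv_mem hwc)
    rw [mem_normalizer_iff_map_conj_eq]
    exact eq_of_le_of_card_ge hle (card_map_of_injective (MulAut.conj g).injective).ge
  have hkey2 : ∀ x : ↥H₂, (x : G) ∈ H → q H₂ x ∈ Cfsg.layer (↥H₂ ⧸ Cfsg.pPrimeCore 2 ↥H₂) →
      ⁅q H₂ w', q H₂ x⁆ ∈
        Cfsg.layer (↥H₂ ⧸ Cfsg.pPrimeCore 2 ↥H₂) ⊓ centralizer (E₂ : Set _) := by
    intro x hxH hx
    refine mem_inf.2 ⟨?_, ?_⟩
    · haveI := layer_normal (G := ↥H₂ ⧸ Cfsg.pPrimeCore 2 ↥H₂)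
      exact Subgroup.commutator_le_right ⊤ _ (commutator_mem_commutator (mem_top _) hx)
    · refine le_centralizer_iff.1 (iSup_le fun L => ?_ : E₂ ≤ centralizer
        ((zpowers ⁅q H₂ w', q H₂ x⁆ : Subgroup _) : Set _)) (mem_zpowers _)
      rw [le_centralizer_iff, zpowers_le]
      obtain ⟨V', hV'E, hdec, hfix⟩ := (c.sep e he he1 L.1 L.2.1).resolve_left L.2.2
      obtain ⟨w₁, hw₁, w₂, hw₂, hww⟩ := hdec _ hwA
      set p : ↥H₂ := ⟨w₁, hAH₂ (c.le hw₁)⟩ with hp
      set z : ↥H₂ := ⟨w₂, hAH₂ (hV'E hw₂)⟩ with hz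
      have ew : w' = z * p := Subtype.ext (hww.trans
        (Signalizer.ea_comm c.ea (c.le hw₁) (hV'E hw₂)))
      have hzL : q H₂ z ∈ centralizer (L.1 : Set _) :=
        le_centralizer_iff.1 hfix (mem_im (H := H₂) hw₂ (hAH₂ (hV'E hw₂)))
      have hpx : q H₂ p * q H₂ x = q H₂ x * q H₂ p := by
        rw [← map_mul, ← map_mul]
        exact congrArg (q H₂) (Subtype.ext (mem_centralizer_iff.1 hxH w₁ hw₁))
      have hcomm : ⁅q H₂ w', q H₂ x⁆ = q H₂ z * (q H₂ x * (q H₂ z)⁻¹ * (q H₂ x)⁻¹) := by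
        rw [ew, map_mul, commutatorElement_def, mul_inv_rev, mul_assoc (q H₂ z) (q H₂ p), hpx]
        group
      rw [hcomm]
      refine mul_mem hzL ?_
      refine mem_centralizer_iff.2 fun l hl => ?_
      have hl' := (mem_normalizer_iff.1 (inv_mem (layer_le_normalizer_component L.2.1 hx)) l).1 hl
      rw [inv_inv] at hl'
      have h1 : Commute ((q H₂ x)⁻¹ * l * q H₂ x) (q H₂ z)⁻¹ :=
        mem_centralizer_iff.1 (inv_mem hzL) _ hl'
      calc l * (q H₂ x * (q H₂ z)⁻¹ * (q H₂ x)⁻¹)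
          = q H₂ x * (((q H₂ x)⁻¹ * l * q H₂ x) * (q H₂ z)⁻¹) * (q H₂ x)⁻¹ := by group
        _ = q H₂ x * ((q H₂ z)⁻¹ * ((q H₂ x)⁻¹ * l * q H₂ x)) * (q H₂ x)⁻¹ := by rw [h1.eq]
        _ = q H₂ x * (q H₂ z)⁻¹ * (q H₂ x)⁻¹ * l := by group
  let T : Subgroup (↥H₂ ⧸ Cfsg.pPrimeCore 2 ↥H₂) :=
    { carrier := {x | x ∈ normalizer (E₁ : Set _) ∧ ⁅x, q H₂ w'⁆ ∈ E₁}
      one_mem' := ⟨one_mem _, by rw [commutatorElement_one_left]; exact one_mem _⟩
      mul_mem' := by
        rintro x z ⟨hx, hx'⟩ ⟨hz, hz'⟩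
        refine ⟨mul_mem hx hz, ?_⟩
        rw [show ⁅x * z, q H₂ w'⁆ = x * ⁅z, q H₂ w'⁆ * x⁻¹ * ⁅x, q H₂ w'⁆ by
          simp only [commutatorElement_def]; group]
        exact mul_mem ((mem_normalizer_iff.1 hx _).1 hz') hx'
      inv_mem' := by
        rintro x ⟨hx, hx'⟩
        refine ⟨inv_mem hx, ?_⟩
        rw [show ⁅x⁻¹, q H₂ w'⁆ = x⁻¹ * ⁅x, q H₂ w'⁆⁻¹ * x⁻¹⁻¹ by
          simp only [commutatorElement_def]; group]
        exact (mem_normalizer_iff.1 (inv_mem hx) _).1 (inv_mem hx') }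
  have hKT : ⁅K.map H.subtype, K.map H.subtype⁆ ≤ (T.comap (q H₂)).map H₂.subtype := by
    rw [commutator_le]
    intro g₁ hg₁ g₂ hg₂
    obtain ⟨a', ha', ea'⟩ := hMle hg₁
    obtain ⟨b', hb', eb'⟩ := hMle hg₂
    have hl : ∀ g ∈ Cfsg.pLayer 2 ↥H₂, q H₂ g ∈ Cfsg.layer (↥H₂ ⧸ Cfsg.pPrimeCore 2 ↥H₂) := fun g hg => by
      rw [← map_pLayer]
      exact mem_map_of_mem _ hg
    refine ⟨⁅a', b'⁆, ?_, by rw [map_commutatorElement, ea', eb']⟩
    show q H₂ ⁅a', b'⁆ ∈ T
    rw [map_commutatorElement]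
    refine ⟨hnE ?_, commutator_mem_part hsup hle₁ h12 hnE (hl a' ha') (hl b' hb')
      (hkey2 a' ?_ (hl a' ha')) (hkey2 b' ?_ (hl b' hb'))⟩
    · exact commutator_le_self _ (commutator_mem_commutator (hl a' ha') (hl b' hb'))
    · exact (show (a' : G) = g₁ from ea') ▸ map_subtype_le K hg₁
    · exact (show (b' : G) = g₂ from eb') ▸ map_subtype_le K hg₂
  have hmw : ⁅q H₂ m', q H₂ w'⁆ ∈ E₁ := by
    rw [← Subgroup.map_commutator, pComponent_commutator_eq hcomp] at hKT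
    obtain ⟨n, hn, hnm⟩ := hKT (mem_map_of_mem H.subtype hm)
    have hnm' : n = m' := Subtype.ext (hnm.trans hmm.symm)
    exact (hnm' ▸ hn : q H₂ m' ∈ T).2
  have hyE : q H₂ ⟨y, hHH₂ hyC⟩ ∈ centralizer (E₁ : Set _) := by
    have hle : E₁ ≤ centralizer {q H₂ ⟨y, hHH₂ hyC⟩} := iSup_le fun L => by
      have hZn : im H₂ Z ≤ normalizer (L.1 : Set _) :=
        (map_mono (comap_mono inf_le_left)).trans (core_le_normalizer_component (hAH₂ ha) ha2 L.2.1)
      have hP : P₁ ≤ centralizer (L.1 : Set _) := by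
        rw [← commutator_eq_bot_iff_le_centralizer, commutator_comm,
          commutator_eq_bot_iff_le_centralizer]
        exact L.2.2
      have hmem : q H₂ ⟨y, hHH₂ hyC⟩ ∈ ⁅im H₂ Z, P₁⁆ := by
        rw [← map_commutator]
        refine mem_map_of_mem _ ?_
        have hy' : y ∈ (⁅Z.subgroupOf H₂, V.subgroupOf H₂⁆).map H₂.subtype := by
          rw [map_commutator, map_subgroupOf_eq_of_le inf_le_right,
            map_subgroupOf_eq_of_le (c.le.trans hAH₂)]
          exact hy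
        obtain ⟨y', hy', hyy⟩ := hy'
        have : y' = (⟨y, hHH₂ hyC⟩ : ↥H₂) := Subtype.ext hyy
        exact this ▸ hy'
      intro l hl
      exact mem_centralizer_singleton_iff.2
        (mem_centralizer_iff.1 (commutator_le_centralizer hZn hP hmem) l hl)
    exact mem_centralizer_iff.2 fun l hl => mem_centralizer_singleton_iff.1 (hle hl)
  have hone : q H₂ ⁅⁅m', w'⁆, (⟨y, hHH₂ hyC⟩ : ↥H₂)⁆ = 1 := by
    rw [map_commutatorElement, commutatorElement_eq_one_iff_mul_comm, map_commutatorElement]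
    exact mem_centralizer_iff.1 hyE _ hmw
  refine ⟨⁅⁅m', w'⁆, (⟨y, hHH₂ hyC⟩ : ↥H₂)⁆, (QuotientGroup.eq_one_iff _).1 hone, ?_⟩
  simp only [map_commutatorElement]
  rw [show (H₂.subtype m') = (m : G) from hmm]
  rfl

/-- The fixed points of `V` in the factor. -/
theorem Split.factor_inf_le (c : Split E V) {a : G} (ha : a ∈ E) :
    Walter4.Blocks.factor V a ⊓ cenS V ≤ cor V := by
  haveI : Fact (Nat.Prime 2) := ⟨Nat.prime_two⟩
  set O := ocen a with hO
  have hOn : V ≤ normalizer (O : Set G) := c.le.trans (le_normalizer_ocen c.ea ha)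
  set Y := ⁅O, V⁆ with hY
  have hYO : Y ≤ O := CoprimeAct.commutator_le_left hOn
  have hcop := ea_cop c.ea c.le (ocen_coprime a)
  have hYA : ⁅Y, V⁆ = Y :=
    CoprimeAct.commutator_commutator hOn hcop (Or.inl (ea_solvable c.ea c.le))
  have hodd : Odd (Nat.card Y) :=
    Nat.coprime_two_left.1 (((ocen_coprime a).coprime_dvd_left (card_dvd_of_le hYO)).symm)
  have hh : OddDown.FixedGen.Hyp V V Y :=
    ⟨fun u hu v hv => Signalizer.ea_comm c.ea (c.le hu) (c.le hv), le_rfl,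
      normalizer_commutator_ge_right _ _, hcop.coprime_dvd_right (card_dvd_of_le hYO),
      OddChar.oddSolvable ↥Y hodd⟩
  have hYQ : Y ⊓ cenS V ≤ cor V := by
    refine (OddDown.FixedGen.fixed_le_gen hh hYA).trans (iSup_le fun B₀ => ?_)
    obtain ⟨B₀, hle, b, hb, hsup⟩ := B₀
    obtain ⟨e, he, he1⟩ : ∃ e ∈ B₀, e ≠ 1 := by
      refine B₀.bot_or_exists_ne_one.resolve_left fun hb0 => ?_
      rw [hb0, bot_sup_eq] at hsup
      have h1 := Subgroup.card_le_of_le hsup
      have h2 : Nat.card (zpowers b) ≤ 2 := by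
        rw [Nat.card_zpowers]
        exact orderOf_le_of_pow_eq_one (by norm_num) (c.ea.2 b (c.le hb))
      have := c.four
      omega
    rintro y ⟨⟨-, hyC⟩, hyW⟩
    refine c.piece_le ha (hle he) he1 ?_ hyC
    exact commutator_mono (inf_le_inf hYO (centralizer_le (zpowers_le.2 he : zpowers e ≤ B₀))) le_rfl hyW
  intro v hv
  obtain ⟨d, hd, r, hr, rfl⟩ := (SolvBasic.mem_sup_iff_of_le_normalizer
    (inf_le_left.trans (normalizer_commutator_ge_left O V))).1 hv.1
  have hrC : r ∈ cenS V := cor_le V hr.2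
  have hdC : d ∈ cenS V := by
    simpa using mul_mem hv.2 ((cenS V).inv_mem hrC)
  exact mul_mem (hYQ ⟨hd, hdC⟩) hr.2


variable {Ps : Set (Subgroup G)}

theorem Fam.split (h : Fam E Ps) {P : Subgroup G} (hP : P ∈ Ps) : Split E P :=
  ⟨h.ea, h.le P hP, h.four P hP, h.pair P hP⟩

theorem theta_le_ocen (a : G) : theta Ps a ≤ ocen a := inf_le_left

theorem theta_le_factor {P : Subgroup G} (hP : P ∈ Ps) (a : G) :
    theta Ps a ≤ Walter4.Blocks.factor P a :=
  inf_le_right.trans (iInf_le (fun P : Ps => Walter4.Blocks.factor (P : Subgroup G) a) ⟨P, hP⟩)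

theorem Fam.le_normalizer_theta (h : Fam E Ps) {a : G} (ha : a ∈ E) :
    E ≤ normalizer (theta Ps a : Set G) :=
  (_root_.le_inf (le_normalizer_ocen h.ea ha) ((le_iInf fun P : Ps =>
    Walter4.Blocks.le_normalizer_factor h.ea (h.le _ P.2) ha).trans (iInf_normalizer_le_normalizer_iInf _))).trans
    inf_normalizer_le_normalizer_inf

theorem Fam.signalizer (h : Fam E Ps) : Cfsg.IsSolvableSignalizerFunctor 2 E (theta Ps) := by
  haveI : Fact (Nat.Prime 2) := ⟨Nat.prime_two⟩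
  have hA := h.ea
  have hodd : ∀ a, (Nat.card (theta Ps a)).Coprime 2 := fun a =>
    (ocen_coprime a).coprime_dvd_left (card_dvd_of_le (theta_le_ocen a))
  refine ⟨⟨fun a _ _ => (theta_le_ocen a).trans (core_props a).1,
    fun a _ _ h2 => Nat.prime_two.not_dvd_one ((hodd a) ▸ Nat.dvd_gcd h2 dvd_rfl),
    fun a ha _ b hb x hx =>
      CoprimeAct.conj_mem_of_mem_normalizer (h.le_normalizer_theta ha hb) hx,
    fun a ha ha1 b hb hb1 => ?_⟩, fun a _ _ => Walter4.solvable_of_coprime (hodd a)⟩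
  set U := theta Ps a ⊓ centralizer ({b} : Set G) with hU
  have hAb : E ≤ cenS (zpowers b) := ea_le_cenS hA (zpowers_le.2 hb)
  have hUn : E ≤ normalizer (U : Set G) :=
    (_root_.le_inf (h.le_normalizer_theta ha) ((ea_le_cen hA hb).trans le_normalizer)).trans
      inf_normalizer_le_normalizer_inf
  have hUO : U ≤ ocen a := inf_le_left.trans (theta_le_ocen a)
  have hcenb : cen b = cenS (zpowers b) := by
    rw [cen, cenS, zpowers_eq_closure, centralizer_closure]
  have hdecomp : ∀ P ∈ Ps, ∀ u ∈ U, ∃ d ∈ ⁅U, P⁆, ∃ r ∈ U, r ∈ cor P ∧ d * r = u := by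
    intro P hP u hu
    obtain ⟨d, hd, r, hr, rfl⟩ := CoprimeAct.exists_commutator_mul ((h.le P hP).trans hUn)
      ((ea_cop hA (h.le P hP) (ocen_coprime a)).coprime_dvd_right (card_dvd_of_le hUO))
      (Or.inl (ea_solvable hA (h.le P hP))) hu
    exact ⟨d, hd, r, hr.1, (h.split hP).factor_inf_le ha ⟨theta_le_factor hP a hr.1.1, hr.2⟩, rfl⟩
  have hp : ∀ X : Subgroup G, X ≤ E → IsPGroup 2 X := fun X hX => (Signalizer.ea_isPGroup hA).to_le hX
  have haE : zpowers a ≤ E := zpowers_le.2 ha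
  have hUb : U ≤ ocen b := by
    intro u hu
    rw [← cor_zpowers]
    have hub : u ∈ cenS (zpowers b) := hcenb ▸ hu.2
    have hua : u ∈ cor (zpowers a) := (cor_zpowers a).symm ▸ hUO hu
    refine mem_cor_of_mem_core (hx := hub) (mem_cor (haE.trans hAb) (hp _ haE) hua hub fun L hL => ?_)
    rw [← Subgroup.centralizer_closure, ← zpowers_eq_closure, le_centralizer_iff, zpowers_le]
    rcases h.cov b hb hb1 L hL with ⟨P, hP, hPL⟩ | hall
    · obtain ⟨d, hd, r, hr, hrP, rfl⟩ := hdecomp P hP u hu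
      have hUH : U ≤ cenS (zpowers b) := hcenb ▸ inf_le_right
      have hPE := h.le P hP
      have hdU : d ∈ U := CoprimeAct.commutator_le_left (hPE.trans hUn) hd
      have e : q (cenS (zpowers b)) ⟨d * r, hub⟩ =
          q (cenS (zpowers b)) ⟨d, hUH hdU⟩ * q (cenS (zpowers b)) ⟨r, hUH hr⟩ := by
        rw [← map_mul]
        rfl
      rw [e]
      refine mul_mem (commutator_le_centralizer (Z := im (cenS (zpowers b)) U)
        (P := im (cenS (zpowers b)) P) ?_ (le_centralizer_iff.1 hPL) ?_) ?_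
      · refine le_trans (im_mono ?_) (cor_le_normalizer_component (B₁ := zpowers a)
          (haE.trans hAb) (hp _ haE) hL)
        rw [cor_zpowers]
        exact hUO
      · rw [← map_commutator]
        refine mem_map_of_mem _ ?_
        have hd' : d ∈ (⁅U.subgroupOf (cenS (zpowers b)), P.subgroupOf (cenS (zpowers b))⁆).map
            (cenS (zpowers b)).subtype := by
          rw [map_commutator, map_subgroupOf_eq_of_le hUH, map_subgroupOf_eq_of_le (hPE.trans hAb)]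
          exact hd
        obtain ⟨d', hd', hdd⟩ := hd'
        have : d' = (⟨d, hUH hdU⟩ : ↥(cenS (zpowers b))) := Subtype.ext hdd
        exact this ▸ hd'
      · exact cor_centralizes (hPE.trans hAb) (hp P hPE) hL hPL (mem_im hrP (hUH hr))
    · exact le_centralizer_iff.1 (hall a ha ha1) (mem_im (hUO hu) hub)
  refine _root_.le_inf hUb (le_iInf fun P => ?_)
  intro u hu
  obtain ⟨d, hd, r, hr, hrP, rfl⟩ := hdecomp P P.2 u hu
  exact mul_mem (mem_sup_left (commutator_mono hUb le_rfl hd)) (mem_sup_right ⟨hUb hr, hrP⟩)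

/-- At a common element of `H` and `P` the two factors agree. -/
theorem Fam.inf_le_factor (h : Fam E Ps) {P : Subgroup G} (hP : P ∈ Ps) {e r : G} (he : e ∈ E)
    (hr : r ∈ P) : ocen e ⊓ ocen r ≤ Walter4.Blocks.factor P e := by
  have hA := h.ea
  have hPE := h.le P hP
  set X := ocen e ⊓ ocen r
  have hn : P ≤ normalizer (X : Set G) :=
    hPE.trans ((_root_.le_inf (le_normalizer_ocen hA he) (le_normalizer_ocen hA (hPE hr))).trans
      inf_normalizer_le_normalizer_inf)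
  intro x hx
  obtain ⟨d, hd, t, ht, rfl⟩ := CoprimeAct.exists_commutator_mul hn
    ((ea_cop hA hPE (ocen_coprime e)).coprime_dvd_right (card_dvd_of_le inf_le_left))
    (Or.inl (ea_solvable hA hPE)) hx
  refine mul_mem (mem_sup_left (commutator_mono inf_le_left le_rfl hd)) (mem_sup_right ⟨ht.1.1, ?_⟩)
  -- `O(C(r)) ∩ C(P) ≤ O(C(P))`
  have hPC : cenS P ≤ cen r := centralizer_le (Set.singleton_subset_iff.2 hr)
  have hN : ((ocen r).subgroupOf (cenS P)).Normal := ⟨fun v hv g => by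
    exact (mem_normalizer_iff.1 ((core_props r).2.1 (hPC g.2)) (v : G)).1 hv⟩
  refine mem_cor_of_mem_core (hx := ht.2) (Cfsg.Agent.PBasic.le_pPrimeCore hN ?_ ht.1.2)
  refine Nat.Coprime.coprime_dvd_left (dvd_trans (dvd_of_eq ?_)
    (card_dvd_of_le (inf_le_left : ocen r ⊓ cenS P ≤ _))) (ocen_coprime r)
  rw [← inf_subgroupOf_right, Nat.card_congr (subgroupOfEquivOfLe inf_le_right).toEquiv]

/-- Every family has a closure. -/
theorem famStmt : FamStmt.{u} := by
  intro G _ _ E Ps h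
  haveI : Fact (Nat.Prime 2) := ⟨Nat.prime_two⟩
  have hA := h.ea
  have h8 := h.big
  obtain ⟨hm, hW⟩ := Signalizer.SFT.iSup_props hA h8 h.signalizer
  set W : Subgroup G := ⨆ a : {a : G // a ∈ E ∧ a ≠ 1}, theta Ps a.1 with hWdef
  have hWodd : ¬ 2 ∣ Nat.card W := hm.2.1
  have hnorm : E ≤ normalizer (W : Set G) :=
    (le_iInf fun a : {a : G // a ∈ E ∧ a ≠ 1} => h.le_normalizer_theta a.2.1).trans
      (iInf_normalizer_le_normalizer_iSup _)
  have hmeet : ∀ a ∈ E, a ≠ 1 → W ⊓ cen a = theta Ps a := hW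
  have hkey : ∀ H ≤ E, 4 ≤ Nat.card H → ∀ k ∈ cenS H,
      (∀ P ∈ Ps, k ∈ cenS P ∨ H ⊓ P ≠ ⊥) → k ∈ normalizer (W : Set G) := by
    intro H hH h4 k hk hkP
    rw [← LEBasic.map_conj_eq_iff_mem_normalizer]
    refine eq_of_le_of_card_ge ?_ (card_map_of_injective (MulAut.conj k).injective).ge
    rw [map_le_iff_le_comap]
    refine Signalizer.le_of_centralizer_le (p := 2) (Signalizer.ea_mono hA hH) (by omega)
      (hH.trans hnorm) hWodd fun e he he1 => ?_
    intro x hx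
    rw [mem_comap]
    show k * x * k⁻¹ ∈ W
    have hxθ : x ∈ theta Ps e := (hmeet e (hH he) he1).le hx
    have hke : k ∈ cen e := mem_centralizer_singleton_iff.2 (mem_centralizer_iff.1 hk e he).symm
    refine ((hmeet e (hH he) he1).ge (mem_inf.2
      ⟨(mem_normalizer_iff.1 ((core_props e).2.1 hke) x).1 (theta_le_ocen e hxθ),
        Subgroup.mem_iInf.2 fun P => ?_⟩)).1
    have hPE := h.le _ P.2
    rcases hkP P P.2 with hkc | hmeet'
    · have hn : k ∈ normalizer (Walter4.Blocks.factor (P : Subgroup G) e : Set G) := by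
        have hkn : k ∈ normalizer ((P : Subgroup G) : Set G) := centralizer_le_normalizer _ hkc
        refine normalizer_inf_normalizer_le_normalizer_sup _ _ (mem_inf.2 ⟨?_, ?_⟩)
        · exact OddDown.FixedGen.le_normalizer_commutator' (X := zpowers k)
            (zpowers_le.2 ((core_props e).2.1 hke)) (zpowers_le.2 hkn) (mem_zpowers k)
        · exact inf_normalizer_le_normalizer_inf
            (mem_inf.2 ⟨(core_props e).2.1 hke, cor_normalized _ hkc⟩)
      exact (mem_normalizer_iff.1 hn x).1 (theta_le_factor P.2 e hxθ)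
    · obtain ⟨r, ⟨hrH, hrP⟩, hr1⟩ := (Subgroup.bot_or_exists_ne_one _).resolve_left hmeet'
      have hrE := hPE hrP
      have hrn : zpowers r ≤ normalizer (theta Ps e : Set G) :=
        (zpowers_le.2 hrE).trans (h.le_normalizer_theta (hH he))
      obtain ⟨d, hd, t, ht, rfl⟩ := CoprimeAct.exists_commutator_mul hrn
        ((ea_cop hA (zpowers_le.2 hrE) (ocen_coprime e)).coprime_dvd_right
          (card_dvd_of_le (theta_le_ocen e)))
        (Or.inl (ea_solvable hA (zpowers_le.2 hrE))) hxθ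
      rw [← conj_mul]
      have hkr : k * r * k⁻¹ = r := by
        rw [← mem_centralizer_iff.1 hk r hrH, mul_inv_cancel_right]
      refine mul_mem (mem_sup_left ?_) ?_
      · have hmap : k * d * k⁻¹ ∈ (⁅theta Ps e, zpowers r⁆).map (MulAut.conj k).toMonoidHom :=
          mem_map_of_mem _ hd
        rw [Subgroup.map_commutator] at hmap
        refine commutator_mono ?_ ?_ hmap
        · rintro _ ⟨y, hy, rfl⟩
          exact (mem_normalizer_iff.1 ((core_props e).2.1 hke) y).1 (theta_le_ocen e hy)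
        · rw [MonoidHom.map_zpowers, zpowers_le]
          show k * r * k⁻¹ ∈ _
          rwa [hkr]
      · refine h.inf_le_factor P.2 (hH he) hrP (mem_inf.2
          ⟨(mem_normalizer_iff.1 ((core_props e).2.1 hke) t).1 (theta_le_ocen e ht.1), ?_⟩)
        have htW : t ∈ W := ((hmeet e (hH he) he1).ge ht.1).1
        have htr : t ∈ cen r := mem_centralizer_singleton_iff.2
          (mem_centralizer_iff.1 ht.2 r (mem_zpowers r)).symm
        have htO : t ∈ ocen r := theta_le_ocen r ((hmeet r hrE hr1).le ⟨htW, htr⟩)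
        have hkcr : k ∈ cen r := mem_centralizer_singleton_iff.2 (mem_centralizer_iff.1 hk r hrH).symm
        exact (mem_normalizer_iff.1 ((core_props r).2.1 hkcr) t).1 htO
  refine ⟨W, Nat.not_even_iff_odd.1 fun he => hWodd (even_iff_two_dvd.1 he), hnorm, hmeet, hkey,
    fun a ha ha1 => ?_⟩
  refine Signalizer.le_of_hyperplane_le (p := 2) hA (by omega) (le_normalizer_ocen hA ha)
    (fun h2 => Nat.prime_two.not_dvd_one ((ocen_coprime a) ▸ Nat.dvd_gcd h2 dvd_rfl)) fun H hH hc => ?_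
  intro k hk
  refine hkey H hH (by omega) k hk.2 fun P hP => Or.inr fun hbot => ?_
  obtain ⟨u, hu, v, hv, huv⟩ : ∃ u ∈ P, ∃ v ∈ P, u ≠ 1 ∧ v ≠ 1 ∧ u ≠ v := by
    have h4 := h.four P hP
    haveI : Nontrivial P := Finite.one_lt_card_iff_nontrivial.1 (by omega)
    obtain ⟨u, hu⟩ := exists_ne (1 : P)
    obtain ⟨v, hv⟩ : ∃ v : P, v ≠ 1 ∧ v ≠ u := by
      classical
      haveI : Fintype P := Fintype.ofFinite P
      obtain ⟨v, -, hv⟩ := Finset.exists_mem_notMem_of_card_lt_card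
        (s := ({1, u} : Finset P)) (t := Finset.univ) (by
          rw [Finset.card_univ, ← Nat.card_eq_fintype_card]
          have := Finset.card_le_two (a := (1 : P)) (b := u)
          omega)
      simp only [Finset.mem_insert, Finset.mem_singleton, not_or] at hv
      exact ⟨v, hv⟩
    exact ⟨u, u.2, v, v.2, fun e => hu (Subtype.ext e), fun e => hv.1 (Subtype.ext e),
      fun e => hv.2 (Subtype.ext e.symm)⟩
  obtain ⟨hu1, hv1, hne⟩ := huv
  have hnH : ∀ y ∈ P, y ≠ 1 → y ∉ H := fun y hy hy1 hyH =>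
    hy1 (Subgroup.mem_bot.1 (hbot ▸ Subgroup.mem_inf.2 ⟨hyH, hy⟩))
  have huvH := Walter4.mul_mem_hyperplane hH hc (h.le P hP hu) (hnH u hu hu1) (h.le P hP hv) (hnH v hv hv1)
  refine hnH _ (mul_mem hu hv) (fun e => hne ?_) huvH
  calc u = u * (v * v) := by rw [← pow_two, ea_sq hA (h.le P hP hv), mul_one]
    _ = v := by rw [← mul_assoc, e, one_mul]

end Cfsg.Agent.Gold1169
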