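import Cfsg.Agent.Lib.Gold1169.Base
import Cfsg.Agent.Lib.Walter4.KindProof
import Cfsg.Agent.S4593

/-!
The facts on a simple group with abelian Sylow 2-subgroups: the Sylow subgroup `T` is elementary, its
automiser is odd and normalises the regular cyclic group.
-/

set_option autoImplicit false
set_option linter.style.haveILetI false
set_option linter.unusedSectionVars false

namespace Cfsg.Agent.Gold1169.KindPf

open Subgroup

universe u

variable {K : Type u} [Group K] [Finite K]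

/-- In `PSL₂` of even characteristic the centraliser of an involution has exponent two. -/
theorem sq_of_commute_psl_even {F : Type} [Field F] [Fintype F] {n : ℕ} (hn : 2 ≤ n)
    (hq : Fintype.card F = 2 ^ n) (f : K ≃* Matrix.ProjectiveSpecialLinearGroup (Fin 2) F) {x y : K}
    (hx : x * x = 1) (hx1 : x ≠ 1) (hxy : y * x = x * y) : y * y = 1 := by
  have h2 : (2 : F) = 0 := by
    have h1 : ((Fintype.card F : ℕ) : F) = 0 := Nat.cast_card_eq_zero F
    rw [hq, Nat.cast_pow, Nat.cast_ofNat] at h1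
    exact (pow_eq_zero_iff (by omega)).1 h1
  have hsqinj : ∀ a b : F, a * a = b * b → a = b := by
    intro a b hab
    have h1 : (a - b) * (a - b) = 0 := by linear_combination hab + (b * b - a * b) * h2
    exact sub_eq_zero.1 (mul_self_eq_zero.1 h1)
  have hcen : Subgroup.center (Matrix.SpecialLinearGroup (Fin 2) F) = ⊥ := by
    refine (eq_bot_iff_forall _).2 fun A hA => ?_
    obtain ⟨r, hr, hrA⟩ := Matrix.SpecialLinearGroup.mem_center_iff.1 hA
    rw [Fintype.card_fin] at hr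
    exact Subtype.ext (by rw [← hrA, hsqinj r 1 (by rw [← pow_two, hr, one_mul]), map_one]; rfl)
  set pr := QuotientGroup.mk' (Subgroup.center (Matrix.SpecialLinearGroup (Fin 2) F)) with hpr
  have hprinj : Function.Injective pr := by
    rw [← MonoidHom.ker_eq_bot_iff, hpr, QuotientGroup.ker_mk', hcen]
  obtain ⟨A, hA⟩ := QuotientGroup.mk'_surjective _ (f x)
  obtain ⟨B, hB⟩ := QuotientGroup.mk'_surjective _ (f y)
  rw [← hpr] at hA hB
  have hA2 : A * A = 1 := hprinj (by rw [map_mul, hA, ← map_mul, hx, map_one, map_one])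
  have hA1 : A ≠ 1 := fun h => hx1 (f.injective (by rw [← hA, h, map_one, map_one]))
  have hAB : B * A = A * B := hprinj (by rw [map_mul, map_mul, hA, hB, ← map_mul, hxy, map_mul])
  suffices h : B * B = 1 by
    refine f.injective ?_
    rw [map_mul, ← hB, ← map_mul, h, map_one, map_one]
  have hdA := A.2
  have hdB := B.2
  rw [Matrix.det_fin_two] at hdA hdB
  have hm := congrArg Subtype.val hAB
  have hs := congrArg Subtype.val hA2
  rw [Matrix.SpecialLinearGroup.coe_mul, Matrix.SpecialLinearGroup.coe_mul] at hm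
  rw [Matrix.SpecialLinearGroup.coe_mul, Matrix.SpecialLinearGroup.coe_one] at hs
  have a00 := congrFun (congrFun hs 0) 0
  have a01 := congrFun (congrFun hs 0) 1
  have a10 := congrFun (congrFun hs 1) 0
  have e00 := congrFun (congrFun hm 0) 0
  have e01 := congrFun (congrFun hm 0) 1
  have e10 := congrFun (congrFun hm 1) 0
  simp [Matrix.mul_apply, Fin.sum_univ_two] at a00 a01 a10 e00 e01 e10
  -- the trace of `A` is zero
  have had : A.1 0 0 = A.1 1 1 := by
    refine hsqinj _ _ ?_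
    have h1 : A.1 0 0 * (A.1 0 0 + A.1 1 1) = 0 := by linear_combination a00 + hdA + h2
    have h3 : A.1 0 1 * (A.1 0 0 + A.1 1 1) = 0 := by linear_combination a01
    have h4 : A.1 1 0 * (A.1 0 0 + A.1 1 1) = 0 := by linear_combination a10
    by_cases ht : A.1 0 0 + A.1 1 1 = 0
    · linear_combination (A.1 0 0 - A.1 1 1) * ht
    exfalso
    have e1 := (mul_eq_zero.1 h1).resolve_right ht
    have e2 := (mul_eq_zero.1 h3).resolve_right ht
    rw [e1, e2] at a00
    simp at a00
  have hbc : A.1 0 1 ≠ 0 ∨ A.1 1 0 ≠ 0 := by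
    by_contra hno
    push Not at hno
    refine hA1 (Subtype.ext ?_)
    have h1 : A.1 0 0 = 1 := hsqinj _ 1 (by rw [hno.1, hno.2] at a00; linear_combination a00)
    rw [Matrix.SpecialLinearGroup.coe_one, Matrix.eta_fin_two A.1, hno.1, hno.2, ← had, h1,
      Matrix.one_fin_two]
  have hps : B.1 0 0 = B.1 1 1 := by
    rcases hbc with h | h
    · refine mul_left_cancel₀ h ?_
      linear_combination e01 + B.1 0 1 * had
    · refine mul_left_cancel₀ h ?_
      linear_combination -e10 + B.1 1 0 * had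
  refine Subtype.ext ?_
  rw [Matrix.SpecialLinearGroup.coe_mul, Matrix.SpecialLinearGroup.coe_one]
  ext i j
  fin_cases i <;> fin_cases j <;> simp [Matrix.mul_apply, Fin.sum_univ_two]
  · linear_combination hdB + B.1 0 0 * hps + B.1 0 1 * B.1 1 0 * h2
  · linear_combination B.1 0 1 * B.1 1 1 * h2 + B.1 0 1 * hps
  · linear_combination B.1 1 0 * B.1 1 1 * h2 + B.1 1 0 * hps
  · linear_combination hdB - B.1 1 1 * hps + B.1 0 1 * B.1 1 0 * h2

variable (T : Sylow 2 K)

/-- A simple group with elementary abelian Sylow 2-subgroup `T` and a cyclic group regular on `T#`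
normalised by the automiser. -/
theorem facts_elementary [IsSimpleGroup K] (hnc : ¬ IsMulCommutative K)
    (hsq : ∀ x ∈ (T : Subgroup K), x * x = 1) (h4 : 4 ≤ Nat.card (T : Subgroup K))
    {h : K} (hh : h ∈ normalizer ((T : Subgroup K) : Set K))
    (htr : ∀ x ∈ (T : Subgroup K), x ≠ 1 → ∀ y ∈ (T : Subgroup K), y ≠ 1 →
      ∃ i : ℕ, h ^ i * x * (h ^ i)⁻¹ = y)
    (hfree : ∀ i : ℕ, ∀ x ∈ (T : Subgroup K), x ≠ 1 → h ^ i * x * (h ^ i)⁻¹ = x →
      ∀ y ∈ (T : Subgroup K), h ^ i * y * (h ^ i)⁻¹ = y)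
    (hnorm : ∀ g : normalizer ((T : Subgroup K) : Set K), ∃ i : ℕ,
      (T : Subgroup K).normalizerMonoidHom (g * ⟨h, hh⟩ * g⁻¹) =
        (T : Subgroup K).normalizerMonoidHom ⟨h, hh⟩ ^ i) :
    ∃ P : Subgroup K, Facts K T P := by
  classical
  haveI : Fact (Nat.Prime 2) := ⟨Nat.prime_two⟩
  have hcomm : ∀ x ∈ (T : Subgroup K), ∀ y ∈ (T : Subgroup K), x * y = y * x := fun x hx y hy =>
    Walter4.KindPf.comm_of_sq hsq hx hy
  have hc1 := Walter4.KindPf.conj_eq_one hnc
  set π := (T : Subgroup K).normalizerMonoidHom with hπ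
  have happ : ∀ (g : (normalizer ((T : Subgroup K) : Set K))) (x : (T : Subgroup K)), ((π g x : (T : Subgroup K)) : K) = g * x * (g : K)⁻¹ :=
    fun g x => rfl
  -- the automiser is odd
  have hCodd : Odd π.ker.index := by
    rw [← Nat.not_even_iff_odd, even_iff_two_dvd]
    intro hd
    refine (T.subtype (le_normalizer : (T : Subgroup K) ≤ (normalizer ((T : Subgroup K) : Set K)))).not_dvd_index (hd.trans (index_dvd_of_le ?_))
    rw [Sylow.coe_subtype]
    intro g hg
    rw [MonoidHom.mem_ker]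
    refine MulEquiv.ext fun x => Subtype.ext ?_
    rw [happ, hcomm _ (mem_subgroupOf.1 hg) _ x.2, mul_inv_cancel_right]
    rfl
  set n := π.ker.index with hndef
  have hkill : ∀ g : (normalizer ((T : Subgroup K) : Set K)), π g ^ n = 1 := fun g => by
    rw [hndef, index_ker]
    exact congrArg Subtype.val (pow_card_eq_one' (x := (⟨π g, g, rfl⟩ : π.range)))
  have hπapply : ∀ (g : (normalizer ((T : Subgroup K) : Set K))) (x : K) (hx : x ∈ (T : Subgroup K)) (a : MulAut (T : Subgroup K)),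
      π g = a → (g : K) * x * (g : K)⁻¹ = ((a ⟨x, hx⟩ : (T : Subgroup K)) : K) := by
    rintro g x hx a rfl
    exact (happ g ⟨x, hx⟩).symm
  -- a power of odd order
  obtain ⟨k, m, hm, hkm⟩ := Nat.exists_eq_two_pow_mul_odd (orderOf_pos h).ne'
  set h' := h ^ 2 ^ k with hh'
  have hh'N : h' ∈ (normalizer ((T : Subgroup K) : Set K)) := pow_mem hh _
  have hodd' : Odd (orderOf h') := hm.of_dvd_nat (orderOf_dvd_of_pow_eq_one (by
    rw [hh', ← pow_mul, ← hkm, pow_orderOf_eq_one]))
  have hπh' : ∀ i : ℕ, π (⟨h', hh'N⟩ ^ i) = π ⟨h, hh⟩ ^ (2 ^ k * i) := fun i => by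
    rw [pow_mul, ← map_pow π ⟨h, hh⟩ (2 ^ k), ← map_pow]
    congr 1
  obtain ⟨b, hb⟩ := hCodd
  have hone : ∀ k : ℕ, ∃ c, (2 * (b + 1)) ^ k = n * c + 1 := fun k => by
    induction k with
    | zero => exact ⟨0, by simp⟩
    | succ k ih =>
      obtain ⟨c, hc⟩ := ih
      exact ⟨c * n + c + 1, by rw [pow_succ, hc, hb]; ring⟩
  obtain ⟨c, hc⟩ := hone k
  have hback : ∀ i : ℕ, π ⟨h, hh⟩ ^ (2 ^ k * ((b + 1) ^ k * i)) = π ⟨h, hh⟩ ^ i := fun i => by
    rw [← mul_assoc, ← mul_pow, hc, add_mul, one_mul, mul_assoc, pow_add, pow_mul, hkill, one_pow, one_mul]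
  have hcoe : ∀ i : ℕ, (((⟨h', hh'N⟩ : (normalizer ((T : Subgroup K) : Set K))) ^ i : (normalizer ((T : Subgroup K) : Set K))) : K) = h' ^ i := fun i => SubmonoidClass.coe_pow _ i
  refine ⟨T,
    { le := le_rfl
      mem_iff := fun x hx => ⟨fun _ => hx, fun _ => hsq x hx⟩
      comm := hcomm
      four := h4
      reg := ⟨h', hh'N, hodd', ?_, ?_, ?_⟩
      inner := ?_
      sol := ?_
      vee := Or.inl rfl }⟩
  · intro x hx hx1 y hy hy1
    obtain ⟨i, hi⟩ := htr x hx hx1 y hy hy1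
    refine ⟨(b + 1) ^ k * i, ?_⟩
    rw [← hcoe, hπapply _ x hx _ ((hπh' _).trans (hback i)), ← map_pow, happ, SubmonoidClass.coe_pow]
    exact hi
  · intro i x hx hx1 hfix y hy
    rw [hh', ← pow_mul] at hfix ⊢
    exact hfree _ x hx hx1 hfix y hy
  · intro g hg
    refine ⟨⟨n, ⟨b, hb⟩, fun x hx => ?_⟩, ?_⟩
    · rw [show g ^ n = (((⟨g, hg⟩ : (normalizer ((T : Subgroup K) : Set K))) ^ n : (normalizer ((T : Subgroup K) : Set K))) : K) by simp,
        hπapply _ x hx 1 ((map_pow π _ n).trans (hkill ⟨g, hg⟩))]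
      rfl
    · obtain ⟨i, hi⟩ := hnorm ⟨g, hg⟩
      refine ⟨i, fun x hx => ?_⟩
      have h1 : π (⟨g, hg⟩ * ⟨h', hh'N⟩ * ⟨g, hg⟩⁻¹) = π (⟨h', hh'N⟩ ^ i) := by
        rw [hπh', mul_comm, pow_mul, ← hi, ← map_pow, conj_pow]
        rfl
      rw [← hcoe, show g * h' * g⁻¹ = ((⟨g, hg⟩ * ⟨h', hh'N⟩ * ⟨g, hg⟩⁻¹ : (normalizer ((T : Subgroup K) : Set K))) : K) from rfl,
        hπapply _ x hx _ rfl, hπapply _ x hx _ rfl, h1]
  · -- automorphisms fixing `T`
    intro φ hφ hfix _
    have hne2 : 2 ∣ Nat.card K := by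
      obtain ⟨j, hj⟩ := IsPGroup.iff_card.1 T.2
      refine dvd_trans ?_ (card_subgroup_dvd_card (T : Subgroup K))
      rw [hj]
      refine dvd_pow_self 2 fun h0 => ?_
      rw [hj, h0] at h4; omega
    have hZ : center K = ⊥ := (IsSimpleGroup.eq_bot_or_eq_top_of_normal (center K) inferInstance).resolve_right
      fun ht => hnc ⟨⟨fun a b => mem_center_iff.1 (ht ▸ mem_top b) a⟩⟩
    have hcore : Cfsg.pPrimeCore 2 K = ⊥ := by
      have hn := FittingCores.pPrimeCore_normal (G := K) 2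
      refine (IsSimpleGroup.eq_bot_or_eq_top_of_normal _ hn).resolve_right fun ht => ?_
      have := SEBrick.oddCore_odd (G := K)
      rw [show Cfsg.oddCore K = ⊤ from ht, card_top] at this
      exact Nat.not_even_iff_odd.2 this (even_iff_two_dvd.2 hne2)
    haveI hTc : IsMulCommutative (T : Subgroup K) :=
      ⟨⟨fun a b => Subtype.ext (hcomm _ a.2 _ b.2)⟩⟩
    obtain ⟨j, -, hj⟩ := (Nat.dvd_prime_pow Nat.prime_two (m := 1)).1
      (orderOf_dvd_of_pow_eq_one (by rw [pow_one, pow_two]; exact hφ) : orderOf φ ∣ 2 ^ 1)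
    obtain ⟨g, hg⟩ := S4593.result hZ hcore T hTc φ ⟨j, hj⟩ hfix
    have hφg : φ = MulAut.conj g := MulEquiv.ext fun y => (hg y).trans (MulAut.conj_apply g y).symm
    have hg2 : g * g = 1 := hc1 _ (by rw [map_mul, ← hφg, hφ])
    have hgT : ∀ x ∈ (T : Subgroup K), g * x * g⁻¹ = x := fun x hx => (hg x).symm.trans (hfix x hx)
    refine ⟨g, ?_, hφg⟩
    by_cases hg1 : g = 1
    · rw [hg1]; exact one_mem _
    have hp : IsPGroup 2 (zpowers g : Subgroup K) :=
      IsPGroup.of_card (n := 1) (by rw [Nat.card_zpowers, Invol.order_two_of_sq hg2 hg1, pow_one])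
    have heq : (T : Subgroup K) ⊔ zpowers g = T := T.is_maximal' (T.2.to_sup_of_normal_left' hp
      (zpowers_le.2 (SEBrick.mem_normalizer_of fun x hx => by rw [hgT x hx]; exact hx))) le_sup_left
    exact heq ▸ mem_sup_right (mem_zpowers g)
  · -- the centraliser of `T`
    set C := centralizer ((T : Subgroup K) : Set K) with hC
    have hTC : (T : Subgroup K) ≤ C := fun x hx =>
      mem_centralizer_iff.2 fun y hy => hcomm y hy x hx
    haveI : ((T : Subgroup K).subgroupOf C).Normal := ⟨fun x hx g => by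
      rw [mem_subgroupOf] at hx ⊢
      push_cast
      rw [← (mem_centralizer_iff.1 g.2 _ hx), mul_inv_cancel_right]
      exact hx⟩
    have hidx : Odd ((T : Subgroup K).subgroupOf C).index := by
      rw [← Nat.not_even_iff_odd, even_iff_two_dvd]
      have := (T.subtype hTC).not_dvd_index
      rwa [Sylow.coe_subtype] at this
    haveI : Group.IsSolvable (C ⧸ (T : Subgroup K).subgroupOf C) := OddChar.oddSolvable _ hidx
    haveI : Group.IsNilpotent ((T : Subgroup K).subgroupOf C) :=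
      (T.2.of_equiv (subgroupOfEquivOfLe hTC).symm).isNilpotent
    exact Group.isSolvable_of_ker_le_range ((T : Subgroup K).subgroupOf C).subtype
      (QuotientGroup.mk' ((T : Subgroup K).subgroupOf C)) (by simp)

/-- If `T` has four or eight elements a regular cyclic group is normal in the automiser. -/
theorem norm_small (hsq : ∀ x ∈ (T : Subgroup K), x * x = 1)
    {ℓ : ℕ} (hℓ : ℓ.Prime) (hℓ7 : ℓ ≤ 7) (hcard : Nat.card (T : Subgroup K) = ℓ + 1)
    {h : K} (hh : h ∈ normalizer ((T : Subgroup K) : Set K))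
    (htr : ∀ x ∈ (T : Subgroup K), x ≠ 1 → ∀ y ∈ (T : Subgroup K), y ≠ 1 →
      ∃ i : ℕ, h ^ i * x * (h ^ i)⁻¹ = y)
    (hfree : ∀ i : ℕ, ∀ x ∈ (T : Subgroup K), x ≠ 1 → h ^ i * x * (h ^ i)⁻¹ = x →
      ∀ y ∈ (T : Subgroup K), h ^ i * y * (h ^ i)⁻¹ = y)
    (g : normalizer ((T : Subgroup K) : Set K)) : ∃ i : ℕ,
      (T : Subgroup K).normalizerMonoidHom (g * ⟨h, hh⟩ * g⁻¹) =
        (T : Subgroup K).normalizerMonoidHom ⟨h, hh⟩ ^ i := by
  classical
  haveI : Fact (Nat.Prime 2) := ⟨Nat.prime_two⟩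
  set π := (T : Subgroup K).normalizerMonoidHom with hπ
  have hℓ2 := hℓ.two_le
  have happ : ∀ (g : (normalizer ((T : Subgroup K) : Set K))) (x : (T : Subgroup K)), ((π g x : (T : Subgroup K)) : K) = g * x * (g : K)⁻¹ :=
    fun g x => rfl
  set R := π.range with hR
  have hRodd : Odd (Nat.card R) := by
    rw [hR, ← index_ker, ← Nat.not_even_iff_odd, even_iff_two_dvd]
    intro hd
    refine (T.subtype (le_normalizer : (T : Subgroup K) ≤ (normalizer ((T : Subgroup K) : Set K)))).not_dvd_index (hd.trans (index_dvd_of_le ?_))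
    rw [Sylow.coe_subtype]
    intro g hg
    rw [MonoidHom.mem_ker]
    refine MulEquiv.ext fun x => Subtype.ext ?_
    rw [happ, Walter4.KindPf.comm_of_sq hsq (mem_subgroupOf.1 hg) x.2, mul_inv_cancel_right]
    rfl
  haveI := Fintype.ofFinite ↥(T : Subgroup K)
  let X := {y : (T : Subgroup K) // y ≠ 1}
  haveI : Fintype X := inferInstance
  have hX : Fintype.card X = ℓ := by
    rw [Fintype.card_subtype_compl, Fintype.card_subtype_eq, ← Nat.card_eq_fintype_card, hcard]; omega
  obtain ⟨x₀, y₀, hxy⟩ : ∃ x₀ y₀ : X, x₀ ≠ y₀ := Fintype.exists_pair_of_one_lt_card (by omega)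
  let act : MulAut (T : Subgroup K) → X → X := fun r y => ⟨r y.1, fun e =>
    y.2 (r.injective (e.trans (map_one r).symm))⟩
  -- two points determine an element
  have hinj : ∀ r ∈ R, r x₀.1 = x₀.1 → r y₀.1 = y₀.1 → r = 1 := by
    intro r hr h1 h3
    have hro : Odd (orderOf r) := hRodd.of_dvd_nat (Subgroup.orderOf_dvd_natCard _ hr)
    set F : Subgroup (T : Subgroup K) :=
      { carrier := {v | r v = v}
        one_mem' := map_one r
        mul_mem' := fun {u v} (hu : r u = u) (hv : r v = v) => show r (u * v) = u * v by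
          rw [map_mul, hu, hv]
        inv_mem' := fun {u} (hu : r u = u) => show r u⁻¹ = u⁻¹ by rw [map_inv, hu] } with hF
    have hmul : x₀.1 * y₀.1 ≠ 1 := fun e => hxy (Subtype.ext (by
      have hsq' : x₀.1 * x₀.1 = 1 := Subtype.ext (hsq _ x₀.1.2)
      exact mul_left_cancel (hsq'.trans e.symm)))
    have h4 : 4 ≤ Nat.card F := by
      have hsub : ({1, x₀.1, y₀.1, x₀.1 * y₀.1} : Set (T : Subgroup K)) ⊆ F := by
        rintro v (rfl | rfl | rfl | rfl)
        exacts [map_one r, h1, h3, F.mul_mem h1 h3]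
      have hc4 : ({1, x₀.1, y₀.1, x₀.1 * y₀.1} : Set (T : Subgroup K)).ncard = 4 := by
        have hne : x₀.1 ≠ y₀.1 := fun e => hxy (Subtype.ext e)
        rw [Set.ncard_insert_of_notMem (by simp [Ne.symm x₀.2, Ne.symm y₀.2, Ne.symm hmul]),
          Set.ncard_insert_of_notMem (by simp [hne, y₀.2]), Set.ncard_pair (by simp [x₀.2])]
      have := Set.ncard_le_ncard hsub (Set.toFinite _)
      rw [hc4, ← Nat.card_coe_set_eq] at this
      exact this
    refine MulEquiv.ext fun v => ?_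
    rw [MulAut.one_apply]
    by_contra hv
    have hidx : F.index = 2 := by
      have h5 := F.card_mul_index
      rw [hcard] at h5
      have h6 : F.index ≤ 2 := by nlinarith
      have h7 : F.index ≠ 1 := fun e => hv (show v ∈ F from index_eq_one.1 e ▸ mem_top v)
      have h8 := F.index_ne_zero_of_finite
      omega
    have hw : r v * v⁻¹ ∈ F := by
      rw [Subgroup.mul_mem_iff_of_index_two hidx]
      refine ⟨fun h => absurd ?_ hv, fun h => absurd (inv_inv v ▸ F.inv_mem h) hv⟩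
      exact r.injective h
    have hm : ∀ i : ℕ, (r ^ i) v = (r v * v⁻¹) ^ i * v := by
      intro i
      induction i with
      | zero => simp
      | succ i ih =>
        rw [pow_succ' r i, MulAut.mul_apply, ih, map_mul, map_pow, show r (r v * v⁻¹) = r v * v⁻¹ from hw,
          pow_succ (r v * v⁻¹) i, mul_assoc ((r v * v⁻¹) ^ i), inv_mul_cancel_right]
    have h5 := hm (orderOf r)
    rw [pow_orderOf_eq_one, MulAut.one_apply, right_eq_mul] at h5
    obtain ⟨b, hb⟩ := hro
    rw [hb, pow_succ, pow_mul, pow_two, show r v * v⁻¹ * (r v * v⁻¹) = 1 from Subtype.ext (hsq _ (SetLike.coe_mem _)),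
      one_pow, one_mul, mul_inv_eq_one] at h5
    exact hv h5
  -- the regular group
  set hb := π ⟨h, hh⟩ with hhb
  have hbapp : ∀ (i : ℕ) (x : (T : Subgroup K)), (((hb ^ i) x : (T : Subgroup K)) : K) = h ^ i * x * (h ^ i)⁻¹ :=
    fun i x => by rw [hhb, ← map_pow, happ, SubmonoidClass.coe_pow]
  have hord : Nat.card (zpowers hb) = ℓ := by
    rw [← hX, ← Nat.card_eq_fintype_card]
    refine Nat.card_eq_of_bijective (fun r => act r x₀) ⟨?_, ?_⟩
    · rintro ⟨r, hr⟩ ⟨r', hr'⟩ he
      obtain ⟨i, hi⟩ := mem_powers_iff_mem_zpowers.2 (mul_mem (inv_mem hr') hr)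
      refine Subtype.ext (inv_mul_eq_one.1 ?_).symm
      show r'⁻¹ * r = 1
      rw [← show hb ^ i = r'⁻¹ * r from hi]
      have h1 : (hb ^ i) x₀.1 = x₀.1 := by
        rw [show hb ^ i = r'⁻¹ * r from hi, MulAut.mul_apply,
          show r x₀.1 = r' x₀.1 from congrArg Subtype.val he, MulAut.inv_apply_self]
      refine MulEquiv.ext fun y => Subtype.ext ?_
      rw [hbapp, MulAut.one_apply]
      refine hfree i _ x₀.1.2 (fun e => x₀.2 (Subtype.ext e)) ?_ _ y.2
      rw [← hbapp, h1]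
    · intro y
      obtain ⟨i, hi⟩ := htr _ x₀.1.2 (fun e => x₀.2 (Subtype.ext e)) _ y.1.2 (fun e => y.2 (Subtype.ext e))
      exact ⟨⟨hb ^ i, npow_mem_zpowers hb i⟩, Subtype.ext (Subtype.ext ((hbapp i _).trans hi))⟩
  set cb := π (g * ⟨h, hh⟩ * g⁻¹) with hcb
  have hcbc : cb = π g * hb * (π g)⁻¹ := by rw [hcb, map_mul, map_mul, map_inv]
  have hcord : Nat.card (zpowers cb) = ℓ := by
    rw [Nat.card_zpowers, hcbc, Invol.order_conj, ← Nat.card_zpowers, hord]
  suffices hmem : cb ∈ zpowers hb by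
    obtain ⟨i, hi⟩ := mem_powers_iff_mem_zpowers.2 hmem
    exact ⟨i, (show hb ^ i = cb from hi).symm⟩
  by_contra hno
  have hinf : zpowers hb ⊓ zpowers cb = ⊥ := by
    have h1 := card_dvd_of_le (inf_le_right : zpowers hb ⊓ zpowers cb ≤ zpowers cb)
    rw [hcord] at h1
    rcases (Nat.dvd_prime hℓ).1 h1 with h1 | h1
    · exact eq_bot_of_card_eq _ h1
    · exact absurd ((eq_of_le_of_card_ge inf_le_right (by rw [h1, hcord])).ge (mem_zpowers cb)).1 hno
  let f : zpowers hb × zpowers cb → Σ p : X, {q : X // q ≠ p} := fun p =>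
    ⟨act (p.1.1 * p.2.1) x₀, act (p.1.1 * p.2.1) y₀, fun e => hxy (Subtype.ext
      ((p.1.1 * p.2.1).injective (congrArg Subtype.val e)).symm)⟩
  have hf : Function.Injective f := by
    rintro ⟨⟨r, hr⟩, ⟨s, hs⟩⟩ ⟨⟨r', hr'⟩, ⟨s', hs'⟩⟩ he
    have e1 : (r * s) x₀.1 = (r' * s') x₀.1 := congrArg (fun p : Σ p : X, {q : X // q ≠ p} => p.1.1) he
    have e2 : (r * s) y₀.1 = (r' * s') y₀.1 := congrArg (fun p : Σ p : X, {q : X // q ≠ p} => p.2.1.1) he
    have hRR : ∀ {u v : MulAut (T : Subgroup K)}, u ∈ zpowers hb → v ∈ zpowers cb → u * v ∈ R := fun hu hv =>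
      mul_mem ((zpowers_le.2 ⟨_, rfl⟩ : zpowers hb ≤ R) hu) ((zpowers_le.2 ⟨_, rfl⟩ : zpowers cb ≤ R) hv)
    have h1 : (r' * s')⁻¹ * (r * s) = 1 :=
      hinj _ (mul_mem (inv_mem (hRR hr' hs')) (hRR hr hs))
        (by rw [MulAut.mul_apply, e1, MulAut.inv_apply_self])
        (by rw [MulAut.mul_apply, e2, MulAut.inv_apply_self])
    rw [inv_mul_eq_one] at h1
    have h3 : r⁻¹ * r' ∈ zpowers hb ⊓ zpowers cb := mem_inf.2 ⟨mul_mem (inv_mem hr) hr', by
      rw [show r⁻¹ * r' = s * s'⁻¹ by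
        calc r⁻¹ * r' = r⁻¹ * (r' * s') * s'⁻¹ := by group
          _ = _ := by rw [h1]; group]
      exact mul_mem hs (inv_mem hs')⟩
    rw [hinf, mem_bot, inv_mul_eq_one] at h3
    subst h3
    rw [mul_left_cancel_iff] at h1
    subst h1
    rfl
  have hle := Nat.card_le_card_of_injective f hf
  rw [Nat.card_prod, hord, hcord, Nat.card_sigma] at hle
  have hq : ∀ p : X, Nat.card {q : X // q ≠ p} = ℓ - 1 := fun p => by
    rw [Nat.card_eq_fintype_card, Fintype.card_subtype_compl, Fintype.card_subtype_eq, hX]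
  simp only [hq, Finset.sum_const, Finset.card_univ, hX, smul_eq_mul] at hle
  have := Nat.le_of_mul_le_mul_left hle hℓ.pos
  omega

/-- The facts in a simple group with abelian Sylow 2-subgroups. -/
theorem facts_good (hsimp : IsSimpleGroup K) (hnc : ¬ IsMulCommutative K) (hG : Walter4.Good K) :
    ∃ P : Subgroup K, Facts K T P := by
  classical
  haveI : Fact (Nat.Prime 2) := ⟨Nat.prime_two⟩
  obtain ⟨hsq, h4, ⟨h, hh, htr, hfree⟩, -⟩ := Walter4.kindStmt K hsimp hG T
  refine facts_elementary T hnc hsq h4 hh htr hfree ?_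
  rcases hG with ⟨F, _, _, hq, ⟨f⟩⟩ | ⟨-, S, hE, -, -⟩
  · rcases hq with ⟨h8, -⟩ | ⟨n, hn, hq⟩
    · obtain ⟨m, hm, hcL, -⟩ := Walter4.KindPf.card_psl h8
      refine norm_small T hsq Nat.prime_three (by norm_num) ?_ hh htr hfree
      have h1 := (T : Subgroup K).card_mul_index
      rw [Nat.card_congr f.toEquiv, hcL] at h1
      obtain ⟨j, hj⟩ := IsPGroup.iff_card.1 T.2
      have h2 : Nat.card (T : Subgroup K) ∣ 4 := by
        refine Nat.Coprime.dvd_of_dvd_mul_right ?_ ⟨_, h1.symm⟩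
        rw [hj]
        exact (Nat.coprime_two_left.2 hm).pow_left j
      have := Nat.le_of_dvd (by norm_num) h2
      omega
    · intro g
      obtain ⟨x, hx, hx1, -⟩ := Walter4.KindPf.two_le_of_four h4 1
      obtain ⟨i, hi⟩ := htr x hx hx1 _ (SEBrick.conj_mem_of g.2 hx) fun e => hx1 (conj_eq_one_iff.1 e)
      refine ⟨1, ?_⟩
      set π := (T : Subgroup K).normalizerMonoidHom with hπ
      set c : (normalizer ((T : Subgroup K) : Set K)) := (⟨h, hh⟩ ^ i)⁻¹ * g with hc
      have hcx : (c : K) * x = x * c := by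
        rw [hc]; push_cast
        calc (h ^ i)⁻¹ * g * x = (h ^ i)⁻¹ * ((g : K) * x * (g : K)⁻¹) * g := by group
          _ = x * ((h ^ i)⁻¹ * g) := by rw [← hi]; group
      have hC : centralizer ({x} : Set K) = T := T.is_maximal' (fun y => ⟨1, Subtype.ext (by
          rw [pow_one, pow_two]
          exact sq_of_commute_psl_even hn hq f (hsq x hx) hx1 (mem_centralizer_singleton_iff.1 y.2))⟩)
        fun y hy => mem_centralizer_singleton_iff.2 (Walter4.KindPf.comm_of_sq hsq hy hx)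
      have hcT : (c : K) ∈ (T : Subgroup K) := hC.le (mem_centralizer_singleton_iff.2 hcx)
      have hc1 : π c = 1 := MulEquiv.ext fun y => Subtype.ext (by
        show (c : K) * y * (c : K)⁻¹ = y
        rw [Walter4.KindPf.comm_of_sq hsq hcT y.2, mul_inv_cancel_right])
      have hg : π g = π ⟨h, hh⟩ ^ i := by
        rw [hc, map_mul, map_inv, map_pow, inv_mul_eq_one] at hc1
        exact hc1.symm
      rw [pow_one, map_mul, map_mul, map_inv, hg, ← pow_succ, pow_succ', mul_inv_cancel_right]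
  · refine norm_small T hsq (show (7 : ℕ).Prime by norm_num) le_rfl ?_ hh htr hfree
    obtain ⟨g, hg⟩ := Walter4.KindPf.exists_conj_sylow T S.2 S.not_dvd_index
    rw [Nat.card_congr ((MulAut.conj g).toEquiv.subtypeEquiv fun x => hg x), hE.card]

end Cfsg.Agent.Gold1169.KindPf
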