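import Cfsg.Agent.Lib.Gold1169.KindSE
import Cfsg.Agent.Lib.Gold1169.KindGood

/-!
The facts on the known simple groups (`KindStmt`).
-/

set_option autoImplicit false

namespace Cfsg.Agent.Gold1169

universe u

/-- The facts hold with abelian Sylow 2-subgroups or a strongly embedded subgroup. -/
theorem kindStmt : KindStmt.{u} := by
  intro K _ _ hsimp hnc hK T
  haveI := hsimp
  rcases hK with hG | ⟨H, hH⟩
  · exact KindPf.facts_good T hsimp hnc hG
  · exact facts_se K hH T

end Cfsg.Agent.Gold1169
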