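import Cfsg.Agent.Lib.Gold1169.KindTools
import Cfsg.Agent.Lib.SEMain.Bender
import Cfsg.Agent.Lib.SEMain.Proof
import Cfsg.Agent.Lib.SEMain.Points

/-!
The facts on a simple group with a strongly embedded subgroup.
-/

set_option autoImplicit false
set_option linter.style.haveILetI false
set_option linter.unusedSectionVars false

namespace Cfsg.Agent.Gold1169.KindPf

open MulAction
open Cfsg.Agent.RankOne
open scoped Pointwise

universe u

variable {G : Type u} {Ω : Type u} [Group G] [MulAction G Ω] {a : Ω} {t : G} {Q : Subgroup G}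
variable [Finite G] [FaithfulSMul G Ω] (hS : Cfsg.IsRankOneSetup G Ω a t Q)
  (h2 : ∃ x y : G, x ≠ 1 ∧ y ≠ 1 ∧ x ≠ y ∧ x * x = 1 ∧ y * y = 1 ∧ x * y = y * x)
include hS h2

local notation "Z" => invSub hS h2

/-- An element sending an element of `P` to `P` fixes the base point. -/
theorem smul_a_of_conj {g x : G} (hx : x ∈ Z) (hx1 : x ≠ 1) (h : g * x * g⁻¹ ∈ Z) : g • a = a := by
  refine fixed_unique hS (u := g * x * g⁻¹) ?_ ?_ (smul_a_Z hS h2 h)
  · exact IsInvol.conj ⟨hx1, invSub_sq hS h2 hx⟩ g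
  · rw [mul_smul, mul_smul, inv_smul_smul, smul_a_Z hS h2 hx]

/-- An automorphism of order at most two fixing `P` and trivial on `Q ⧸ P` is inner by an element of `P`. -/
theorem inner_setup (hP : IsPGroup 2 Q) {φ : MulAut G} (hφ : φ * φ = 1) (hφZ : ∀ x ∈ Z, φ x = x)
    (hφQ : ∀ x ∈ Q, φ x * x⁻¹ ∈ Z) : ∃ p ∈ Z, φ = MulAut.conj p := by
  classical
  obtain ⟨hsq, hcm⟩ := sq_comm_mem hS h2 hP
  have hinv : ∀ g : G, φ (φ g) = g := fun g => by
    have := DFunLike.congr_fun hφ g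
    rwa [MulAut.mul_apply, MulAut.one_apply] at this
  obtain ⟨x₀, hx₀, hx₀1⟩ := exists_ne_Z hS h2
  have hφa : ∀ g : G, g • a = a → φ g • a = a := by
    intro g hg
    obtain ⟨q, hq, d, hd, rfl⟩ := exists_qd hS (mem_stabilizer_iff.2 hg)
    have hy : q * d * x₀ * (q * d)⁻¹ ∈ Z := by
      rw [show q * d * x₀ * (q * d)⁻¹ = q * (d * x₀ * d⁻¹) * q⁻¹ by group,
        ← invSub_comm hS h2 (conj_mem_invSub hS h2 hd hx₀) hq, mul_inv_cancel_right]
      exact conj_mem_invSub hS h2 hd hx₀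
    refine smul_a_of_conj hS h2 hx₀ hx₀1 ?_
    rw [show φ (q * d) * x₀ * (φ (q * d))⁻¹ = φ (q * d * x₀ * (q * d)⁻¹) by
      simp only [map_mul, map_inv, hφZ x₀ hx₀], hφZ _ hy]
    exact hy
  have hφt : φ t • a ≠ a := fun h => ta_ne hS (by
    have := hφa _ h
    rwa [hinv] at this)
  obtain ⟨u, hu, hut⟩ := exists_q_smul hS hφt
  set ψ : MulAut G := (MulAut.conj u)⁻¹ * φ with hψ
  have hψdef : ∀ g, ψ g = u⁻¹ * φ g * u := fun g => by
    rw [hψ, MulAut.mul_apply, MulAut.conj_inv_apply]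
  have hua : u • a = a := smul_a hS hu
  have hψa : ∀ g : G, g • a = a → ψ g • a = a := fun g hg => by
    rw [hψdef, mul_smul, mul_smul, hua, hφa g hg, inv_smul_eq_iff, hua]
  have hψt : ψ t • a = t • a := by
    rw [hψdef, mul_smul, mul_smul, hua, ← hut, inv_smul_smul]
  have hψZ : ∀ z ∈ Z, ψ z = z := fun z hz => by
    rw [hψdef, hφZ z hz, mul_assoc, invSub_comm hS h2 hz hu, inv_mul_cancel_left]
  have hψQ : ∀ x ∈ Q, ψ x * x⁻¹ ∈ Z := by
    intro x hx
    rw [hψdef, show u⁻¹ * φ x * u * x⁻¹ = u⁻¹ * (φ x * x⁻¹) * u * (u⁻¹ * x * u⁻¹⁻¹ * x⁻¹) by group]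
    refine mul_mem ?_ (hcm _ (inv_mem hu) _ hx)
    rw [mul_assoc, invSub_comm hS h2 (hφQ x hx) hu, inv_mul_cancel_left]
    exact hφQ x hx
  have hψD : ∀ d ∈ twoStab a t, ψ d = d := by
    intro d hd
    obtain ⟨hda, hdb⟩ := mem_twoStab hS hd
    have hb : ψ d • (t • a) = t • a := by
      have h1 : (t⁻¹ * d * t) • a = a := by rw [mul_smul, mul_smul, hdb, inv_smul_smul]
      have h3 := hψa _ h1
      rw [map_mul, map_mul, map_inv, mul_smul, mul_smul, inv_smul_eq_iff, hψt] at h3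
      exact h3
    set e := d⁻¹ * ψ d with he
    have heD : e ∈ twoStab a t := mul_mem (inv_mem hd)
      (Subgroup.mem_inf.2 ⟨mem_stabilizer_iff.2 (hψa d hda), mem_stabilizer_iff.2 hb⟩)
    have hez : ∀ z ∈ Z, e * z = z * e := by
      intro z hz
      have h1 : ψ d * z * (ψ d)⁻¹ = d * z * d⁻¹ := by
        have := hψZ _ (conj_mem_invSub hS h2 hd hz)
        rwa [map_mul, map_mul, map_inv, hψZ z hz] at this
      calc e * z = d⁻¹ * (ψ d * z * (ψ d)⁻¹) * ψ d := by rw [he]; group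
        _ = z * e := by rw [h1, he]; group
    have hex : ∀ x ∈ Q, e * x = x * e := by
      intro x hx
      refine comm_of_mod hS h2 heD hez ?_
      have hdx : d * x * d⁻¹ ∈ Q := hS.conj_mem d hda x hx
      set p := ψ x * x⁻¹ with hp
      set p' := ψ (d * x * d⁻¹) * (d * x * d⁻¹)⁻¹ with hp'
      have h1 : e * x * e⁻¹ * x⁻¹ = e * p⁻¹ * e⁻¹ * (d⁻¹ * p' * d⁻¹⁻¹) := by
        rw [hp', map_mul, map_mul, map_inv, he, hp]; group
      rw [h1, hez _ (inv_mem (hψQ x hx)), mul_inv_cancel_right]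
      exact mul_mem (inv_mem (hψQ x hx)) (conj_mem_invSub hS h2 (inv_mem hd) (hψQ _ hdx))
    have := eq_one_of_comm_Q hS h2 heD hex
    rw [he, inv_mul_eq_one] at this
    exact this.symm
  have hψH : ∀ g : G, g • a = a → ψ g = g := fun g hg => by
    obtain ⟨q, hq, d, hd, rfl⟩ := exists_qd hS (mem_stabilizer_iff.2 hg)
    rw [map_mul, fix_Q hS h2 hP hψZ hψQ hψD hq, hψD d hd]
  have hpt : ∀ g : G, ψ g • a = g • a := by
    intro g
    by_cases hg : g • a = a
    · rw [hψH g hg]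
    obtain ⟨q, hq, hqg⟩ := exists_q_smul hS hg
    have h1 : ((q * t)⁻¹ * g) • a = a := by rw [mul_smul, inv_smul_eq_iff, mul_smul, hqg]
    calc ψ g • a = ψ (q * t * ((q * t)⁻¹ * g)) • a := by rw [mul_inv_cancel_left]
      _ = g • a := by
        rw [map_mul, map_mul, hψH _ (smul_a hS hq), hψH _ h1, mul_smul, mul_smul, h1, hψt, hqg]
  have hψ1 : ψ = 1 := by
    haveI := pretransitive hS
    refine MulEquiv.ext fun g => eq_of_smul_eq_smul (α := Ω) fun p => ?_
    obtain ⟨h, rfl⟩ := MulAction.exists_smul_eq G a p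
    rw [MulAut.one_apply, ← mul_smul g h, ← hpt (g * h), map_mul, mul_smul, hpt h]
  have hφu : φ = MulAut.conj u := (inv_mul_eq_one.1 hψ1).symm
  refine ⟨u, mem_invSub_of_sq hS h2 hu ?_, hφu⟩
  -- the square of `u` is central
  have h1 : u * u ∈ Q ⊓ stabilizer G (t • a) := by
    refine Subgroup.mem_inf.2 ⟨mul_mem hu hu, mem_stabilizer_iff.2 ?_⟩
    have h3 := hinv t
    rw [hφu, MulAut.conj_apply, MulAut.conj_apply] at h3
    have h4 : u * u * t = t * (u * u) := by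
      calc u * u * t = u * (u * t * u⁻¹) * u⁻¹ * (u * u) := by group
        _ = _ := by rw [h3]
    rw [← mul_smul, h4, mul_smul, smul_a hS (mul_mem hu hu)]
  rw [hS.inf_eq_bot] at h1
  exact Subgroup.mem_bot.1 h1

/-- The facts in the split rank-one set-up. -/
theorem facts_setup (hP : IsPGroup 2 Q) (hsol : Group.IsSolvable (stabilizer G a)) (T : Sylow 2 G)
    (hT : (T : Subgroup G) = Q) : Facts G T Z := by
  classical
  obtain ⟨k₀, hk₀, hiff, hnorm, -⟩ := exists_generator hS h2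
  have hN : stabilizer G a ≤ Subgroup.normalizer (Q : Set G) :=
    SEBrick.le_normalizer_of fun g hg x hx => hS.conj_mem g hg x hx
  have htr : ∀ x ∈ Z, x ≠ 1 → ∀ y ∈ Z, y ≠ 1 → ∃ i : ℕ, k₀ ^ i * x * (k₀ ^ i)⁻¹ = y := by
    intro x hx hx1 y hy hy1
    obtain ⟨k, hk, hky⟩ := inverted_transitive hS (hx.resolve_left hx1) (hy.resolve_left hy1)
    obtain ⟨i, hi⟩ := mem_powers_iff_mem_zpowers.2 (inv_mem ((hiff k).1 hk))
    refine ⟨i, ?_⟩
    rw [show k₀ ^ i = k⁻¹ from hi, inv_inv, hky]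
  have hNP : ∀ g ∈ Subgroup.normalizer ((Z : Subgroup G) : Set G), g • a = a := fun g hg => by
    obtain ⟨x, hx, hx1⟩ := exists_ne_Z hS h2
    exact smul_a_of_conj hS h2 hx hx1 (SEBrick.conj_mem_of hg hx)
  refine
    { le := hT.symm ▸ fun x hx => invSub_le_Q hS h2 hx
      mem_iff := fun x hx => mem_Z_iff hS h2 (hT ▸ hx)
      comm := fun x hx y hy => invSub_comm hS h2 hx (invSub_le_Q hS h2 hy)
      four := four_le hS h2
      reg := ⟨k₀, ?_, RankOne.odd_orderOf hS.odd_card hk₀.1, htr, fun i x hx hx1 hfix y hy => ?_, ?_⟩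
      inner := fun φ hφ hφZ hφQ => inner_setup hS h2 hP hφ hφZ fun x hx => hφQ x (hT.symm ▸ hx)
      sol := ?_
      vee := ?_ }
  · rw [hT]; exact hN (Subgroup.mem_inf.1 hk₀.1).1
  · by_cases hy1 : y = 1
    · rw [hy1, mul_one, mul_inv_cancel]
    obtain ⟨j, rfl⟩ := htr x hx hx1 y hy hy1
    calc k₀ ^ i * (k₀ ^ j * x * (k₀ ^ j)⁻¹) * (k₀ ^ i)⁻¹ = k₀ ^ (i + j) * x * (k₀ ^ (i + j))⁻¹ := by
          rw [pow_add]; group
      _ = k₀ ^ j * (k₀ ^ i * x * (k₀ ^ i)⁻¹) * (k₀ ^ j)⁻¹ := by rw [add_comm, pow_add]; group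
      _ = _ := by rw [hfix]
  · intro g hg
    obtain ⟨q, hq, d, hd, rfl⟩ := exists_qd hS (mem_stabilizer_iff.2 (hNP g hg))
    have hact : ∀ x ∈ Z, q * d * x * (q * d)⁻¹ = d * x * d⁻¹ := fun x hx => by
      rw [show q * d * x * (q * d)⁻¹ = q * (d * x * d⁻¹) * q⁻¹ by group,
        ← invSub_comm hS h2 (conj_mem_invSub hS h2 hd hx) hq, mul_inv_cancel_right]
    constructor
    · refine ⟨orderOf d, RankOne.odd_orderOf hS.odd_card hd, fun x hx => ?_⟩
      have hm : ∀ m : ℕ, (q * d) ^ m * x * ((q * d) ^ m)⁻¹ = d ^ m * x * (d ^ m)⁻¹ := by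
        intro m
        induction m with
        | zero => simp
        | succ m ih =>
          calc (q * d) ^ (m + 1) * x * ((q * d) ^ (m + 1))⁻¹
              = q * d * ((q * d) ^ m * x * ((q * d) ^ m)⁻¹) * (q * d)⁻¹ := by
                rw [pow_succ', mul_inv_rev]; simp only [mul_assoc]
            _ = d * (d ^ m * x * (d ^ m)⁻¹) * d⁻¹ := by
                rw [ih, hact _ (conj_mem_invSub hS h2 (pow_mem hd m) hx)]
            _ = _ := by rw [pow_succ' d m]; group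
      rw [hm, pow_orderOf_eq_one, one_mul, inv_one, mul_one]
    · obtain ⟨j, hj⟩ := mem_powers_iff_mem_zpowers.2 (hnorm d hd k₀ (Subgroup.mem_zpowers k₀))
      refine ⟨j, fun x hx => ?_⟩
      have hj' : k₀ ^ j = d * k₀ * d⁻¹ := hj
      have hdk : d * k₀ * d⁻¹ ∈ twoStab a t := mul_mem (mul_mem hd hk₀.1) (inv_mem hd)
      have hx' : q⁻¹ * x * q = x := by rw [mul_assoc, invSub_comm hS h2 hx hq, inv_mul_cancel_left]
      calc q * d * k₀ * (q * d)⁻¹ * x * (q * d * k₀ * (q * d)⁻¹)⁻¹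
          = q * (d * k₀ * d⁻¹ * (q⁻¹ * x * q) * (d * k₀ * d⁻¹)⁻¹) * q⁻¹ := by group
        _ = k₀ ^ j * x * (k₀ ^ j)⁻¹ := by
          rw [hx', ← invSub_comm hS h2 (conj_mem_invSub hS h2 hdk hx) hq, mul_inv_cancel_right, hj']
  · obtain ⟨x, hx, hx1⟩ := exists_ne_Z hS h2
    haveI := hsol
    have hle : Subgroup.centralizer ((Z : Subgroup G) : Set G) ≤ stabilizer G a := fun g hg =>
      fixed_of_commute hS (z := x) ⟨hx1, invSub_sq hS h2 hx⟩ (smul_a_Z hS h2 hx)
        (Subgroup.mem_centralizer_iff.1 hg x hx)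
    exact Group.isSolvable_of_isSolvable_injective (Subgroup.inclusion_injective hle)
  · obtain ⟨hsq, hcm⟩ := sq_comm_mem hS h2 hP
    rcases cases_Q hS h2 hP with hall | ⟨-, hc | hC⟩
    · left
      rw [hT]
      exact le_antisymm hall fun x hx => invSub_le_Q hS h2 hx
    · refine Or.inr (Or.inr fun x hx y hy hxy => ?_)
      rw [hT] at hx hy
      by_cases hxZ : x ∈ Z
      · rw [invSub_sq hS h2 hxZ, eq_comm] at hxy
        exact mul_mem hxZ (inv_mem (mem_invSub_of_sq hS h2 hy hxy))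
      by_cases hyZ : y ∈ Z
      · rw [invSub_sq hS h2 hyZ] at hxy
        exact absurd (mem_invSub_of_sq hS h2 hx hxy) hxZ
      obtain ⟨k, hk, p, hp, rfl⟩ := trans_mod hS h2 hc hx hxZ hy hyZ
      have hkQ : k * x * k⁻¹ ∈ Q := hS.conj_mem k (Subgroup.mem_inf.1 hk.1).1 x hx
      have h1 : k * (x * x) * k⁻¹ = x * x := by
        refine Eq.trans ?_ hxy.symm
        calc k * (x * x) * k⁻¹ = k * x * k⁻¹ * (k * x * k⁻¹) * (p * p) := by
              rw [invSub_sq hS h2 hp]; group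
          _ = k * x * k⁻¹ * ((k * x * k⁻¹) * p) * p := by group
          _ = k * x * k⁻¹ * (p * (k * x * k⁻¹)) * p := by rw [invSub_comm hS h2 hp hkQ]
          _ = _ := by group
      have hk1 : k = 1 := by
        by_contra hk1
        have h5 : x * x ∈ Q ⊓ Subgroup.centralizer {k} := Subgroup.mem_inf.2 ⟨mul_mem hx hx,
          Subgroup.mem_centralizer_singleton_iff.2 (mul_inv_eq_iff_eq_mul.1 h1).symm⟩
        rw [inverted_fpf hS hk hk1, Subgroup.mem_bot] at h5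
        exact hxZ (mem_invSub_of_sq hS h2 hx h5)
      rw [hk1, one_mul, inv_one, mul_one, mul_inv_rev, ← mul_assoc, ← invSub_comm hS h2 (inv_mem hp) hx,
        mul_inv_cancel_right]
      exact inv_mem hp
    · obtain ⟨w, hw, hwz, hfpf⟩ := exists_fpf_cube hS h2 hC
      refine Or.inr (Or.inl ⟨w, ?_, hwz, fun x hx hm => hfpf x (hT ▸ hx) hm⟩)
      rw [hT]; exact hN (Subgroup.mem_inf.1 hw).1

end Cfsg.Agent.Gold1169.KindPf

namespace Cfsg.Agent.Gold1169

universe u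

open scoped Pointwise in
open KindPf in
/-- The facts in a simple group with a strongly embedded subgroup. -/
theorem facts_se (K : Type u) [Group K] [Finite K] [IsSimpleGroup K] {H : Subgroup K}
    (hH : Cfsg.IsStronglyEmbedded H) (T : Sylow 2 K) : ∃ P : Subgroup K, Facts K T P := by
  haveI : Fact (Nat.Prime 2) := ⟨Nat.prime_two⟩
  obtain ⟨Q₀, hQ₀⟩ := SEMain.exists_reg_simple SEMain.stmt hH
  obtain ⟨S, hS0⟩ := hQ₀.exists_sylow hH
  obtain ⟨g, hg⟩ := MulAction.exists_smul_eq K S T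
  set H' := MulAction.stabilizer K (g • ((1 : K) : K ⧸ H)) with hH'def
  have hH' : Cfsg.IsStronglyEmbedded H' := SEMain.se_stab hH _
  have hTH : (T : Subgroup K) ≤ H' := by
    rw [← hg, Sylow.coe_subgroup_smul, hH'def, MulAction.stabilizer_smul_eq_stabilizer_map_conj,
      MulAction.stabilizer_quotient, hS0]
    exact Subgroup.map_mono hQ₀.le
  obtain ⟨Q, hQ⟩ := SEMain.exists_reg_simple SEMain.stmt hH'
  have hTQ : (T : Subgroup K) = Q := by
    refine (T.is_maximal' hQ.two fun x hx => ?_).symm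
    obtain ⟨k, hk⟩ := T.isPGroup' ⟨x, hx⟩
    obtain ⟨i, -, hi⟩ := (Nat.dvd_prime_pow Nat.prime_two).1
      (orderOf_dvd_of_pow_eq_one (congrArg Subtype.val hk : x ^ 2 ^ k = 1))
    exact hQ.mem_of_two hH' (hTH hx) ⟨i, hi⟩
  haveI := RankOne.faithful_of_simple hH'.1
  obtain ⟨t, hSt⟩ := RankOne.exists_setup hH' hQ.le hQ.norm hQ.trans hQ.reg
  have h2 := RankOne.exists_commuting_of_simple hH'
  refine ⟨_, facts_setup hSt h2 hQ.two ?_ T hTQ⟩
  rw [MulAction.stabilizer_quotient]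
  exact hQ.isSolvable hH'

end Cfsg.Agent.Gold1169
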