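import Cfsg.Agent.Lib.Gold1169.Base
import Cfsg.Agent.Lib.RankOneW.NoTrivW
import Cfsg.Agent.Lib.RankOne.TwoGroupCases

/-!
The split rank-one set-up of a group with a strongly embedded subgroup: squares and commutators of `Q` lie in
the group `P` of its involutions, and an automorphism fixing the base point, the torus and trivial on `P` and
on `Q ⧸ P` is trivial on `Q`.
-/

set_option autoImplicit false
set_option linter.style.haveILetI false
set_option linter.unusedSectionVars false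

namespace Cfsg.Agent.Gold1169.KindPf

open MulAction
open Cfsg.Agent.RankOne

universe u v

/-- An element of odd order squaring to one is trivial. -/
theorem eq_one_of_pow_odd {X : Type*} [Group X] {z : X} {n : ℕ} (hn : Odd n) (h2 : z * z = 1)
    (h : z ^ n = 1) : z = 1 := by
  obtain ⟨k, rfl⟩ := hn
  rwa [pow_succ, pow_mul, pow_two, h2, one_pow, one_mul] at h

variable {G : Type u} {Ω : Type u} [Group G] [MulAction G Ω] {a : Ω} {t : G} {Q : Subgroup G}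
variable [Finite G] [FaithfulSMul G Ω] (hS : Cfsg.IsRankOneSetup G Ω a t Q)
  (h2 : ∃ x y : G, x ≠ 1 ∧ y ≠ 1 ∧ x ≠ y ∧ x * x = 1 ∧ y * y = 1 ∧ x * y = y * x)
  (hP : IsPGroup 2 Q)
include hS h2

local notation "Z" => invSub hS h2

theorem mem_Z_iff {x : G} (hx : x ∈ Q) : x * x = 1 ↔ x ∈ Z :=
  ⟨mem_invSub_of_sq hS h2 hx, invSub_sq hS h2⟩

theorem smul_a_Z {x : G} (hx : x ∈ Z) : x • a = a := smul_a hS (invSub_le_Q hS h2 hx)

theorem exists_ne_Z : ∃ x ∈ Z, x ≠ 1 := by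
  obtain ⟨s, -, hs, -⟩ := two_invol_fixing hS h2
  exact ⟨s, Or.inr hs, hs.2.1⟩

include hP in
/-- Squares and commutators are involutions. -/
theorem sq_comm_mem :
    (∀ x ∈ Q, x * x ∈ Z) ∧ ∀ x ∈ Q, ∀ y ∈ Q, x * y * x⁻¹ * y⁻¹ ∈ Z := by
  classical
  haveI := Fact.mk Nat.prime_two
  by_cases hab : ∀ x ∈ Q, ∀ y ∈ Q, x * y = y * x
  · refine ⟨fun x hx => ?_, fun x hx y hy => ?_⟩
    · rw [abelian_exponent_two hS h2 hab hP x hx]; exact one_mem _
    · rw [hab x hx y hy, mul_inv_cancel_right, mul_inv_cancel]; exact one_mem _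
  push Not at hab
  obtain ⟨x₀, hx₀, y₀, hy₀, hne⟩ := hab
  let S : Sylow 2 Q :=
    { toSubgroup := ⊤
      isPGroup' := hP.to_subgroup _
      is_maximal' := fun _ h => top_le_iff.1 h }
  have hsuz : Cfsg.IsSuzukiTwoGroup ↥(⊤ : Subgroup Q) := by
    refine (sylow_two_abelian_or_suzuki hS h2 S).resolve_left fun h => hne ?_
    exact congrArg (fun z : (⊤ : Subgroup Q) => ((z : Q) : G))
      (h.1.comm ⟨⟨x₀, hx₀⟩, trivial⟩ ⟨⟨y₀, hy₀⟩, trivial⟩)
  obtain ⟨D, hfin⟩ := Suzuki2.exists_datum hsuz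
  have hna := hsuz.2.2.1
  refine ⟨fun x hx => ?_, fun x hx y hy => ?_⟩
  · refine mem_invSub_of_sq hS h2 (mul_mem hx hx) ?_
    exact congrArg (fun z : (⊤ : Subgroup Q) => ((z : Q) : G))
      (D.mem_V.1 (D.sq_mem_V hna ⟨⟨x, hx⟩, trivial⟩))
  · refine mem_invSub_of_sq hS h2 (mul_mem (mul_mem (mul_mem hx hy) (inv_mem hx)) (inv_mem hy)) ?_
    exact congrArg (fun z : (⊤ : Subgroup Q) => ((z : Q) : G))
      (D.mem_V.1 (D.comm_mem_V hna ⟨⟨x, hx⟩, trivial⟩ ⟨⟨y, hy⟩, trivial⟩))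

include hP in
/-- `Q` is `P` or non-abelian of order the square or the cube of that of `P`. -/
theorem cases_Q : (∀ x ∈ Q, x ∈ Z) ∨ (∃ x ∈ Q, ∃ y ∈ Q, x * y ≠ y * x) ∧
    (Nat.card Q = Nat.card Z ^ 2 ∨ IsCube a t Q) := by
  classical
  haveI := Fact.mk Nat.prime_two
  by_cases hab : ∀ x ∈ Q, ∀ y ∈ Q, x * y = y * x
  · exact Or.inl fun x hx => mem_invSub_of_sq hS h2 hx (abelian_exponent_two hS h2 hab hP x hx)
  push Not at hab
  refine Or.inr ⟨hab, ?_⟩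
  obtain ⟨x₀, hx₀, y₀, hy₀, hne⟩ := hab
  let S : Sylow 2 Q :=
    { toSubgroup := ⊤
      isPGroup' := hP.to_subgroup _
      is_maximal' := fun _ h => top_le_iff.1 h }
  have hsuz : Cfsg.IsSuzukiTwoGroup ↥(⊤ : Subgroup Q) := by
    refine (sylow_two_abelian_or_suzuki hS h2 S).resolve_left fun h => hne ?_
    exact congrArg (fun z : (⊤ : Subgroup Q) => ((z : Q) : G))
      (h.1.comm ⟨⟨x₀, hx₀⟩, trivial⟩ ⟨⟨y₀, hy₀⟩, trivial⟩)
  obtain ⟨D, hfin⟩ := Suzuki2.exists_datum hsuz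
  have hV : Nat.card D.V = Nat.card Z := Nat.card_congr
    { toFun := fun x => ⟨((x.1 : Q) : G), mem_invSub_of_sq hS h2 (x.1 : Q).2
        (congrArg (fun z : (⊤ : Subgroup Q) => ((z : Q) : G)) (D.mem_V.1 x.2))⟩
      invFun := fun z => ⟨⟨⟨z, invSub_le_Q hS h2 z.2⟩, trivial⟩,
        D.mem_V.2 (Subtype.ext (Subtype.ext (invSub_sq hS h2 z.2)))⟩
      left_inv := fun x => rfl
      right_inv := fun z => rfl }
  rcases D.card_eq hsuz.2.2.1 with h | h <;> rw [Subgroup.card_top, hV] at h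
  · exact Or.inl h
  · exact Or.inr ⟨hP, h.trans (by rw [qSize_eq hS h2]), x₀, hx₀, y₀, hy₀, hne⟩

/-- An element of the torus fixing all of `Q` is trivial. -/
theorem eq_one_of_comm_Q {e : G} (he : e ∈ twoStab a t) (h : ∀ x ∈ Q, e * x = x * e) : e = 1 := by
  refine eq_of_smul_eq_smul (α := Ω) fun p => ?_
  rw [one_smul]
  by_cases hp : p = a
  · rw [hp]; exact (mem_twoStab hS he).1
  obtain ⟨q, hq, rfl⟩ := exists_q_smul hS hp
  rw [← mul_smul, h q hq, mul_smul, (mem_twoStab hS he).2]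

/-- An element of the torus centralising `P` and moving `x` inside `x P` centralises `x`. -/
theorem comm_of_mod {e x : G} (he : e ∈ twoStab a t) (hez : ∀ z ∈ Z, e * z = z * e)
    (hp : e * x * e⁻¹ * x⁻¹ ∈ Z) : e * x = x * e := by
  set p := e * x * e⁻¹ * x⁻¹ with hpdef
  have hm : ∀ m : ℕ, e ^ m * x * (e ^ m)⁻¹ = p ^ m * x := by
    intro m
    induction m with
    | zero => simp
    | succ m ih =>
      calc e ^ (m + 1) * x * (e ^ (m + 1))⁻¹ = e * (e ^ m * x * (e ^ m)⁻¹) * e⁻¹ := by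
            rw [pow_succ']; group
        _ = e * p ^ m * x * e⁻¹ := by rw [ih]; group
        _ = p ^ m * e * x * e⁻¹ := by rw [((show Commute e p from hez p hp).pow_right m).eq]
        _ = p ^ (m + 1) * x := by rw [pow_succ, hpdef]; group
  have h1 := hm (orderOf e)
  rw [pow_orderOf_eq_one, one_mul, inv_one, mul_one, right_eq_mul] at h1
  have h3 := eq_one_of_pow_odd (RankOne.odd_orderOf hS.odd_card he) (invSub_sq hS h2 hp) h1
  rw [hpdef, mul_inv_eq_one, mul_inv_eq_iff_eq_mul] at h3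
  exact h3

/-- The inverted elements are fixed point free on `Q ⧸ P`. -/
theorem fpf_mod {k x : G} (hk : k ∈ Cfsg.invertedBy (twoStab a t) t)
    (hx : x ∈ Q) (hxZ : x ∉ Z) (h : k * x * k⁻¹ * x⁻¹ ∈ Z) : k = 1 := by
  by_contra hk1
  set p := k * x * k⁻¹ * x⁻¹ with hp
  have h4 : k * (x * x) * k⁻¹ = x * x := by
    calc k * (x * x) * k⁻¹ = (p * x) * (p * x) := by rw [hp]; group
      _ = p * (x * p) * x := by group
      _ = p * (p * x) * x := by rw [invSub_comm hS h2 h hx]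
      _ = (p * p) * (x * x) := by group
      _ = x * x := by rw [invSub_sq hS h2 h, one_mul]
  have h5 : x * x ∈ Q ⊓ Subgroup.centralizer {k} := Subgroup.mem_inf.2 ⟨mul_mem hx hx,
    Subgroup.mem_centralizer_singleton_iff.2 (mul_inv_eq_iff_eq_mul.1 h4).symm⟩
  rw [inverted_fpf hS hk hk1, Subgroup.mem_bot] at h5
  exact hxZ (mem_invSub_of_sq hS h2 hx h5)

/-- For `|Q| = |P|²` the inverted elements are transitive on `Q ⧸ P`. -/
theorem trans_mod (hc : Nat.card Q = Nat.card Z ^ 2) {x y : G}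
    (hx : x ∈ Q) (hxZ : x ∉ Z) (hy : y ∈ Q) (hyZ : y ∉ Z) :
    ∃ k ∈ Cfsg.invertedBy (twoStab a t) t, ∃ p ∈ Z, y = k * x * k⁻¹ * p := by
  classical
  set J := Cfsg.invertedBy (twoStab a t) t with hJ
  have hconj : ∀ k ∈ J, k * x * k⁻¹ ∈ Q := fun k hk =>
    hS.conj_mem k (Subgroup.mem_inf.1 hk.1).1 x hx
  have hout : ∀ k ∈ J, ∀ p ∈ Z, k * x * k⁻¹ * p ∉ Z := by
    intro k hk p hp hm
    apply hxZ
    have h1 := conj_mem_invSub hS h2 (inv_mem hk.1) (mul_mem hm (inv_mem hp))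
    rwa [mul_inv_cancel_right, inv_inv, show k⁻¹ * (k * x * k⁻¹) * k = x by group] at h1
  let f : J × Z → {q : Q // (q : G) ∉ Z} := fun kp =>
    ⟨⟨(kp.1 : G) * x * (kp.1 : G)⁻¹ * kp.2, mul_mem (hconj _ kp.1.2) (invSub_le_Q hS h2 kp.2.2)⟩,
      hout _ kp.1.2 _ kp.2.2⟩
  have hinj : Function.Injective f := by
    rintro ⟨⟨k, hk⟩, ⟨p, hp⟩⟩ ⟨⟨l, hl⟩, ⟨r, hr⟩⟩ he
    have he' : k * x * k⁻¹ * p = l * x * l⁻¹ * r := congrArg (fun z : {q : Q // (q : G) ∉ Z} => ((z : Q) : G)) he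
    have hkl : k = l := by
      obtain ⟨k₀, hk₀, hiff, -, -⟩ := exists_generator hS h2
      have hm : l⁻¹ * k ∈ J := (hiff _).2 (mul_mem (inv_mem ((hiff l).1 hl)) ((hiff k).1 hk))
      have hz : l⁻¹ * k * x * (l⁻¹ * k)⁻¹ * x⁻¹ ∈ Z := by
        have h3 : l⁻¹ * k * x * (l⁻¹ * k)⁻¹ = x * (l⁻¹ * (r * p⁻¹) * l) := by
          calc l⁻¹ * k * x * (l⁻¹ * k)⁻¹ = l⁻¹ * (k * x * k⁻¹ * p) * p⁻¹ * l := by group
            _ = l⁻¹ * (l * x * l⁻¹ * r) * p⁻¹ * l := by rw [he']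
            _ = _ := by group
        have h4 : l⁻¹ * (r * p⁻¹) * l ∈ Z := by
          simpa using conj_mem_invSub hS h2 (inv_mem hl.1) (mul_mem hr (inv_mem hp))
        rw [h3, ← invSub_comm hS h2 h4 hx, mul_inv_cancel_right]
        exact h4
      exact (inv_mul_eq_one.1 (fpf_mod hS h2 hm hx hxZ hz)).symm
    subst hkl
    exact Prod.ext rfl (Subtype.ext (mul_left_cancel he'))
  have hcard : Nat.card {q : Q // (q : G) ∉ Z} ≤ Nat.card (J × Z) := by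
    haveI := Fintype.ofFinite ↥Q
    have hJ1 : Nat.card J + 1 = Nat.card Z := by
      rw [← qSize_eq hS h2]; rfl
    have hin : Nat.card {q : Q // (q : G) ∈ Z} = Nat.card Z :=
      Nat.card_congr
        { toFun := fun q => ⟨(q.1 : G), q.2⟩
          invFun := fun z => ⟨⟨z, invSub_le_Q hS h2 z.2⟩, z.2⟩
          left_inv := fun _ => rfl
          right_inv := fun _ => rfl }
    have hsum : Nat.card Q = Nat.card {q : Q // (q : G) ∈ Z} + Nat.card {q : Q // (q : G) ∉ Z} := by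
      rw [← Nat.card_sum]
      exact Nat.card_congr (Equiv.sumCompl _).symm
    rw [hc, hin, ← hJ1] at hsum
    rw [Nat.card_prod, ← hJ1]
    nlinarith [hsum]
  obtain ⟨⟨⟨k, hk⟩, ⟨p, hp⟩⟩, he⟩ := (hinj.bijective_of_nat_card_le hcard).2 ⟨⟨y, hy⟩, hyZ⟩
  exact ⟨k, hk, p, hp, (congrArg (fun z : {q : Q // (q : G) ∉ Z} => ((z : Q) : G)) he).symm⟩

/-- A homomorphism `Q → P` killing `P` and invariant under an element fixed point free on `Q ⧸ P` is trivial. -/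
theorem delta_eq_one {δ : G → G} {w x : G} (hw : w ∈ twoStab a t)
    (hfpf : ∀ y ∈ Q, w * y * w⁻¹ * y⁻¹ ∈ Z → y ∈ Z)
    (hcm : ∀ x ∈ Q, ∀ y ∈ Q, x * y * x⁻¹ * y⁻¹ ∈ Z)
    (hδm : ∀ x ∈ Q, ∀ y ∈ Q, δ (x * y) = δ x * δ y) (hδZ : ∀ x ∈ Q, δ x ∈ Z)
    (hδ1 : ∀ z ∈ Z, δ z = 1) (hδw : ∀ y ∈ Q, δ (w * y * w⁻¹) = δ y) (hx : x ∈ Q) : δ x = 1 := by
  have hwQ : ∀ y ∈ Q, w * y * w⁻¹ ∈ Q := hS.conj_mem w (Subgroup.mem_inf.1 hw).1
  let y : ℕ → G := fun n => Nat.rec 1 (fun _ z => x * (w * z * w⁻¹)) n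
  have hy0 : y 0 = 1 := rfl
  have hys : ∀ n, y (n + 1) = x * (w * y n * w⁻¹) := fun n => rfl
  have hyQ : ∀ n, y n ∈ Q := by
    intro n
    induction n with
    | zero => exact one_mem _
    | succ n ih => rw [hys]; exact mul_mem hx (hwQ _ ih)
  have hstep : ∀ n, y (n + 1) = y n * (w ^ n * x * (w ^ n)⁻¹) := by
    intro n
    induction n with
    | zero => rw [hys, hy0]; group
    | succ n ih =>
      calc y (n + 1 + 1) = x * (w * y (n + 1) * w⁻¹) := hys (n + 1)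
        _ = x * (w * y n * w⁻¹) * (w * (w ^ n * x * (w ^ n)⁻¹) * w⁻¹) := by rw [ih]; group
        _ = y (n + 1) * (w * (w ^ n * x * (w ^ n)⁻¹) * w⁻¹) := by rw [← hys]
        _ = _ := by rw [pow_succ' w n]; group
  have hδy : ∀ n, δ (y n) = δ x ^ n := by
    intro n
    induction n with
    | zero => rw [hy0, pow_zero]; exact hδ1 1 (one_mem _)
    | succ n ih => rw [hys, hδm x hx _ (hwQ _ (hyQ n)), hδw _ (hyQ n), ih, pow_succ']
  set m := orderOf w with hm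
  have hyZ : y m ∈ Z := by
    refine hfpf _ (hyQ m) ?_
    have h1 := hstep m
    rw [hm, pow_orderOf_eq_one, one_mul, inv_one, mul_one, ← hm, hys] at h1
    have h3 : w * y m * w⁻¹ = x⁻¹ * (y m * x) := by rw [← h1, inv_mul_cancel_left]
    rw [h3, show x⁻¹ * (y m * x) * (y m)⁻¹ = x⁻¹ * y m * x⁻¹⁻¹ * (y m)⁻¹ by group]
    exact hcm _ (inv_mem hx) _ (hyQ m)
  have h := hδy m
  rw [hδ1 _ hyZ] at h
  exact eq_one_of_pow_odd (RankOne.odd_orderOf hS.odd_card hw) (invSub_sq hS h2 (hδZ x hx)) h.symm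

/-- In the cube case an element of the torus centralising `P` is fixed point free on `Q ⧸ P`. -/
theorem exists_fpf_cube (hC : IsCube a t Q) : ∃ w ∈ twoStab a t, (∀ z ∈ Z, w * z = z * w) ∧
    ∀ y ∈ Q, w * y * w⁻¹ * y⁻¹ ∈ Z → y ∈ Z := by
  obtain ⟨w, hw, hw1⟩ : ∃ w ∈ wSub a t, w ≠ 1 := by
    by_contra h
    push Not at h
    exact wSub_ne_bot hS h2 hC ((Subgroup.eq_bot_iff_forall _).2 h)
  obtain ⟨hwD, hwz⟩ := (mem_wSub hS h2).1 hw
  exact ⟨w, hwD, hwz, fun y hy hm => cent_wSub hS h2 hC hw hw1 hy (comm_of_mod hS h2 hwD hwz hm)⟩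

include hP in
/-- The automorphism is trivial on `Q`. -/
theorem fix_Q {ψ : MulAut G} (hψZ : ∀ z ∈ Z, ψ z = z) (hψQ : ∀ x ∈ Q, ψ x * x⁻¹ ∈ Z)
    (hψD : ∀ d ∈ twoStab a t, ψ d = d) {x : G} (hx : x ∈ Q) : ψ x = x := by
  classical
  obtain ⟨hsq, hcm⟩ := sq_comm_mem hS h2 hP
  set δ : G → G := fun y => ψ y * y⁻¹ with hδ
  suffices h : δ x = 1 by exact mul_inv_eq_one.1 h
  have hδm : ∀ x ∈ Q, ∀ y ∈ Q, δ (x * y) = δ x * δ y := fun x hx y hy => by
    calc ψ (x * y) * (x * y)⁻¹ = ψ x * (ψ y * y⁻¹) * x⁻¹ := by rw [map_mul]; group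
      _ = ψ x * ((ψ y * y⁻¹) * x⁻¹) := by group
      _ = ψ x * (x⁻¹ * (ψ y * y⁻¹)) := by rw [invSub_comm hS h2 (hψQ y hy) (inv_mem hx)]
      _ = _ := by rw [hδ]; group
  have hδ1 : ∀ z ∈ Z, δ z = 1 := fun z hz => mul_inv_eq_one.2 (hψZ z hz)
  have hδD : ∀ d ∈ twoStab a t, ∀ y : G, δ (d * y * d⁻¹) = d * δ y * d⁻¹ := fun d hd y => by
    show ψ (d * y * d⁻¹) * (d * y * d⁻¹)⁻¹ = d * (ψ y * y⁻¹) * d⁻¹
    rw [map_mul, map_mul, map_inv, hψD d hd]; group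
  rcases cases_Q hS h2 hP with hall | ⟨⟨x₁, hx₁, y₁, hy₁, hne⟩, hc | hC⟩
  · exact hδ1 x (hall x hx)
  · by_contra hx0
    have hxZ : x ∉ Z := fun h => hx0 (hδ1 x h)
    have hxx : x * x ≠ 1 := fun h => hxZ (mem_invSub_of_sq hS h2 hx h)
    obtain ⟨k, hk, hkx⟩ := inverted_transitive hS
      ((hψQ x hx).resolve_left hx0) ((hsq x hx).resolve_left hxx)
    have hmap : ∀ y ∈ Q, y * y = k⁻¹ * δ y * k := by
      intro y hy
      by_cases hyZ : y ∈ Z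
      · rw [invSub_sq hS h2 hyZ, hδ1 y hyZ, mul_one, inv_mul_cancel]
      obtain ⟨l, hl, p, hp, rfl⟩ := trans_mod hS h2 hc hx hxZ hy hyZ
      have hlQ : l * x * l⁻¹ ∈ Q := hS.conj_mem l (Subgroup.mem_inf.1 hl.1).1 x hx
      have hcom : l * k⁻¹ = k⁻¹ * l := by
        obtain ⟨k₀, -, hiff, -, -⟩ := exists_generator hS h2
        obtain ⟨i, rfl⟩ := Subgroup.mem_zpowers_iff.1 ((hiff l).1 hl)
        obtain ⟨j, hj⟩ := Subgroup.mem_zpowers_iff.1 ((hiff k).1 hk)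
        rw [← hj, ← zpow_neg, ← zpow_add, ← zpow_add, add_comm]
      have hkl : k * l⁻¹ = l⁻¹ * k := by
        calc k * l⁻¹ = k * l⁻¹ * (k⁻¹ * k) := by group
          _ = k * (l⁻¹ * k⁻¹ * l) * l⁻¹ * k := by group
          _ = k * (l⁻¹ * (k⁻¹ * l)) * l⁻¹ * k := by group
          _ = _ := by rw [← hcom]; group
      calc l * x * l⁻¹ * p * (l * x * l⁻¹ * p) = l * x * l⁻¹ * (p * (l * x * l⁻¹)) * p := by group
        _ = l * x * l⁻¹ * ((l * x * l⁻¹) * p) * p := by rw [invSub_comm hS h2 hp hlQ]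
        _ = l * (x * x) * l⁻¹ * (p * p) := by group
        _ = l * (k⁻¹ * δ x * k) * l⁻¹ := by rw [invSub_sq hS h2 hp, mul_one, hkx]
        _ = (l * k⁻¹) * δ x * (k * l⁻¹) := by group
        _ = k⁻¹ * (l * δ x * l⁻¹) * k := by rw [hcom, hkl]; group
        _ = k⁻¹ * δ (l * x * l⁻¹ * p) * k := by
          rw [hδm _ hlQ p (invSub_le_Q hS h2 hp), hδ1 p hp, mul_one, hδD l hl.1]
    refine hne ?_
    have h := hmap _ (mul_mem hx₁ hy₁)
    have h' : x₁ * y₁ * (x₁ * y₁) = x₁ * x₁ * (y₁ * y₁) := by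
      rw [h, hmap x₁ hx₁, hmap y₁ hy₁, hδm x₁ hx₁ y₁ hy₁]; group
    calc x₁ * y₁ = x₁⁻¹ * (x₁ * x₁ * (y₁ * y₁)) * y₁⁻¹ := by group
      _ = y₁ * x₁ := by rw [← h']; group
  · obtain ⟨w, hw, hwz, hfpf⟩ := exists_fpf_cube hS h2 hC
    exact delta_eq_one hS h2 hw hfpf hcm hδm hψQ hδ1 (fun y hy => by
      rw [hδD w hw, hwz (δ y) (hψQ y hy), mul_inv_cancel_right]) hx

end Cfsg.Agent.Gold1169.KindPf
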