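import Cfsg.Agent.Lib.Gold1169.Base
import Cfsg.Agent.Lib.U34Rec.Recognition

/-!
Rank two with all involutions of `S` in `A`: the type of `U₃(4)`, which has a strongly embedded subgroup.
-/

set_option autoImplicit false
set_option linter.style.haveILetI false
set_option linter.unusedSectionVars false

namespace Cfsg.Agent.Gold1169

open Subgroup

universe u

/-- The unitary case. -/
theorem unitaryStmt : UnitaryStmt.{u} := by
  intro G _ _ S A hS _ hA4 hinv
  haveI := hS.simple
  haveI : Fact (Nat.Prime 2) := ⟨Nat.prime_two⟩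
  letI : Fintype (GaloisField 2 4) := Fintype.ofFinite _
  have hF : Fintype.card (GaloisField 2 4) = 16 := by
    rw [Fintype.card_eq_nat_card, GaloisField.card 2 4 (by norm_num)]; norm_num
  obtain ⟨P⟩ : Nonempty (Sylow 2 (Cfsg.PSU 3 (GaloisField 2 4) 4)) := inferInstance
  obtain ⟨a, ha, b, hb, hab⟩ :
      ∃ a ∈ (S : Subgroup G), ∃ b ∈ (S : Subgroup G), a * b ≠ b * a := by
    by_contra h
    push Not at h
    exact hS.nonabS ⟨⟨fun x y => Subtype.ext (h x x.2 y y.2)⟩⟩
  rcases U34Group.type_of_four S hS.closed.1 hA4 (fun x hx => by rw [← pow_two]; exact hS.ea.2 x hx) hinv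
    ⟨a, ha, b, hab⟩ hF P with ⟨hc, -⟩ | ⟨⟨e⟩⟩
  · exact hab (hc a ha b hb)
  · exact hS.noSE (U34Group.exists_se (U34Group.shape_of_equiv hF P e))

end Cfsg.Agent.Gold1169
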