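import Cfsg.Agent.Lib.Gold1169.Assembly
import Cfsg.Agent.Lib.Gold1169.Comb
import Cfsg.Agent.Lib.Gold1169.Kind
import Cfsg.Agent.Lib.Gold1169.Local.Balance
import Cfsg.Agent.Lib.Gold1169.Three.Family
import Cfsg.Agent.Lib.Gold1169.Two.Main
import Cfsg.Agent.Lib.Gold1169.Unitary
import Cfsg.Agent.Lib.Walter4.Rank4
import Cfsg.Agent.Lib.GoldCons.Basic

/-!
Goldschmidt's theorem on strongly closed abelian subgroups (S1169) from the gate, and the interfaces of its consumers.
-/

set_option autoImplicit false
set_option linter.style.haveILetI false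
set_option linter.unusedSectionVars false

namespace Cfsg.Agent.Gold1169

open Subgroup

universe u

/-- All parts but the gate are proved. -/
theorem parts_of (hg : GateCons.Gate.{u}) : Parts.{u} where
  kind := kindStmt
  loc := localStmt
  comb := combStmt
  fam := famStmt
  three := three_of famStmt
  two := Two.twoStmt
  unitary := unitaryStmt
  gate := hg
  walter := Walter4.good

/-- The theorem, from the gate. -/
theorem stmt_of (hg : GateCons.Gate.{u}) {G : Type u} [Group G] [Finite G] [IsSimpleGroup G] (S : Sylow 2 G)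
    (A : Subgroup G) (hA : A ≠ ⊥) (hAcomm : IsMulCommutative A)
    (hsc : Cfsg.IsStronglyClosed A (S : Subgroup G)) :
    IsMulCommutative (S : Subgroup G) ∨ ∃ H : Subgroup G, Cfsg.IsStronglyEmbedded H :=
  (parts_of hg).stmt S A hA hAcomm hsc

theorem closedStmt_of (hg : GateCons.Gate.{u}) : GoldCons.ClosedStmt.{u} :=
  fun _ _ _ hG S A hA hAcomm hsc => by
    haveI := hG
    exact stmt_of hg S A hA hAcomm hsc

theorem abelianStmt : GoldCons.AbelianStmt.{u} := Walter4.good

end Cfsg.Agent.Gold1169
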