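import Cfsg.Agent.Lib.Gold1169.Base
import Cfsg.Agent.Lib.Walter4.Systems
import Cfsg.Agent.Lib.LocalEven.AbelianClosed
import Cfsg.Agent.Lib.GateCons.Rows
import Cfsg.Agent.S0215
import Cfsg.Agent.Lib.Solvable.Structure
import Mathlib.GroupTheory.Focal

/-!
The minimal counterexample: basic properties, transport by `N(A)`, and the criterion ending every case.
-/

set_option autoImplicit false
set_option linter.style.haveILetI false
set_option linter.unusedSectionVars false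

namespace Cfsg.Agent.Gold1169

open Subgroup
open Cfsg.Agent.Walter4 (cen cenS ocen cor XB pre CA Good mem_pre cor_zpowers map_pre_conj)
open Cfsg.Agent.OddDown.CoreSep (q im mem_im)

universe u

attribute [local instance] FittingCores.pPrimeCore_normal

open scoped commutatorElement

variable {G : Type u} [Group G] [Finite G]

/-- A component is moved if and only if some element of `A ∩ C(B)` does not centralise it. -/
theorem fixes_iff {A B : Subgroup G} {L : Subgroup (XB B)} :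
    L ≤ centralizer (im (cenS B) A : Set (XB B)) ↔
      A ⊓ cenS B ≤ pre B (centralizer (L : Set (XB B))) := by
  rw [le_centralizer_iff]
  constructor
  · rintro h a ⟨ha, ha'⟩
    exact mem_pre.2 ⟨ha', h (mem_im ha ha')⟩
  · rintro h _ ⟨⟨a, ha'⟩, ha, rfl⟩
    obtain ⟨_, hq⟩ := mem_pre.1 (h ⟨ha, ha'⟩)
    exact hq

namespace Setup

variable {S : Sylow 2 G} {A : Subgroup G} (hS : Setup S A)
include hS

theorem le : A ≤ (S : Subgroup G) := hS.closed.1

theorem comm {a b : G} (ha : a ∈ A) (hb : b ∈ A) : a * b = b * a :=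
  haveI := hS.ea.1
  congrArg Subtype.val (mul_comm' (⟨a, ha⟩ : ↥A) ⟨b, hb⟩)

theorem sq {a : G} (ha : a ∈ A) : a * a = 1 := by
  rw [← pow_two]
  exact hS.ea.2 a ha

theorem inv_eq {a : G} (ha : a ∈ A) : a⁻¹ = a := inv_eq_of_mul_eq_one_right (hS.sq ha)

theorem orderOf_eq {a : G} (ha : a ∈ A) (h : a ≠ 1) : orderOf a = 2 := by
  haveI : Fact (Nat.Prime 2) := ⟨Nat.prime_two⟩
  exact orderOf_eq_prime (hS.ea.2 a ha) h

theorem nonab : ¬ IsMulCommutative G := fun h =>
  hS.nonabS ⟨⟨fun a b => Subtype.ext (h.is_comm.comm (a : G) b)⟩⟩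

theorem isPGroup : IsPGroup 2 ↥A := fun a => ⟨1, Subtype.ext (hS.ea.2 a a.2)⟩

theorem le_cenS {B : Subgroup G} (hB : B ≤ A) : A ≤ cenS B := fun _ ha =>
  mem_centralizer_iff.2 fun _ hb => hS.comm (hB hb) ha

theorem loc {B : Subgroup G} (hB : B ≤ A) (hB0 : B ≠ ⊥) : Loc A B :=
  ⟨hS.isPGroup.to_le hB, hB0, fun _ hb => hS.le_cenS le_rfl (hB hb)⟩

theorem loc_zpowers {a : G} (ha : a ∈ A) (h : a ≠ 1) : Loc A (zpowers a) :=
  hS.loc (zpowers_le.2 ha) fun e => h (zpowers_eq_bot.1 e)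

theorem S_le_normalizer : (S : Subgroup G) ≤ normalizer (A : Set G) :=
  Subgroup.le_normalizer_iff.2 fun s hs a ha =>
    hS.closed.2 a ha s (mul_mem (mul_mem hs (hS.le ha)) (inv_mem hs))

theorem conj_mem_iff {g : G} (hg : g ∈ normalizer (A : Set G)) {x : G} : x ∈ A ↔ g * x * g⁻¹ ∈ A :=
  mem_normalizer_iff.1 hg x

/-- `N(A)` controls fusion in `S`. -/
theorem control (X : Set G) (hX : ∀ x ∈ X, x ∈ (S : Subgroup G)) {g : G}
    (hg : ∀ x ∈ X, g * x * g⁻¹ ∈ (S : Subgroup G)) :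
    ∃ n ∈ normalizer (A : Set G), ∀ x ∈ X, g * x * g⁻¹ = n * x * n⁻¹ := by
  haveI : Fact (Nat.Prime 2) := ⟨Nat.prime_two⟩
  haveI := hS.ea.1
  exact LEAbelianClosed.controls S hS.closed X hX g hg

theorem eq_bot_of_normal {N : Subgroup G} (hN : N.Normal) (h : N ≠ ⊤) : N = ⊥ :=
  haveI := hS.simple
  hN.eq_bot_or_eq_top.resolve_right h

theorem ne_top : A ≠ ⊤ := fun h =>
  hS.nonab ⟨⟨fun _ _ => hS.comm (h ▸ mem_top _) (h ▸ mem_top _)⟩⟩

theorem normalizer_ne_top : normalizer (A : Set G) ≠ ⊤ := fun h =>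
  hS.ne (hS.eq_bot_of_normal (normalizer_eq_top_iff.1 h) hS.ne_top)

theorem cen_ne_top {a : G} (h : a ≠ 1) : cen a ≠ ⊤ := fun htop => by
  haveI := hS.simple
  have hz : a ∈ center G := mem_center_iff.2 fun g => mem_centralizer_singleton_iff.1 (show g ∈ cen a by rw [htop]; exact mem_top g)
  rcases (inferInstance : (center G).Normal).eq_bot_or_eq_top with hc | hc
  · exact h (mem_bot.1 (hc ▸ hz))
  · exact hS.nonab ⟨⟨fun x y => mem_center_iff.1 (hc ▸ mem_top y) x⟩⟩

theorem commutator_eq_top : _root_.commutator G = ⊤ := by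
  by_contra h
  have hb := hS.eq_bot_of_normal (Subgroup.commutator_normal ⊤ ⊤) h
  refine hS.nonab ⟨⟨fun x y => commutatorElement_eq_one_iff_mul_comm.1 (mem_bot.1 ?_)⟩⟩
  rw [← hb]
  exact commutator_mem_commutator (mem_top x) (mem_top y)

/-- An element of `A` central in `S`. -/
theorem exists_central : ∃ z ∈ A, z ≠ 1 ∧ ∀ s ∈ (S : Subgroup G), Commute s z := by
  haveI : Fact (Nat.Prime 2) := ⟨Nat.prime_two⟩
  haveI : (A.subgroupOf (S : Subgroup G)).Normal :=
    (normal_subgroupOf_iff_le_normalizer hS.le).2 hS.S_le_normalizer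
  have hne : (A.subgroupOf (S : Subgroup G)) ≠ ⊥ := fun h => by
    rw [subgroupOf_eq_bot, disjoint_iff, inf_eq_left.2 hS.le] at h
    exact hS.ne h
  haveI := S.isPGroup'.isNilpotent
  obtain ⟨z, hz, hz1⟩ := (A.subgroupOf (S : Subgroup G) ⊓ center _).bot_or_exists_ne_one.resolve_left
    (SolvStruct.inf_center_ne_bot hne)
  exact ⟨z, hz.1, fun e => hz1 (Subtype.ext e), fun s hs =>
    congrArg Subtype.val (mem_center_iff.1 hz.2 ⟨s, hs⟩)⟩

theorem four : 4 ≤ Nat.card A := by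
  haveI : Fact (Nat.Prime 2) := ⟨Nat.prime_two⟩
  obtain ⟨z, hz, hz1, hzS⟩ := hS.exists_central
  by_contra h
  have h2 : ∀ a ∈ A, a ≠ 1 → a = z := fun a ha ha1 => by
    by_contra hne
    obtain ⟨k, hk⟩ := IsPGroup.iff_card.1 hS.isPGroup
    have h3 : ({1, ⟨z, hz⟩, ⟨a, ha⟩} : Set ↥A).ncard = 3 := by
      rw [Set.ncard_eq_three]
      exact ⟨1, ⟨z, hz⟩, ⟨a, ha⟩, fun e => hz1 (congrArg Subtype.val e.symm),
        fun e => ha1 (congrArg Subtype.val e.symm), fun e => hne (congrArg Subtype.val e.symm), rfl⟩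
    have h4 := Set.ncard_le_card ({1, ⟨z, hz⟩, ⟨a, ha⟩} : Set ↥A)
    rcases k with _ | _ | k
    · simp_all
    · simp_all
    · have : 2 ^ 2 ≤ 2 ^ (k + 2) := Nat.pow_le_pow_right (by omega) (by omega)
      omega
  have hsimple := hS.simple
  obtain ⟨N, hN, hodd, hcomm⟩ := Cfsg.Agent.S0215.result S z (hS.orderOf_eq hz hz1) (hS.le hz)
    fun g hg => h2 _ (hS.closed.2 z hz g hg) fun e => hz1 (conj_eq_one_iff.1 e)
  rcases hN.eq_bot_or_eq_top with hb | ht
  · refine hS.cen_ne_top hz1 (eq_top_iff.2 fun g _ => mem_centralizer_singleton_iff.2 ?_)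
    have := hcomm g
    rw [hb, mem_bot] at this
    exact (commutatorElement_eq_one_iff_mul_comm.1 this).symm
  · rw [ht, card_top] at hodd
    have := orderOf_dvd_natCard z
    rw [hS.orderOf_eq hz hz1] at this
    exact (Nat.not_even_iff_odd.2 hodd) (even_iff_two_dvd.2 this)

/-- `N(A)` has no subgroup of index 2. -/
theorem no_index_two (K : Subgroup ↥(normalizer (A : Set G))) : K.index ≠ 2 := by
  intro hK
  haveI : Fact (Nat.Prime 2) := ⟨Nat.prime_two⟩
  haveI : K.Normal := normal_of_index_eq_two hK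
  have hcomm : ∀ a b : ↥(normalizer (A : Set G)), ⁅a, b⁆ ∈ K := fun a b => by
    have e : ∀ x y, x ∈ K ↔ (y ∈ K ↔ x * y ∈ K) := fun x y => by
      rw [mul_mem_iff_of_index_two hK]; tauto
    rw [commutatorElement_def, mul_mem_iff_of_index_two hK, mul_mem_iff_of_index_two hK,
      mul_mem_iff_of_index_two hK, inv_mem_iff, inv_mem_iff]
    tauto
  have hle : ((S.subtype hS.S_le_normalizer : Sylow 2 _) : Subgroup _) ≤ K := by
    rw [Sylow.coe_subtype]
    intro s hs
    have hs' : (s : G) ∈ _root_.commutator G ⊓ (S : Subgroup G) := by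
      rw [hS.commutator_eq_top]
      exact ⟨mem_top _, hs⟩
    rw [Subgroup.commutator_inf_eq_focalSubgroup] at hs'
    suffices h : (S : Subgroup G).focalSubgroup ≤ K.map (Subgroup.subtype _) by
      obtain ⟨t, ht, he⟩ := h hs'
      rwa [Subtype.ext he] at ht
    rw [Subgroup.focalSubgroup_def, closure_le]
    rintro g ⟨hg, x, hx, u, rfl⟩
    have hu : u * x⁻¹ * u⁻¹ ∈ (S : Subgroup G) := by
      have := mul_mem (inv_mem hx) hg
      rwa [commutatorElement_def, show x⁻¹ * (x * u * x⁻¹ * u⁻¹) = u * x⁻¹ * u⁻¹ by group] at this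
    obtain ⟨n, hn, he⟩ := hS.control {x⁻¹} (fun y hy => by obtain rfl := hy; exact inv_mem hx)
      (g := u) fun y hy => by obtain rfl := hy; exact hu
    refine ⟨⁅(⟨x, hS.S_le_normalizer hx⟩ : ↥(normalizer (A : Set G))), ⟨n, hn⟩⁆, hcomm _ _, ?_⟩
    show x * n * x⁻¹ * n⁻¹ = x * u * x⁻¹ * u⁻¹
    rw [mul_assoc x n, mul_assoc x, ← he _ rfl]
    group
  refine (S.subtype hS.S_le_normalizer).not_dvd_index ?_
  have := index_dvd_of_le hle
  rwa [hK] at this

/-- Conjugation by `N(A)` carries the moved components to moved components. -/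
theorem layA_conj {n : G} (hn : n ∈ normalizer (A : Set G)) (B : Subgroup G) :
    (layA A B).map (MulAut.conj n).toMonoidHom ≤ layA A (B.map (MulAut.conj n).toMonoidHom) ∧
      (cor B).map (MulAut.conj n).toMonoidHom ≤ cor (B.map (MulAut.conj n).toMonoidHom) := by
  set B' := B.map (MulAut.conj n).toMonoidHom with hB'
  have hcen : ∀ x, x ∈ cenS B ↔ n * x * n⁻¹ ∈ cenS B' := fun x => by
    rw [hB']
    simp only [cenS, mem_centralizer_iff, SetLike.mem_coe, mem_map, MulEquiv.coe_toMonoidHom,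
      MulAut.conj_apply]
    constructor
    · rintro h _ ⟨b, hb, rfl⟩
      rw [conj_mul, conj_mul, h b hb]
    · intro h b hb
      have := h _ ⟨b, hb, rfl⟩
      rw [conj_mul, conj_mul] at this
      exact mul_left_cancel (mul_right_cancel this)
  obtain ⟨f, hf⟩ := map_pre_conj hcen
  have hmap : ∀ X : Subgroup (XB B), (pre B X).map (MulAut.conj n).toMonoidHom ≤ pre B' (X.map f.toMonoidHom) := by
    rintro X _ ⟨x, hx, rfl⟩
    exact (hf X x).2 hx
  constructor
  · rw [layA, Subgroup.map_iSup]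
    refine iSup_le fun L => le_trans (hmap L) (le_iSup_of_le
      ⟨(L : Subgroup (XB B)).map f.toMonoidHom, Components.component_map_equiv f L.2.1, fun h => L.2.2 ?_⟩ le_rfl)
    rw [fixes_iff] at h ⊢
    rintro a ⟨ha, ha'⟩
    rw [← hf]
    rw [Components.map_centralizer_equiv]
    exact h ⟨(hS.conj_mem_iff hn).1 ha, (hcen a).1 ha'⟩
  · have e : ∀ X : Subgroup G, pre X (⊥ : Subgroup (XB X)) = cor X := fun X => by
      rw [pre, MonoidHom.comap_bot, QuotientGroup.ker_mk']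
    rw [← e, ← e]
    refine (hmap ⊥).trans (le_of_eq ?_)
    rw [Subgroup.map_bot]

/-- No proper subgroup contains the odd core and the moved components of every `C(a)`, `a` in `A#`. -/
theorem false_of_le (hL : Local A) {M : Subgroup G} (hM : M ≠ ⊤)
    (hcore : ∀ a ∈ A, a ≠ 1 → ocen a ≤ M) (hlay : ∀ a ∈ A, a ≠ 1 → layA A (zpowers a) ≤ M) : False := by
  haveI := hS.simple
  haveI : Fact (Nat.Prime 2) := ⟨Nat.prime_two⟩
  set Y : Subgroup G := ⨆ a : {a : G // a ∈ A ∧ a ≠ 1}, (ocen (a : G) ⊔ layA A (zpowers (a : G))) with hY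
  have hYM : Y ≤ M := iSup_le fun a => sup_le (hcore a a.2.1 a.2.2) (hlay a a.2.1 a.2.2)
  have hYtop : Y ≠ ⊤ := fun h => hM (top_le_iff.1 (h ▸ hYM))
  have hconj : ∀ n ∈ normalizer (A : Set G), Y.map (MulAut.conj n).toMonoidHom ≤ Y := fun n hn => by
    rw [hY, Subgroup.map_iSup]
    refine iSup_le fun a => ?_
    have ha : n * (a : G) * n⁻¹ ∈ A ∧ n * (a : G) * n⁻¹ ≠ 1 :=
      ⟨(hS.conj_mem_iff hn).1 a.2.1, fun e => a.2.2 (conj_eq_one_iff.1 e)⟩
    have hz : (zpowers (a : G)).map (MulAut.conj n).toMonoidHom = zpowers (n * (a : G) * n⁻¹) :=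
      MonoidHom.map_zpowers _ _
    refine le_iSup_of_le ⟨_, ha⟩ ?_
    obtain ⟨h1, h2⟩ := hS.layA_conj hn (zpowers (a : G))
    rw [hz] at h1 h2
    rw [cor_zpowers, cor_zpowers] at h2
    rw [Subgroup.map_sup]
    exact sup_le_sup h2 h1
  have hNY : normalizer (A : Set G) ≤ normalizer (Y : Set G) := fun n hn => by
    rw [← LEBasic.map_conj_eq_iff_mem_normalizer]
    exact eq_of_le_of_card_ge (hconj n hn) (LEBasic.card_map_conj Y n).ge
  obtain ⟨M', hM', hNA, hYM'⟩ : ∃ M' : Subgroup G, M' ≠ ⊤ ∧ normalizer (A : Set G) ≤ M' ∧ Y ≤ M' := by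
    by_cases hb : Y = ⊥
    · exact ⟨_, hS.normalizer_ne_top, le_rfl, hb ▸ bot_le⟩
    · exact ⟨_, fun h => hb (hS.eq_bot_of_normal (normalizer_eq_top_iff.1 h) hYtop), hNY,
        Subgroup.le_normalizer⟩
  have hcen : ∀ a ∈ A, a ≠ 1 → cen a ≤ M' := fun a ha ha1 => by
    have hg := hL.gen (zpowers a) (hS.loc_zpowers ha ha1)
    rw [cor_zpowers] at hg
    rw [show cen a = cenS (zpowers a) by rw [cenS, cen, zpowers_eq_closure, centralizer_closure]]
    refine hg.trans (sup_le ?_ (inf_le_left.trans hNA))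
    exact le_trans (le_iSup_of_le (⟨a, ha, ha1⟩ : {a : G // a ∈ A ∧ a ≠ 1}) le_rfl) hYM'
  obtain ⟨z, hz, hz1, hzS⟩ := hS.exists_central
  have hSM : (S : Subgroup G) ≤ M' := hS.S_le_normalizer.trans hNA
  have hzM : z ∈ M' := hSM (hS.le hz)
  have hzC : cen z ≤ M' := hcen z hz hz1
  have hz2 := hS.orderOf_eq hz hz1
  refine hS.noSE (GateCons.S1175_of hS.gate M' hM' z hz2 hzM ⟨S, hS.le hz, hzS⟩
    (fun g hg => ?_) fun g hcom hne => ?_)
  · have hp : IsPGroup 2 ↥(zpowers (⟨_, hg⟩ : ↥M')) := by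
      refine IsPGroup.of_card (n := 1) ?_
      rw [Nat.card_zpowers, Subgroup.orderOf_mk, pow_one]
      rw [show g * z * g⁻¹ = MulAut.conj g z from rfl, MulEquiv.orderOf_eq]
      exact hz2
    obtain ⟨T, hT⟩ := hp.exists_le_sylow
    obtain ⟨m, hm⟩ := MulAction.exists_smul_eq ↥M' T (S.subtype hSM)
    have hmem : (m : G) * (g * z * g⁻¹) * (m : G)⁻¹ ∈ (S : Subgroup G) := by
      have : m * ⟨_, hg⟩ * m⁻¹ ∈ ((S.subtype hSM : Sylow 2 ↥M') : Subgroup ↥M') := by
        rw [← hm, Sylow.coe_subgroup_smul]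
        exact ⟨_, hT (mem_zpowers _), rfl⟩
      rw [Sylow.coe_subtype] at this
      exact this
    obtain ⟨n, hn, he⟩ := hS.control {z} (fun x hx => by obtain rfl := hx; exact hS.le hz)
      (g := (m : G) * g) (fun x hx => by
        obtain rfl := hx
        rw [show (m : G) * g * x * ((m : G) * g)⁻¹ = (m : G) * (g * x * g⁻¹) * (m : G)⁻¹ by group]
        exact hmem)
    have hc : n⁻¹ * ((m : G) * g) ∈ cen z := mem_centralizer_singleton_iff.2 (by
      calc n⁻¹ * ((m : G) * g) * z = n⁻¹ * ((m : G) * g * z * ((m : G) * g)⁻¹) * ((m : G) * g) := by group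
        _ = n⁻¹ * (n * z * n⁻¹) * ((m : G) * g) := by rw [he z rfl]
        _ = z * (n⁻¹ * ((m : G) * g)) := by group)
    have := mul_mem (inv_mem m.2) (mul_mem (hNA hn) (hzC hc))
    rwa [mul_inv_cancel_left, inv_mul_cancel_left] at this
  · have hSC : (S : Subgroup G) ≤ cen z := fun s hs => mem_centralizer_singleton_iff.2 (hzS s hs)
    have heC : g * z * g⁻¹ ∈ cen z := mem_centralizer_singleton_iff.2 hcom.eq.symm
    have hp : IsPGroup 2 ↥(zpowers (⟨_, heC⟩ : ↥(cen z))) := by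
      refine IsPGroup.of_card (n := 1) ?_
      rw [Nat.card_zpowers, Subgroup.orderOf_mk, pow_one]
      rw [show g * z * g⁻¹ = MulAut.conj g z from rfl, MulEquiv.orderOf_eq]
      exact hz2
    obtain ⟨T, hT⟩ := hp.exists_le_sylow
    obtain ⟨c, hc⟩ := MulAction.exists_smul_eq ↥(cen z) T (S.subtype hSC)
    have hmem : (c : G) * (g * z * g⁻¹) * (c : G)⁻¹ ∈ (S : Subgroup G) := by
      have : c * ⟨_, heC⟩ * c⁻¹ ∈ ((S.subtype hSC : Sylow 2 ↥(cen z)) : Subgroup ↥(cen z)) := by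
        rw [← hc, Sylow.coe_subgroup_smul]
        exact ⟨_, hT (mem_zpowers _), rfl⟩
      rw [Sylow.coe_subtype] at this
      exact this
    have heA : (c : G) * (g * z * g⁻¹) * (c : G)⁻¹ ∈ A := by
      rw [show (c : G) * (g * z * g⁻¹) * (c : G)⁻¹ = (c : G) * g * z * ((c : G) * g)⁻¹ by group]
      refine hS.closed.2 z hz _ ?_
      rwa [show (c : G) * g * z * ((c : G) * g)⁻¹ = (c : G) * (g * z * g⁻¹) * (c : G)⁻¹ by group]
    have hcz : (c : G) * z * (c : G)⁻¹ = z := by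
      rw [mem_centralizer_singleton_iff.1 c.2, mul_inv_cancel_right]
    have hwA : (c : G) * (z * (g * z * g⁻¹)) * (c : G)⁻¹ ∈ A := by
      rw [← conj_mul, hcz]
      exact mul_mem hz heA
    have hw1 : (c : G) * (z * (g * z * g⁻¹)) * (c : G)⁻¹ ≠ 1 := fun e => hne (by
      have := mul_eq_one_iff_eq_inv.1 (conj_eq_one_iff.1 e)
      rw [← inv_inv (g * z * g⁻¹), ← this, hS.inv_eq hz])
    intro x hx
    have hcx : (c : G) * x * (c : G)⁻¹ ∈ cen ((c : G) * (z * (g * z * g⁻¹)) * (c : G)⁻¹) :=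
      mem_centralizer_singleton_iff.2 (by rw [conj_mul, conj_mul, mem_centralizer_singleton_iff.1 hx])
    have := mul_mem (mul_mem (inv_mem (hzC c.2)) (hcen _ hwA hw1 hcx)) (hzC c.2)
    rwa [show (c : G)⁻¹ * ((c : G) * x * (c : G)⁻¹) * (c : G) = x by group] at this

end Setup

end Cfsg.Agent.Gold1169
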